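import Cfsg.Agent.RecogB.Derangement
import Cfsg.Agent.Lib.Perm.MinimalNormal

/-! Simple factors of nonabelian minimal normal subgroups, and their derangements. -/

set_option autoImplicit false

namespace Cfsg.Agent.RecogB

open MulAction

variable {G : Type*} [Group G]

/-- Conjugate subgroup. -/
def cj (g : G) (T : Subgroup G) : Subgroup G := T.map (MulAut.conj g).toMonoidHom

lemma mem_cj {g : G} {T : Subgroup G} {x : G} : x ∈ cj g T ↔ g⁻¹ * x * g ∈ T := by
  constructor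
  · rintro ⟨y, hy, rfl⟩
    simpa [mul_assoc] using hy
  · intro h
    exact ⟨_, h, by simp [mul_assoc]⟩

lemma conj_mem_cj {g : G} {T : Subgroup G} {x : G} (hx : x ∈ T) : g * x * g⁻¹ ∈ cj g T :=
  mem_cj.mpr (by simpa [mul_assoc] using hx)

/-- A factor of `N`: a nonabelian simple subgroup of `N` normalised by `N`. -/
structure IsFactor (N T : Subgroup G) : Prop where
  le : T ≤ N
  nrm : ∀ n ∈ N, ∀ x ∈ T, n * x * n⁻¹ ∈ T
  simple : IsSimpleGroup T
  nonab : ¬ IsMulCommutative T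

lemma IsFactor.ne_bot {N T : Subgroup G} (h : IsFactor N T) : T ≠ ⊥ := by
  rintro rfl
  exact h.nonab inferInstance

lemma IsFactor.eq_bot_or_eq {N T : Subgroup G} (h : IsFactor N T) {K : Subgroup G}
    (hK : K ≤ T) (hn : ∀ x ∈ T, ∀ k ∈ K, x * k * x⁻¹ ∈ K) : K = ⊥ ∨ K = T := by
  have := h.simple
  have hKn : (K.subgroupOf T).Normal :=
    ⟨fun k hk g => by
      rw [Subgroup.mem_subgroupOf] at hk ⊢
      exact hn g g.2 k hk⟩
  rcases hKn.eq_bot_or_eq_top with h1 | h1
  · left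
    rw [Subgroup.subgroupOf_eq_bot, disjoint_iff, inf_eq_left.mpr hK] at h1
    exact h1
  · exact Or.inr (le_antisymm hK (Subgroup.subgroupOf_eq_top.mp h1))

lemma IsFactor.eq_one_of_central {N T : Subgroup G} (h : IsFactor N T) {x : G} (hx : x ∈ T)
    (hc : ∀ t ∈ T, x * t = t * x) : x = 1 := by
  let K : Subgroup G :=
    T ⊓ Subgroup.centralizer (T : Set G)
  rcases h.eq_bot_or_eq (K := K) inf_le_left (fun t ht k hk => by
      have : t * k * t⁻¹ = k := by
        rw [Subgroup.mem_centralizer_iff.mp hk.2 t ht, mul_inv_cancel_right]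
      rw [this]; exact hk) with h1 | h1
  · have : x ∈ K := ⟨hx, Subgroup.mem_centralizer_iff.mpr (fun t ht => (hc t ht).symm)⟩
    rwa [h1, Subgroup.mem_bot] at this
  · exfalso
    refine h.nonab ⟨⟨fun a b => Subtype.ext ?_⟩⟩
    have : (b : G) ∈ K := h1.symm ▸ b.2
    exact Subgroup.mem_centralizer_iff.mp this.2 a a.2

lemma IsFactor.eq_one_of_mem_centralizer {N T : Subgroup G} (h : IsFactor N T) {x : G} (hx : x ∈ T)
    (hc : x ∈ Subgroup.centralizer (T : Set G)) : x = 1 :=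
  h.eq_one_of_central hx (fun t ht => (Subgroup.mem_centralizer_iff.mp hc t ht).symm)

lemma IsFactor.cj {N T : Subgroup G} [hNn : N.Normal] (h : IsFactor N T) (g : G) :
    IsFactor N (cj g T) := by
  let e : T ≃* RecogB.cj g T := T.equivMapOfInjective _ (MulAut.conj g).injective
  refine ⟨?_, ?_, ?_, ?_⟩
  · intro x hx
    have := h.le (mem_cj.mp hx)
    have := hNn.conj_mem _ this g
    simpa [mul_assoc] using this
  · intro n hn x hx
    rw [mem_cj] at hx ⊢
    have := h.nrm (g⁻¹ * n * g) (by simpa [mul_assoc] using hNn.conj_mem n hn g⁻¹) _ hx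
    simpa [mul_assoc] using this
  · have := h.simple
    have : Nontrivial (RecogB.cj g T) := e.symm.toEquiv.nontrivial
    exact IsSimpleGroup.isSimpleGroup_of_surjective e.toMonoidHom e.surjective
  · intro hc
    refine h.nonab ⟨⟨fun a b => e.injective ?_⟩⟩
    rw [map_mul, map_mul]
    exact hc.is_comm.comm _ _

lemma IsFactor.eq_or_commute {N T T' : Subgroup G} (h : IsFactor N T) (h' : IsFactor N T') :
    T' = T ∨ ∀ x ∈ T, ∀ y ∈ T', x * y = y * x := by
  have key : ∀ x ∈ T, ∀ k ∈ T ⊓ T', x * k * x⁻¹ ∈ T ⊓ T' := fun x hx k hk =>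
    ⟨mul_mem (mul_mem hx hk.1) (Subgroup.inv_mem _ hx), h'.nrm x (h.le hx) k hk.2⟩
  rcases h.eq_bot_or_eq inf_le_left key with h1 | h1
  · right
    intro x hx y hy
    have hm : x * y * x⁻¹ * y⁻¹ ∈ T ⊓ T' := by
      refine ⟨?_, mul_mem (h'.nrm x (h.le hx) y hy) (Subgroup.inv_mem _ hy)⟩
      have := mul_mem hx (h.nrm y (h'.le hy) x⁻¹ (inv_mem hx))
      simpa [mul_assoc] using this
    rw [h1, Subgroup.mem_bot, mul_inv_eq_one, mul_inv_eq_iff_eq_mul] at hm
    exact hm
  · left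
    have hle : T ≤ T' := fun x hx => (h1.symm ▸ hx : x ∈ T ⊓ T').2
    rcases h'.eq_bot_or_eq hle (fun x hx k hk => h.nrm x (h'.le hx) k hk) with h2 | h2
    · exact absurd h2 h.ne_bot
    · exact h2.symm

lemma IsFactor.le_centralizer_of_ne {N T T' : Subgroup G} (h : IsFactor N T) (h' : IsFactor N T')
    (hne : T' ≠ T) : T' ≤ Subgroup.centralizer (T : Set G) := by
  intro y hy
  rw [Subgroup.mem_centralizer_iff]
  intro x hx
  exact ((h.eq_or_commute h').resolve_left hne) x hx y hy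

lemma IsFactor.self {N : Subgroup G} (hs : IsSimpleGroup N) (hna : ¬ IsMulCommutative N) :
    IsFactor N N :=
  ⟨le_refl _, fun _ hn _ hx => mul_mem (mul_mem hn hx) (inv_mem hn), hs, hna⟩

variable {N : Subgroup G} [hNn : N.Normal]

lemma IsFactor.generate {T : Subgroup G} (h : IsFactor N T)
    (hmin : ∀ M : Subgroup G, M.Normal → M ≤ N → M = ⊥ ∨ M = N) :
    ⨆ g : G, RecogB.cj g T = N := by
  have hn : (⨆ g : G, RecogB.cj g T).Normal := by
    refine ⟨fun x hx g => ?_⟩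
    have hmap : (⨆ g : G, RecogB.cj g T).map (MulAut.conj g).toMonoidHom ≤ ⨆ g : G, RecogB.cj g T := by
      rw [Subgroup.map_iSup]
      refine iSup_le (fun k => le_trans ?_ (le_iSup _ (g * k)))
      rintro _ ⟨y, hy, rfl⟩
      rw [SetLike.mem_coe, mem_cj] at hy
      rw [mem_cj]
      simpa [mul_assoc] using hy
    exact hmap ⟨x, hx, by simp⟩
  rcases hmin _ hn (iSup_le fun g => (h.cj g).le) with h1 | h1
  · exfalso
    apply h.ne_bot
    rw [eq_bot_iff, ← h1]
    refine le_trans ?_ (le_iSup _ (1 : G))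
    intro x hx
    rw [mem_cj]; simpa using hx
  · exact h1

lemma exists_isFactor [Finite G] (hN : N ≠ ⊥)
    (hmin : ∀ M : Subgroup G, M.Normal → M ≤ N → M = ⊥ ∨ M = N) (hna : ¬ IsMulCommutative N) :
    ∃ T : Subgroup G, IsFactor N T := by
  let P : Subgroup G → Prop := fun T => T ≤ N ∧ T ≠ ⊥ ∧ ∀ n ∈ N, ∀ x ∈ T, n * x * n⁻¹ ∈ T
  obtain ⟨T, -, hT⟩ := exists_minimal_le_of_wellFoundedLT P N
    ⟨le_refl _, hN, fun n hn x hx => mul_mem (mul_mem hn hx) (inv_mem hn)⟩
  obtain ⟨⟨hTN, hTne, hTnr⟩, hTmin⟩ := hT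
  have hPcj : ∀ g : G, P (cj g T) := by
    intro g
    refine ⟨fun x hx => ?_, fun e => hTne ?_, fun n hn x hx => ?_⟩
    · have := hNn.conj_mem _ (hTN (mem_cj.mp hx)) g
      simpa [mul_assoc] using this
    · rw [cj, Subgroup.map_eq_bot_iff_of_injective _ (MulAut.conj g).injective] at e
      exact e
    · rw [mem_cj] at hx ⊢
      have := hTnr (g⁻¹ * n * g) (by simpa [mul_assoc] using hNn.conj_mem n hn g⁻¹) _ hx
      simpa [mul_assoc] using this
  have hcomm : ∀ g : G, cj g T = T ∨ ∀ x ∈ T, ∀ y ∈ cj g T, x * y = y * x := by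
    intro g
    by_cases hb : T ⊓ cj g T = ⊥
    · right
      intro x hx y hy
      have hm : x * y * x⁻¹ * y⁻¹ ∈ T ⊓ cj g T := by
        refine ⟨?_, mul_mem ((hPcj g).2.2 x (hTN hx) y hy) (Subgroup.inv_mem _ hy)⟩
        have := mul_mem hx (hTnr y ((hPcj g).1 hy) x⁻¹ (inv_mem hx))
        simpa [mul_assoc] using this
      rw [hb, Subgroup.mem_bot, mul_inv_eq_one, mul_inv_eq_iff_eq_mul] at hm
      exact hm
    · left
      have hP : P (T ⊓ cj g T) := ⟨inf_le_left.trans hTN, hb, fun n hn x hx =>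
        ⟨hTnr n hn x hx.1, (hPcj g).2.2 n hn x hx.2⟩⟩
      have hle : T ≤ cj g T := (hTmin hP inf_le_left).trans inf_le_right
      refine (Subgroup.eq_of_le_of_card_ge hle ?_).symm
      rw [cj, Subgroup.card_map_of_injective (MulAut.conj g).injective]
  have hsup : N ≤ ⨆ g : G, cj g T := by
    have hn : (⨆ g : G, cj g T).Normal := by
      refine ⟨fun x hx g => ?_⟩
      have hmap : (⨆ g : G, cj g T).map (MulAut.conj g).toMonoidHom ≤ ⨆ g : G, cj g T := by
        rw [Subgroup.map_iSup]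
        refine iSup_le (fun k => le_trans ?_ (le_iSup _ (g * k)))
        rintro _ ⟨y, hy, rfl⟩
        rw [SetLike.mem_coe, mem_cj] at hy
        rw [mem_cj]
        simpa [mul_assoc] using hy
      exact hmap ⟨x, hx, by simp⟩
    rcases hmin _ hn (iSup_le fun g => (hPcj g).1) with h1 | h1
    · exfalso
      apply hTne
      rw [eq_bot_iff, ← h1]
      refine le_trans ?_ (le_iSup _ (1 : G))
      intro x hx
      rw [mem_cj]; simpa using hx
    · exact h1.ge
  -- every normal subgroup of `T` is normalised by `N`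
  have hker : ∀ K : Subgroup G, K ≤ T → (∀ x ∈ T, ∀ k ∈ K, x * k * x⁻¹ ∈ K) →
      ∀ n ∈ N, ∀ k ∈ K, n * k * n⁻¹ ∈ K := by
    intro K hKT hK
    let M : Subgroup G := Subgroup.normalizer (K : Set G)
    have hM : N ≤ M := by
      refine hsup.trans (iSup_le fun g => ?_)
      intro y hy
      have hfin : ∀ z ∈ cj g T, ∀ k ∈ K, z * k * z⁻¹ ∈ K := by
        intro z hz k hk
        rcases hcomm g with h1 | h1
        · exact hK z (h1 ▸ hz) k hk
        · rw [← h1 k (hKT hk) z hz, mul_inv_cancel_right]; exact hk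
      show y ∈ Subgroup.normalizer (K : Set G)
      rw [Subgroup.mem_normalizer_iff]
      intro k
      refine ⟨hfin y hy k, fun hk => ?_⟩
      have := hfin y⁻¹ (inv_mem hy) _ hk
      simpa [mul_assoc] using this
    intro n hn k hk
    exact (Subgroup.mem_normalizer_iff.mp (hM hn) k).mp hk
  have : Nontrivial T := (Subgroup.nontrivial_iff_ne_bot T).mpr hTne
  refine ⟨T, hTN, hTnr, ⟨fun K hK => ?_⟩, fun hc => hna ?_⟩
  · by_cases hb : K.map T.subtype = ⊥
    · left
      rwa [Subgroup.map_eq_bot_iff_of_injective _ T.subtype_injective] at hb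
    · right
      have hKT : K.map T.subtype ≤ T := Subgroup.map_subtype_le K
      have hKn : ∀ x ∈ T, ∀ k ∈ K.map T.subtype, x * k * x⁻¹ ∈ K.map T.subtype := by
        rintro x hx _ ⟨k, hk, rfl⟩
        exact ⟨_, hK.conj_mem k hk ⟨x, hx⟩, rfl⟩
      have hP : P (K.map T.subtype) := ⟨hKT.trans hTN, hb, hker _ hKT hKn⟩
      have : T ≤ K.map T.subtype := hTmin hP hKT
      rw [eq_top_iff]
      intro k _
      obtain ⟨k', hk', e⟩ := this k.2
      rwa [Subtype.ext e] at hk'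
  · have hT : ∀ g, cj g T ≤ Subgroup.centralizer (T : Set G) := by
      intro g y hy
      rw [Subgroup.mem_centralizer_iff]
      intro x hx
      rcases hcomm g with h1 | h1
      · exact congrArg Subtype.val (hc.is_comm.comm (⟨x, hx⟩ : T) ⟨y, h1 ▸ hy⟩)
      · exact h1 x hx y hy
    have hNT : N ≤ Subgroup.centralizer (T : Set G) := hsup.trans (iSup_le hT)
    have hz : (N ⊓ Subgroup.centralizer (N : Set G)) = N := by
      refine (hmin _ inferInstance inf_le_left).resolve_left (fun h1 => hTne ?_)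
      rw [eq_bot_iff, ← h1]
      refine le_inf hTN (fun x hx => ?_)
      rw [Subgroup.mem_centralizer_iff]
      intro n hn
      exact (Subgroup.mem_centralizer_iff.mp (hNT hn) x hx).symm
    refine ⟨⟨fun a b => Subtype.ext ?_⟩⟩
    have : (b : G) ∈ N ⊓ Subgroup.centralizer (N : Set G) := hz.symm ▸ b.2
    exact Subgroup.mem_centralizer_iff.mp this.2 a a.2

variable {T : Subgroup G}

lemma IsFactor.decomp (h : IsFactor N T)
    (hmin : ∀ M : Subgroup G, M.Normal → M ≤ N → M = ⊥ ∨ M = N) {n : G} (hn : n ∈ N) :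
    ∃ t ∈ T, ∃ b ∈ N ⊓ Subgroup.centralizer (T : Set G), n = t * b := by
  have hle : N ≤ T ⊔ (N ⊓ Subgroup.centralizer (T : Set G)) := by
    nth_rw 1 [← h.generate hmin]
    refine iSup_le (fun g => ?_)
    by_cases hg : RecogB.cj g T = T
    · rw [hg]; exact le_sup_left
    · exact le_trans (le_inf (h.cj g).le (h.le_centralizer_of_ne (h.cj g) hg)) le_sup_right
  have hnrm : N ⊓ Subgroup.centralizer (T : Set G) ≤ Subgroup.normalizer (T : Set G) := by
    intro b hb
    rw [Subgroup.mem_normalizer_iff]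
    intro k
    refine ⟨h.nrm b hb.1 k, fun hk => ?_⟩
    have := h.nrm b⁻¹ (inv_mem hb.1) _ hk
    simpa [mul_assoc] using this
  have h2 := hle hn
  rw [← SetLike.mem_coe, Subgroup.coe_mul_of_right_le_normalizer_left _ _ hnrm] at h2
  obtain ⟨t, ht, b, hb, e⟩ := Set.mem_mul.mp h2
  exact ⟨t, ht, b, hb, e.symm⟩

omit hNn in
lemma IsFactor.decomp_unique (h : IsFactor N T) {t t' b b' : G} (ht : t ∈ T) (ht' : t' ∈ T)
    (hb : b ∈ Subgroup.centralizer (T : Set G)) (hb' : b' ∈ Subgroup.centralizer (T : Set G))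
    (e : t * b = t' * b') : t = t' ∧ b = b' := by
  have h1 : t'⁻¹ * t = b' * b⁻¹ := by
    rw [eq_mul_inv_iff_mul_eq, mul_assoc, e, inv_mul_cancel_left]
  have h2 : t'⁻¹ * t = 1 :=
    h.eq_one_of_mem_centralizer (mul_mem (inv_mem ht') ht) (h1 ▸ mul_mem hb' (inv_mem hb))
  rw [inv_mul_eq_one] at h2
  subst h2
  exact ⟨rfl, mul_left_cancel e⟩

omit hNn in
lemma IsFactor.exists_two_primes [Finite G] (h : IsFactor N T) :
    ∃ q r : ℕ, q.Prime ∧ r.Prime ∧ q ≠ r ∧
      (∃ x ∈ T, orderOf x = q) ∧ (∃ y ∈ T, orderOf y = r) := by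
  have hs := h.simple
  have h1 : Nat.card T ≠ 1 := fun e => h.ne_bot (Subgroup.card_eq_one.mp e)
  obtain ⟨q, hq, hqd⟩ := Nat.exists_prime_and_dvd h1
  have : Fact q.Prime := ⟨hq⟩
  obtain ⟨r, hr, hrd, hne⟩ : ∃ r : ℕ, r.Prime ∧ r ∣ Nat.card T ∧ r ≠ q := by
    by_contra hc
    push Not at hc
    have hpg : IsPGroup q T :=
      IsPGroup.of_card (Nat.eq_prime_pow_of_unique_prime_dvd Nat.card_pos.ne' (fun {d} hd hdd => hc d hd hdd))
    have := hpg.center_nontrivial
    rcases (inferInstance : (Subgroup.center T).Normal).eq_bot_or_eq_top with h3 | h3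
    · exact (Subgroup.nontrivial_iff_ne_bot _).mp this h3
    · exact h.nonab ⟨⟨fun a b => (Subgroup.mem_center_iff.mp (h3 ▸ Subgroup.mem_top a) b).symm⟩⟩
  have : Fact r.Prime := ⟨hr⟩
  obtain ⟨x, hx⟩ := exists_prime_orderOf_dvd_card' q hqd
  obtain ⟨y, hy⟩ := exists_prime_orderOf_dvd_card' r hrd
  exact ⟨q, r, hq, hr, hne.symm, ⟨x, x.2, by rw [Subgroup.orderOf_coe, hx]⟩,
    ⟨y, y.2, by rw [Subgroup.orderOf_coe, hy]⟩⟩

omit hNn in
lemma IsFactor.exists_orderOf_ne [Finite G] (h : IsFactor N T) (p : ℕ) :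
    ∃ x ∈ T, (orderOf x).Prime ∧ orderOf x ≠ p := by
  obtain ⟨q, r, hq, hr, hqr, ⟨x, hx, hxq⟩, y, hy, hyr⟩ := h.exists_two_primes
  by_cases hqp : q = p
  · exact ⟨y, hy, hyr ▸ hr, fun e => hqr (hqp.trans (hyr ▸ e).symm)⟩
  · exact ⟨x, hx, hxq ▸ hq, hxq ▸ hqp⟩

lemma IsFactor.exists_other (h : IsFactor N T)
    (hmin : ∀ M : Subgroup G, M.Normal → M ≤ N → M = ⊥ ∨ M = N) (hTN : T ≠ N) :
    ∃ g : G, RecogB.cj g T ≠ T := by
  by_contra hc
  push Not at hc
  have := h.generate hmin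
  rw [iSup_congr hc, iSup_const] at this
  exact hTN this

section Action

variable {Ω : Type*} [MulAction G Ω]

/-- Either a factor is semiregular, or it has an element whose products with the centralising part
are all derangements. -/
lemma IsFactor.derangement_cases [Finite G] [FaithfulSMul G Ω] (h : IsFactor N T)
    (hmin : ∀ M : Subgroup G, M.Normal → M ≤ N → M = ⊥ ∨ M = N) (hNt : IsPretransitive N Ω) :
    (∀ x ∈ T, x ≠ 1 → ∀ ω : Ω, x • ω ≠ ω) ∨
    ∃ x ∈ T, x ≠ 1 ∧ ∀ y ∈ N ⊓ Subgroup.centralizer (T : Set G), ∀ ω : Ω, (x * y) • ω ≠ ω := by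
  rcases isEmpty_or_nonempty Ω with hΩ | ⟨⟨a⟩⟩
  · exact Or.inl (fun _ _ _ ω => isEmptyElim ω)
  set B := N ⊓ Subgroup.centralizer (T : Set G) with hBdef
  let R : Subgroup G :=
    { carrier := {t | t ∈ T ∧ ∃ b ∈ B, (t * b) • a = a}
      one_mem' := ⟨one_mem T, 1, one_mem B, by simp⟩
      mul_mem' := by
        rintro s t ⟨hs, b, hb, e⟩ ⟨ht, c, hc, f⟩
        refine ⟨mul_mem hs ht, b * c, mul_mem hb hc, ?_⟩
        have hcm : t * b = b * t := Subgroup.mem_centralizer_iff.mp hb.2 t ht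
        calc (s * t * (b * c)) • a = ((s * b) * (t * c)) • a := by
              simp only [mul_assoc]; rw [← mul_assoc t b c, hcm, mul_assoc]
          _ = a := by rw [mul_smul, f, e]
      inv_mem' := by
        rintro s ⟨hs, b, hb, e⟩
        refine ⟨inv_mem hs, b⁻¹, inv_mem hb, ?_⟩
        have hcm : Commute s b := Subgroup.mem_centralizer_iff.mp hb.2 s hs
        rw [← mul_inv_rev, ← hcm.eq, inv_smul_eq_iff, e] }
  by_cases hR : T ≤ R
  · left
    intro x hx hx1 ω hω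
    obtain ⟨⟨m, hm⟩, rfl⟩ := exists_smul_eq N a ω
    have hu : (m⁻¹ * x * m) ∈ T := by simpa using h.nrm m⁻¹ (inv_mem hm) x hx
    have hua : (m⁻¹ * x * m) • a = a := by
      rw [mul_smul, mul_smul, inv_smul_eq_iff]; exact hω
    let K : Subgroup G := T ⊓ stabilizer G a
    have hK : ∀ t ∈ T, ∀ k ∈ K, t * k * t⁻¹ ∈ K := by
      intro t ht k hk
      refine ⟨mul_mem (mul_mem ht hk.1) (Subgroup.inv_mem _ ht), ?_⟩
      obtain ⟨-, b, hb, e⟩ := hR ht
      have hcm : b * k * b⁻¹ = k := by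
        rw [← Subgroup.mem_centralizer_iff.mp hb.2 k hk.1, mul_inv_cancel_right]
      have : t * k * t⁻¹ = (t * b) * k * (t * b)⁻¹ := by
        rw [mul_inv_rev]; simp only [mul_assoc]
        rw [← mul_assoc k b⁻¹, ← mul_assoc b, ← mul_assoc b k, hcm]
      rw [this]
      exact mul_mem (mul_mem (mem_stabilizer_iff.mpr e) hk.2) (Subgroup.inv_mem _ (mem_stabilizer_iff.mpr e))
    rcases h.eq_bot_or_eq (K := K) inf_le_left hK with hb | hb
    · have : m⁻¹ * x * m ∈ K := ⟨hu, hua⟩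
      rw [hb, Subgroup.mem_bot] at this
      apply hx1
      calc x = m * (m⁻¹ * x * m) * m⁻¹ := by group
        _ = 1 := by rw [this]; simp
    · apply hx1
      refine FaithfulSMul.eq_of_smul_eq_smul (fun η : Ω => ?_)
      rw [one_smul]
      obtain ⟨⟨k, hk⟩, rfl⟩ := exists_smul_eq N a η
      have hk' : k⁻¹ * x * k ∈ K := hb.symm ▸ (by simpa using h.nrm k⁻¹ (inv_mem hk) x hx)
      have hfix : (k⁻¹ * x * k) • a = a := hk'.2
      rw [mul_smul, mul_smul, inv_smul_eq_iff] at hfix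
      exact hfix
  · right
    have hR' : R.subgroupOf T ≠ ⊤ := fun e => hR (Subgroup.subgroupOf_eq_top.mp e)
    obtain ⟨⟨x, hx⟩, hxc⟩ := exists_not_mem_conj _ hR'
    refine ⟨x, hx, fun e => ?_, fun y hy ω hω => ?_⟩
    · exact hxc 1 (by simp [Subgroup.mem_subgroupOf, e])
    obtain ⟨⟨m, hm⟩, rfl⟩ := exists_smul_eq N a ω
    obtain ⟨t, ht, b, hb, rfl⟩ := h.decomp hmin hm
    apply hxc ⟨t, ht⟩
    show t⁻¹ * x * t ∈ R
    refine ⟨mul_mem (mul_mem (inv_mem ht) hx) ht, b⁻¹ * y * b, mul_mem (mul_mem (inv_mem hb) hy) hb, ?_⟩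
    have hω' : ((t * b)⁻¹ * (x * y) * (t * b)) • a = a := by
      rw [mul_smul, mul_smul, inv_smul_eq_iff]; exact hω
    have c1 : Commute (t⁻¹ * x * t) b⁻¹ :=
      Subgroup.mem_centralizer_iff.mp (inv_mem hb.2) _ (mul_mem (mul_mem (inv_mem ht) hx) ht)
    have c2 : Commute y t := (Subgroup.mem_centralizer_iff.mp hy.2 t ht).symm
    have : t⁻¹ * x * t * (b⁻¹ * y * b) = (t * b)⁻¹ * (x * y) * (t * b) := by
      calc t⁻¹ * x * t * (b⁻¹ * y * b) = (t⁻¹ * x * t * b⁻¹) * (y * b) := by group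
        _ = (b⁻¹ * (t⁻¹ * x * t)) * (y * b) := by rw [c1.eq]
        _ = b⁻¹ * (t⁻¹ * x) * (t * y) * b := by group
        _ = b⁻¹ * (t⁻¹ * x) * (y * t) * b := by rw [c2.eq]
        _ = (t * b)⁻¹ * (x * y) * (t * b) := by group
    rw [this]; exact hω'

/-- If `N` is simple with nontrivial centraliser, it is regular. -/
lemma semiregular_of_centralizer_ne_bot [FaithfulSMul G Ω] [IsPreprimitive G Ω]
    (hC : Subgroup.centralizer (N : Set G) ≠ ⊥) (ω : Ω) : stabilizer N ω = ⊥ := by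
  have hCn : (Subgroup.centralizer (N : Set G)).Normal := inferInstance
  have := Cfsg.Agent.Perm.isPretransitive_of_normal_ne_bot (X := Ω) _ hC
  exact Cfsg.Agent.Perm.stabilizer_eq_bot_of_commute
    (fun m hm n hn => (Subgroup.mem_centralizer_iff.mp hm n hn)) ω

end Action

end Cfsg.Agent.RecogB
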