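import Cfsg.Agent.FG75.CyclicRegular

/-! Schur's theorem on regular cyclic subgroups of non-prime-power order. -/

set_option autoImplicit false

namespace Cfsg.Agent.RecogB

open Equiv Cfsg.Agent.FG75

variable {n : ℕ} [NeZero n] {G : Subgroup (Perm (ZMod n))}

/-- Without an invariant subgroup, orbits of the stabiliser are periodic under a subgroup of prime
order `p`, outside it. -/
lemma periodic_of_no_invariant (hS : CyclicRegular.HasShifts G)
    (hcon : ¬ ∃ K : AddSubgroup (ZMod n), K ≠ ⊥ ∧ K ≠ ⊤ ∧ ∀ σ ∈ G, ∀ x y, y - x ∈ K → σ y - σ x ∈ K)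
    {p : ℕ} [Fact p.Prime] (hpn : p ∣ n) {T : Set (ZMod n)} (hT : CyclicRegular.InvSet G T)
    {y : ZMod n} (hy : y ∈ T) (hy0 : p • y ≠ 0) {c : ZMod n} (hc : p • c = 0) : y + c ∈ T := by
  classical
  have hp : p.Prime := Fact.out
  let M : AddSubgroup (ZMod n) := (nsmulAddMonoidHom p : ZMod n →+ ZMod n).range
  let P : AddSubgroup (ZMod n) := (nsmulAddMonoidHom p : ZMod n →+ ZMod n).ker
  have hmemP : ∀ z, z ∈ P ↔ p • z = 0 := fun z => Iff.rfl
  have hc0 : ((n / p : ℕ) : ZMod n) ≠ 0 := by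
    intro e
    rw [ZMod.natCast_eq_zero_iff] at e
    have h1 := Nat.le_of_dvd (Nat.div_pos (Nat.le_of_dvd (NeZero.pos n) hpn) hp.pos) e
    exact absurd h1 (not_le.mpr (Nat.div_lt_self (NeZero.pos n) hp.one_lt))
  have hM : M ≠ ⊤ := by
    intro h
    refine hc0 ((Finite.injective_iff_surjective.mpr (AddMonoidHom.range_eq_top.mp h)) ?_)
    rw [map_zero]
    show p • ((n / p : ℕ) : ZMod n) = 0
    rw [nsmul_eq_mul, ← Nat.cast_mul, Nat.mul_div_cancel' hpn, ZMod.natCast_self]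
  have hPcard : Nat.card P ≤ p := by
    have hsub : ∀ z ∈ P, ∃ a : Fin p, z = ((a : ℕ) * (n / p) : ℕ) := by
      intro z hz
      rw [hmemP, nsmul_eq_mul, ← ZMod.natCast_zmod_val z, ← Nat.cast_mul, ZMod.natCast_eq_zero_iff] at hz
      obtain ⟨d, hd⟩ : n / p ∣ z.val :=
        Nat.dvd_of_mul_dvd_mul_left hp.pos (by rwa [Nat.mul_div_cancel' hpn])
      have hlt : d < p := by
        by_contra hcd
        have h1 : p * (n / p) ≤ d * (n / p) := Nat.mul_le_mul_right _ (not_lt.mp hcd)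
        rw [Nat.mul_div_cancel' hpn, mul_comm d, ← hd] at h1
        exact absurd (ZMod.val_lt z) (not_lt.mpr h1)
      exact ⟨⟨d, hlt⟩, by rw [← ZMod.natCast_zmod_val z, hd, mul_comm]⟩
    choose f hf using hsub
    calc Nat.card P ≤ Nat.card (Fin p) := Nat.card_le_card_of_injective (fun z : P => f z z.2)
          (fun a b e => Subtype.ext (by
            have e' : f a a.2 = f b b.2 := e
            rw [hf a a.2, hf b b.2, e']))
      _ = p := Nat.card_fin p
  set N : ZMod n → ZMod p := fun z => (({x : ZMod n | x ∈ T ∧ p • x = z}.ncard : ℕ) : ZMod p)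
  by_cases hall : ∀ z, z ≠ 0 → N z = 0
  · have h1 := hall _ hy0
    simp only [N] at h1
    rw [ZMod.natCast_eq_zero_iff] at h1
    set F := {x : ZMod n | x ∈ T ∧ p • x = p • y}
    set I := (fun z => y + z) '' (P : Set (ZMod n))
    have hsub : F ⊆ I := fun x hx => ⟨x - y, by
      show p • (x - y) = 0
      rw [nsmul_sub, hx.2, sub_self], add_sub_cancel y x⟩
    have hI : I.ncard ≤ p := by
      refine le_trans (Set.ncard_image_le (Set.toFinite _)) ?_
      rw [← Nat.card_coe_set_eq]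
      exact hPcard
    have hpos : 0 < F.ncard := (Set.ncard_pos (Set.toFinite _)).2 ⟨y, hy, rfl⟩
    have hIF : F = I := Set.eq_of_subset_of_ncard_le hsub (hI.trans (Nat.le_of_dvd hpos h1)) (Set.toFinite _)
    have : y + c ∈ F := hIF ▸ ⟨c, hc, rfl⟩
    exact this.1
  · exfalso
    push Not at hall
    obtain ⟨z, hz0, hz⟩ := hall
    refine hcon (CyclicRegular.exists_of_invSet hS (U := {w | N w ≠ 0 ∧ w ≠ 0}) (B := M) ?_ ?_ hM
      ⟨z, ⟨hz, hz0⟩, hz0⟩)
    · intro σ hσ h0 w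
      have h1 : N (σ w) = N w := CyclicRegular.inv_primeMul (q := p) hS hT σ hσ h0 w
      simp only [Set.mem_ofPred_eq, h1]
      refine and_congr Iff.rfl (not_congr ?_)
      rw [← h0, σ.injective.eq_iff, h0]
    · rintro w ⟨hw, -⟩
      by_contra hno
      apply hw
      simp only [N]
      rw [show {x : ZMod n | x ∈ T ∧ p • x = w} = ∅ by
        ext x
        simp only [Set.mem_ofPred_eq, Set.mem_empty_iff_false, iff_false, not_and]
        exact fun _ hx => hno ⟨x, hx⟩]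
      simp

/-- An invariant set avoiding `0` and periodic under a nonzero element gives an invariant subgroup. -/
lemma exists_invariant_of_periodic (hS : CyclicRegular.HasShifts G) {T : Set (ZMod n)}
    (hT : CyclicRegular.InvSet G T) (h0 : (0 : ZMod n) ∉ T) {x : ZMod n} (hx : x ∈ T) {c : ZMod n}
    (hc0 : c ≠ 0) (hc : ∀ y ∈ T, y - c ∈ T) :
    ∃ K : AddSubgroup (ZMod n), K ≠ ⊥ ∧ K ≠ ⊤ ∧ ∀ σ ∈ G, ∀ x y, y - x ∈ K → σ y - σ x ∈ K := by
  classical
  let M : AddSubgroup (ZMod n) :=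
    { carrier := {d | ∀ y, y - d ∈ T ↔ y ∈ T}
      zero_mem' := fun y => by rw [sub_zero]
      add_mem' := fun {a b} ha hb y => by rw [← sub_sub]; exact (hb (y - a)).trans (ha y)
      neg_mem' := fun {a} ha y => by
        have := ha (y + a)
        rw [add_sub_cancel_right] at this
        rw [sub_neg_eq_add, this] }
  have hM : ∀ d, ({y : ZMod n | y ∈ T ∧ y - d ∈ T}.ncard = T.ncard ↔ d ∈ M) := by
    intro d
    constructor
    · intro h
      have heq : {y : ZMod n | y ∈ T ∧ y - d ∈ T} = T :=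
        Set.eq_of_subset_of_ncard_le (fun w hw => hw.1) (le_of_eq h.symm) (Set.toFinite _)
      have hmaps : ∀ w ∈ T, w - d ∈ T := fun w hw => (heq.symm ▸ hw : w ∈ {y | y ∈ T ∧ y - d ∈ T}).2
      have himg : (fun w => w - d) '' T = T := Set.eq_of_subset_of_ncard_le
        (Set.image_subset_iff.mpr hmaps) (le_of_eq (Set.ncard_image_of_injective _ sub_left_injective).symm)
        (Set.toFinite _)
      intro y
      refine ⟨fun hy => ?_, hmaps y⟩
      rw [← himg] at hy
      obtain ⟨w, hw, e⟩ := hy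
      exact sub_left_injective e ▸ hw
    · intro hd
      congr 1
      ext y
      exact ⟨fun hy => hy.1, fun hy => ⟨hy, (hd y).2 hy⟩⟩
  refine CyclicRegular.exists_of_invSet hS (U := (M : Set (ZMod n))) (B := M) ?_ subset_rfl ?_ ?_
  · intro σ hσ h0' d
    show σ d ∈ M ↔ d ∈ M
    rw [← hM, ← hM]
    have : {y : ZMod n | y ∈ T ∧ y - σ d ∈ T}.ncard = {y : ZMod n | y ∈ T ∧ y - d ∈ T}.ncard :=
      CyclicRegular.inv_diffCount hS hT σ hσ h0' d
    rw [this]
  · intro e
    have : x ∈ M := e ▸ AddSubgroup.mem_top x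
    have h1 := (this x).2 hx
    rw [sub_self] at h1
    exact h0 h1
  · refine ⟨c, (hM c).1 ?_, hc0⟩
    congr 1
    ext y
    exact ⟨fun hy => hy.1, fun hy => ⟨hy, hc y hy⟩⟩

/-- Schur's theorem in normalised form. -/
theorem schur_cyclic (hS : CyclicRegular.HasShifts G) {p q : ℕ} [hp : Fact p.Prime] [hq : Fact q.Prime]
    (hpq : p ≠ q) (hpn : p ∣ n) (hqn : q ∣ n)
    (hnt : ¬ ∀ x y : ZMod n, x ≠ 0 → y ≠ 0 → y ∈ CyclicRegular.orb G x) :
    ∃ K : AddSubgroup (ZMod n), K ≠ ⊥ ∧ K ≠ ⊤ ∧ ∀ σ ∈ G, ∀ x y, y - x ∈ K → σ y - σ x ∈ K := by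
  by_contra hcon
  have hcop : p.Coprime q := (Nat.coprime_primes hp.out hq.out).mpr hpq
  have hex : ∀ r : ℕ, r.Prime → r ∣ n → ∃ c : ZMod n, c ≠ 0 ∧ r • c = 0 := by
    intro r hr hrn
    refine ⟨((n / r : ℕ) : ZMod n), fun e => ?_, ?_⟩
    · rw [ZMod.natCast_eq_zero_iff] at e
      have h1 := Nat.le_of_dvd (Nat.div_pos (Nat.le_of_dvd (NeZero.pos n) hrn) hr.pos) e
      exact absurd h1 (not_le.mpr (Nat.div_lt_self (NeZero.pos n) hr.one_lt))
    · rw [nsmul_eq_mul, ← Nat.cast_mul, Nat.mul_div_cancel' hrn, ZMod.natCast_self]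
  obtain ⟨a, ha0, ha⟩ := hex p hp.out hpn
  obtain ⟨b, hb0, hb⟩ := hex q hq.out hqn
  have hdisj : ∀ z : ZMod n, p • z = 0 → q • z = 0 → z = 0 := by
    intro z h1 h2
    rw [← addOrderOf_dvd_iff_nsmul_eq_zero] at h1 h2
    rw [← AddMonoid.addOrderOf_eq_one_iff]
    exact Nat.eq_one_of_dvd_coprimes hcop h1 h2
  have per := fun {r : ℕ} [Fact r.Prime] (hrn : r ∣ n) {T : Set (ZMod n)}
    (hT : CyclicRegular.InvSet G T) {y : ZMod n} (hy : y ∈ T) (hy0 : r • y ≠ 0) {c : ZMod n}
    (hc : r • c = 0) => periodic_of_no_invariant hS hcon hrn hT hy hy0 hc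
  have hall : ∀ x : ZMod n, x ≠ 0 → a ∈ CyclicRegular.orb G x := by
    intro x hx
    set T := CyclicRegular.orb G x
    have hT := CyclicRegular.invSet_orb G x
    have h0 : (0 : ZMod n) ∉ T := CyclicRegular.zero_not_mem_orb hx
    have hqa : q • a ≠ 0 := fun e => ha0 (hdisj a ha e)
    by_cases hpp : ∃ y ∈ T, p • y = 0
    · obtain ⟨y, hy, hyp⟩ := hpp
      have hy0 : y ≠ 0 := fun e => h0 (e ▸ hy)
      have h1 : y + b ∈ T := per hqn hT hy (fun e => hy0 (hdisj y hyp e)) hb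
      have h2 : p • (y + b) ≠ 0 := by
        rw [nsmul_add, hyp, zero_add]
        exact fun e => hb0 (hdisj b e hb)
      have h3 : y + b + (a - y) ∈ T := per hpn hT h1 h2 (by rw [nsmul_sub, ha, hyp, sub_self])
      rw [show y + b + (a - y) = a + b by abel] at h3
      have h4 : q • (a + b) ≠ 0 := by rw [nsmul_add, hb, add_zero]; exact hqa
      have h5 := per hqn hT h3 h4 (c := -b) (by rw [smul_neg, hb, neg_zero])
      rwa [add_neg_cancel_right] at h5
    · push Not at hpp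
      exfalso
      refine hcon (exists_invariant_of_periodic hS hT h0 (CyclicRegular.mem_orb_self G x) ha0 fun y hy => ?_)
      rw [sub_eq_add_neg]
      exact per hpn hT hy (hpp y hy) (by rw [smul_neg, ha, neg_zero])
  apply hnt
  intro x y hx hy
  have h1 := CyclicRegular.orb_eq (hall x hx)
  rw [← h1, CyclicRegular.orb_eq (hall y hy)]
  exact CyclicRegular.mem_orb_self G y

end Cfsg.Agent.RecogB
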