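import Mathlib

/-! Derangements of transitive groups. -/

set_option autoImplicit false

namespace Cfsg.Agent.RecogB

open MulAction

variable {G Ω : Type*} [Group G] [MulAction G Ω]

lemma coset_fix_sum [Fintype G] [Fintype Ω] (D : Subgroup G) [Fintype D] [IsPretransitive D Ω]
    [Nonempty Ω] (g : G) :
    ∑ d : D, Nat.card (fixedBy Ω (g * (d : G))) = Nat.card D := by
  classical
  have key : ∀ ω : Ω, Nat.card {d : D // (g * (d : G)) • ω = ω} = Nat.card (stabilizer D ω) := by
    intro ω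
    obtain ⟨d₀, hd₀⟩ := exists_smul_eq D ω (g⁻¹ • ω)
    refine Nat.card_congr
      { toFun := fun d => ⟨d₀⁻¹ * d.1, ?_⟩
        invFun := fun s => ⟨d₀ * s.1, ?_⟩
        left_inv := fun d => Subtype.ext (by simp)
        right_inv := fun s => Subtype.ext (by simp) }
    · have h := d.2
      rw [mul_smul] at h
      have : d.1 • ω = d₀ • ω := by
        rw [hd₀, eq_inv_smul_iff]; exact h
      rw [mem_stabilizer_iff, mul_smul, this, inv_smul_smul]
    · have h := s.2
      rw [mem_stabilizer_iff] at h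
      have : ((d₀ * s.1 : D) : G) • ω = g⁻¹ • ω := by
        rw [← hd₀]
        change (d₀ * s.1) • ω = d₀ • ω
        rw [mul_smul, h]
      rw [mul_smul, this, smul_inv_smul]
  have e1 : ∑ d : D, Nat.card (fixedBy Ω (g * (d : G))) =
      ∑ ω : Ω, Nat.card {d : D // (g * (d : G)) • ω = ω} := by
    simp only [Nat.card_eq_fintype_card, Fintype.card_subtype, mem_fixedBy]
    exact Finset.sum_card_bipartiteAbove_eq_sum_card_bipartiteBelow
      (fun (d : D) (ω : Ω) => (g * (d : G)) • ω = ω)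
  rw [e1]
  simp only [key]
  obtain ⟨ω₀⟩ := (inferInstance : Nonempty Ω)
  have hω : ∀ ω : Ω, Nat.card (stabilizer D ω) * Nat.card Ω = Nat.card D := by
    intro ω
    rw [← index_stabilizer_of_transitive D ω, Subgroup.card_mul_index]
  have hmul : (∑ ω : Ω, Nat.card (stabilizer D ω)) * Nat.card Ω = Nat.card D * Nat.card Ω := by
    rw [Finset.sum_mul, Finset.sum_congr rfl (fun ω _ => hω ω), Finset.sum_const, Finset.card_univ,
      smul_eq_mul, ← Nat.card_eq_fintype_card (α := Ω), mul_comm]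
  exact Nat.eq_of_mul_eq_mul_right Nat.card_pos hmul

lemma exists_derangement [Finite G] [Finite Ω] [IsPretransitive G Ω] (h2 : 2 ≤ Nat.card Ω) :
    ∃ g : G, ∀ ω : Ω, g • ω ≠ ω := by
  classical
  by_contra hc
  push Not at hc
  have : Nonempty Ω := (Nat.card_pos_iff.mp (by omega)).1
  have := Fintype.ofFinite G
  have := Fintype.ofFinite Ω
  have : Fintype (⊤ : Subgroup G) := Fintype.ofFinite _
  have : IsPretransitive (⊤ : Subgroup G) Ω :=
    ⟨fun a b => let ⟨g, hg⟩ := exists_smul_eq G a b; ⟨⟨g, trivial⟩, hg⟩⟩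
  have hs := coset_fix_sum (Ω := Ω) (⊤ : Subgroup G) 1
  simp only [one_mul] at hs
  have hlt : ∑ _d : (⊤ : Subgroup G), 1 < ∑ d : (⊤ : Subgroup G), Nat.card (fixedBy Ω (d : G)) := by
    refine Finset.sum_lt_sum (fun d _ => ?_) ⟨1, Finset.mem_univ _, ?_⟩
    · obtain ⟨ω, hω⟩ := hc (d : G)
      exact Nat.card_pos_iff.mpr ⟨⟨⟨ω, hω⟩⟩, inferInstance⟩
    · have : fixedBy Ω (((1 : (⊤ : Subgroup G)) : G)) = Set.univ := by
        ext; simp
      rw [this, Nat.card_univ]; omega
  rw [hs, Finset.sum_const, Finset.card_univ, smul_eq_mul, mul_one, ← Nat.card_eq_fintype_card] at hlt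
  exact lt_irrefl _ hlt

lemma exists_not_mem_conj [Finite G] (H : Subgroup G) (hH : H ≠ ⊤) :
    ∃ g : G, ∀ x : G, x⁻¹ * g * x ∉ H := by
  have h2 : 2 ≤ Nat.card (G ⧸ H) := by
    have h1 : H.index ≠ 1 := fun h => hH (Subgroup.index_eq_one.mp h)
    have h0 : H.index ≠ 0 := Subgroup.index_ne_zero_of_finite
    rw [← H.index_eq_card]; omega
  obtain ⟨g, hg⟩ := exists_derangement (G := G) (Ω := G ⧸ H) h2
  refine ⟨g, fun x hx => hg (x : G ⧸ H) ?_⟩
  rw [MulAction.Quotient.smul_coe, QuotientGroup.eq, smul_eq_mul]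
  have := H.inv_mem hx
  simpa [mul_assoc] using this

/-- The subgroup generated by the derangements. -/
def derSub (G Ω : Type*) [Group G] [MulAction G Ω] : Subgroup G :=
  Subgroup.closure {g : G | ∀ ω : Ω, g • ω ≠ ω}

lemma derSub_normal : (derSub G Ω).Normal := by
  refine ⟨fun n hn g => ?_⟩
  have : Subgroup.map (MulAut.conj g).toMonoidHom (derSub G Ω) ≤ derSub G Ω := by
    rw [derSub, MonoidHom.map_closure]
    refine Subgroup.closure_mono ?_
    rintro _ ⟨y, hy, rfl⟩ ω hω
    apply hy (g⁻¹ • ω)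
    simp only [MulEquiv.coe_toMonoidHom, MulAut.conj_apply, mul_smul] at hω
    calc y • g⁻¹ • ω = g⁻¹ • g • y • g⁻¹ • ω := by simp
      _ = g⁻¹ • ω := by rw [hω]
  exact this ⟨n, hn, by simp⟩

lemma exists_fix_of_not_mem {g : G} (hg : g ∉ derSub G Ω) : ∃ ω : Ω, g • ω = ω := by
  by_contra h
  push Not at h
  exact hg (Subgroup.subset_closure h)

lemma derSub_transitive [Finite G] [IsPretransitive G Ω] :
    IsPretransitive (derSub G Ω) Ω := by
  have hn := derSub_normal (G := G) (Ω := Ω)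
  refine ⟨fun a b => ?_⟩
  let H : Subgroup G := derSub G Ω ⊔ stabilizer G a
  have hH : H = ⊤ := by
    by_contra hne
    obtain ⟨g, hg⟩ := exists_not_mem_conj H hne
    have hgD : g ∉ derSub G Ω := by
      intro h
      exact hg 1 (by simpa using Subgroup.mem_sup_left h)
    obtain ⟨ω, hω⟩ := exists_fix_of_not_mem hgD
    obtain ⟨x, rfl⟩ := exists_smul_eq G a ω
    refine hg x (Subgroup.mem_sup_right ?_)
    rw [mem_stabilizer_iff, mul_smul, mul_smul, hω, inv_smul_smul]
  obtain ⟨g, rfl⟩ := exists_smul_eq G a b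
  have hgH : g ∈ H := by rw [hH]; trivial
  rw [Subgroup.mem_sup_of_normal_left] at hgH
  obtain ⟨d, hd, s, hs, rfl⟩ := hgH
  refine ⟨⟨d, hd⟩, ?_⟩
  rw [mul_smul, mem_stabilizer_iff.mp hs]
  rfl

lemma card_fixedBy_eq_one [Finite G] [Finite Ω] [IsPretransitive G Ω] [Nonempty Ω]
    {g : G} (hg : g ∉ derSub G Ω) : Nat.card (fixedBy Ω g) = 1 := by
  classical
  have := Fintype.ofFinite G
  have := Fintype.ofFinite Ω
  have : Fintype (derSub G Ω) := Fintype.ofFinite _
  have := derSub_transitive (G := G) (Ω := Ω)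
  have hs := coset_fix_sum (Ω := Ω) (derSub G Ω) g
  have hpos : ∀ d : derSub G Ω, 1 ≤ Nat.card (fixedBy Ω (g * (d : G))) := by
    intro d
    have : g * (d : G) ∉ derSub G Ω := fun h => hg (by simpa using mul_mem h (inv_mem d.2))
    obtain ⟨ω, hω⟩ := exists_fix_of_not_mem this
    exact Nat.card_pos_iff.mpr ⟨⟨⟨ω, hω⟩⟩, inferInstance⟩
  have h1 : ∑ _d : derSub G Ω, 1 = ∑ d : derSub G Ω, Nat.card (fixedBy Ω (g * (d : G))) := by
    rw [hs]; simp [Nat.card_eq_fintype_card]
  have := (Finset.sum_eq_sum_iff_of_le (fun d _ => hpos d)).mp h1 1 (Finset.mem_univ _)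
  simpa using this.symm

lemma mem_derSub_of_card_fixedBy_ne_one [Finite G] [Finite Ω] [IsPretransitive G Ω] [Nonempty Ω]
    {g : G} (h : Nat.card (fixedBy Ω g) ≠ 1) : g ∈ derSub G Ω := by
  by_contra hg
  exact h (card_fixedBy_eq_one hg)

lemma fix_unique [Finite G] [Finite Ω] [IsPretransitive G Ω] {g : G} (hg : g ∉ derSub G Ω)
    {a b : Ω} (ha : g • a = a) (hb : g • b = b) : a = b := by
  have : Nonempty Ω := ⟨a⟩
  obtain ⟨x, hx⟩ := (Set.ncard_eq_one).mp (show (fixedBy Ω g).ncard = 1 by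
    rw [← Nat.card_coe_set_eq]; exact card_fixedBy_eq_one hg)
  have h1 : a ∈ fixedBy Ω g := ha
  have h2 : b ∈ fixedBy Ω g := hb
  rw [hx, Set.mem_singleton_iff] at h1 h2
  rw [h1, h2]


lemma card_fixedBy_prod (g : G) :
    Nat.card (fixedBy (Ω × Ω) g) = Nat.card (fixedBy Ω g) * Nat.card (fixedBy Ω g) := by
  rw [← Nat.card_prod]
  refine Nat.card_congr
    { toFun := fun x => (⟨x.1.1, congrArg Prod.fst x.2⟩, ⟨x.1.2, congrArg Prod.snd x.2⟩)
      invFun := fun y => ⟨(y.1.1, y.2.1), Prod.ext y.1.2 y.2.2⟩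
      left_inv := fun x => rfl
      right_inv := fun y => rfl }

lemma sum_fixedBy_pairs (G Ω : Type*) [Group G] [MulAction G Ω] [Fintype G] [Finite Ω] :
    ∑ g : G, Nat.card (fixedBy Ω g) * Nat.card (fixedBy Ω g) =
      Nat.card (orbitRel.Quotient G (Ω × Ω)) * Nat.card G := by
  classical
  have := Fintype.ofFinite Ω
  have h := sum_card_fixedBy_eq_card_orbits_mul_card_group G (Ω × Ω)
  simp only [← Nat.card_eq_fintype_card] at h
  rw [← h]
  exact Finset.sum_congr rfl (fun g _ => (card_fixedBy_prod g).symm)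

lemma rank_derSub [Finite G] [Finite Ω] [IsPretransitive G Ω] :
    Nat.card (orbitRel.Quotient (derSub G Ω) (Ω × Ω)) - 1 =
      (Nat.card (orbitRel.Quotient G (Ω × Ω)) - 1) * (derSub G Ω).index := by
  classical
  rcases isEmpty_or_nonempty Ω with hΩ | hΩ
  · have h1 : IsEmpty (orbitRel.Quotient (derSub G Ω) (Ω × Ω)) :=
      ⟨fun q => Quotient.inductionOn' q (fun x => isEmptyElim x.1)⟩
    have h2 : IsEmpty (orbitRel.Quotient G (Ω × Ω)) :=
      ⟨fun q => Quotient.inductionOn' q (fun x => isEmptyElim x.1)⟩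
    simp
  have := Fintype.ofFinite G
  let D := derSub G Ω
  let f : G → ℕ := fun g => Nat.card (fixedBy Ω g) * Nat.card (fixedBy Ω g)
  have hD : ∑ d : D, f (d : G) = Nat.card (orbitRel.Quotient D (Ω × Ω)) * Nat.card D :=
    sum_fixedBy_pairs D Ω
  have hG : ∑ g : G, f g = Nat.card (orbitRel.Quotient G (Ω × Ω)) * Nat.card G :=
    sum_fixedBy_pairs G Ω
  have hsplit : ∑ g : G, f g = ∑ d : D, f (d : G) + (Nat.card G - Nat.card D) := by
    rw [← Finset.sum_filter_add_sum_filter_not Finset.univ (fun g => g ∈ D)]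
    congr 1
    · exact Finset.sum_subtype _ (fun g => by simp) f
    · have hone : ∀ g ∈ Finset.univ.filter (fun g => g ∉ D), f g = 1 := by
        intro g hg
        simp only [Finset.mem_filter, Finset.mem_univ, true_and] at hg
        simp only [f, card_fixedBy_eq_one hg]
      rw [Finset.sum_congr rfl hone, Finset.sum_const, smul_eq_mul, mul_one,
        Finset.filter_not, Finset.card_univ_sdiff, Nat.card_eq_fintype_card, Nat.card_eq_fintype_card,
        ← Fintype.card_subtype]
  rw [hD, hG] at hsplit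
  have hi : Nat.card D * D.index = Nat.card G := D.card_mul_index
  have hpos : 0 < Nat.card D := Nat.card_pos
  have hi0 : 1 ≤ D.index := Nat.one_le_iff_ne_zero.mpr Subgroup.index_ne_zero_of_finite
  set a := Nat.card (orbitRel.Quotient D (Ω × Ω))
  set r := Nat.card (orbitRel.Quotient G (Ω × Ω))
  have : Nonempty (orbitRel.Quotient G (Ω × Ω)) := ⟨Quotient.mk'' (hΩ.some, hΩ.some)⟩
  have hr : 1 ≤ r := Nat.card_pos
  have h2 : Nat.card D * (a + (D.index - 1)) = Nat.card D * (r * D.index) := by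
    rw [mul_add, Nat.mul_sub, mul_one, hi, mul_comm (Nat.card D) a, ← hsplit, ← hi]; ring
  have h3 := Nat.eq_of_mul_eq_mul_left hpos h2
  show a - 1 = (r - 1) * D.index
  rw [Nat.sub_mul, one_mul]
  omega

/-- The index of the derangement subgroup is the index inside a point stabiliser. -/
lemma index_derSub_eq [Finite G] [IsPretransitive G Ω] (a : Ω) :
    (derSub G Ω).relIndex (stabilizer G a) = (derSub G Ω).index := by
  have := derSub_normal (G := G) (Ω := Ω)
  have := derSub_transitive (G := G) (Ω := Ω)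
  have h : derSub G Ω ⊔ stabilizer G a = ⊤ := by
    rw [eq_top_iff]
    intro g _
    obtain ⟨d, hd⟩ := exists_smul_eq (derSub G Ω) a (g • a)
    have : (d : G)⁻¹ * g ∈ stabilizer G a := by
      rw [mem_stabilizer_iff, mul_smul, ← hd]; exact inv_smul_smul (d : G) a
    rw [Subgroup.mem_sup_of_normal_left]
    exact ⟨d, d.2, _, this, by simp⟩
  rw [← Subgroup.relIndex_sup_right, sup_comm, h, Subgroup.relIndex_top_right]

/-- Every nontrivial suborbit has length a multiple of the index of the derangement subgroup. -/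
lemma index_derSub_dvd_orbit [Finite G] [Finite Ω] [IsPretransitive G Ω] {a b : Ω} (hab : b ≠ a) :
    (derSub G Ω).index ∣ Nat.card (orbit (stabilizer G a) b) := by
  rw [← index_derSub_eq (G := G) a, Nat.card_coe_set_eq, ← index_stabilizer]
  have hle : stabilizer (stabilizer G a) b ≤ (derSub G Ω).subgroupOf (stabilizer G a) := by
    intro s hs
    rw [Subgroup.mem_subgroupOf]
    by_contra hn
    exact hab (fix_unique (a := b) (b := a) hn hs s.2)
  exact Subgroup.index_dvd_of_le hle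

lemma dvd_card_of_invariant [Finite Ω] {H : Subgroup G} {d : ℕ} (S : Set Ω)
    (hS : ∀ x ∈ S, ∀ h : H, h • x ∈ S) (hd : ∀ x ∈ S, d ∣ Nat.card (orbit H x)) :
    d ∣ Nat.card S := by
  classical
  let T : SubMulAction H Ω := ⟨S, fun h {x} hx => hS x hx h⟩
  have := Fintype.ofFinite T
  have e := Nat.card_congr (selfEquivSigmaOrbits H T)
  have hT : Nat.card T = Nat.card S := rfl
  rw [← hT, e, Nat.card_sigma]
  refine Finset.dvd_sum (fun q _ => ?_)
  have h1 : Nat.card (orbit H q.out) = Nat.card (orbit H (q.out : Ω)) := by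
    rw [← SubMulAction.val_image_orbit, Nat.card_image_of_injective Subtype.val_injective]
  rw [h1]
  exact hd _ q.out.2

end Cfsg.Agent.RecogB
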