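import Cfsg.Agent.RecogB.Suborbit
import Cfsg.Agent.RecogB.Derangement
import Cfsg.Agent.Lib.Fitting.Minimal

/-! Point stabilisers of extremely primitive groups. -/

set_option autoImplicit false

namespace Cfsg.Agent.RecogB

open MulAction

lemma prime_card_of_isCoatom_bot {X : Type*} [Group X] [Finite X] (h : IsCoatom (⊥ : Subgroup X)) :
    (Nat.card X).Prime := by
  have h1 : Nat.card X ≠ 1 := by
    intro e
    have := (Nat.card_eq_one_iff_unique.mp e).1
    exact h.1 (Subsingleton.elim _ _)
  obtain ⟨p, hp, hd⟩ := Nat.exists_prime_and_dvd h1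
  have : Fact p.Prime := ⟨hp⟩
  obtain ⟨x, hx⟩ := exists_prime_orderOf_dvd_card' p hd
  have htop : Subgroup.zpowers x = ⊤ := h.2 _ (bot_lt_iff_ne_bot.mpr (fun e => by
    rw [Subgroup.zpowers_eq_bot] at e
    rw [e, orderOf_one] at hx
    exact hp.one_lt.ne hx))
  have : Nat.card X = p := by
    rw [← hx, ← Nat.card_zpowers, htop, Subgroup.card_top]
  exact this ▸ hp

variable {G Ω : Type*} [Group G] [MulAction G Ω] [FaithfulSMul G Ω] [Finite G] [Finite Ω]

/-- Extremely primitive groups: shared hypotheses. -/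
structure Extreme (G Ω : Type*) [Group G] [MulAction G Ω] : Prop where
  prim : IsPreprimitive G Ω
  ne_bot : ∀ a : Ω, stabilizer G a ≠ ⊥
  sub : ∀ a b : Ω, IsPreprimitive (stabilizer G a) (orbit (stabilizer G a) b)

lemma stabilizer_ne_bot_of_one [IsPretransitive G Ω] {a : Ω} (h : stabilizer G a ≠ ⊥) (b : Ω) :
    stabilizer G b ≠ ⊥ := by
  obtain ⟨g, hg⟩ := exists_smul_eq G a b
  intro e
  apply h
  apply Subgroup.eq_bot_of_card_eq
  rw [Nat.card_congr (stabilizerEquivStabilizer hg.symm).toEquiv, e, Subgroup.card_bot]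

lemma Extreme.normal_transitive (hE : Extreme G Ω) {α : Ω} (K : Subgroup G)
    (hK : K ≤ stabilizer G α) (hne : K ≠ ⊥)
    (hn : ∀ h ∈ stabilizer G α, ∀ k ∈ K, h * k * h⁻¹ ∈ K) {b : Ω} (hb : b ≠ α) {x y : Ω}
    (hx : x ∈ orbit (stabilizer G α) b) (hy : y ∈ orbit (stabilizer G α) b) :
    ∃ k ∈ K, k • x = y := by
  have := hE.prim
  refine ((normal_trichotomy K hK hn (hE.sub α b)).resolve_left (fun hfix => hne ?_)) x hx y hy
  rw [Subgroup.eq_bot_iff_forall]
  exact fun k hk => suborbit_faithful hE.ne_bot hE.sub hb (hK hk) (hfix k hk)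

/-- Elements of the stabiliser commuting with a nontrivial normal subgroup of it act semiregularly
outside the base point. -/
lemma Extreme.commute_semiregular (hE : Extreme G Ω) {α : Ω} (K : Subgroup (stabilizer G α))
    [hKn : K.Normal] (hK : K ≠ ⊥) {b : Ω} (hb : b ≠ α) {h : stabilizer G α}
    (hc : ∀ k ∈ K, h * k = k * h) (hfix : (h : G) • b = b) : h = 1 := by
  have := hE.prim
  refine Subtype.ext (suborbit_faithful hE.ne_bot hE.sub hb h.2 (fun x hx => ?_))
  obtain ⟨k, hk, rfl⟩ := hE.normal_transitive (K.map (stabilizer G α).subtype)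
    (Subgroup.map_subtype_le K)
    (fun e => hK ((Subgroup.map_eq_bot_iff_of_injective _ (stabilizer G α).subtype_injective).mp e))
    (fun u hu k hk => by
      obtain ⟨k', hk', rfl⟩ := hk
      exact ⟨⟨u, hu⟩ * k' * ⟨u, hu⟩⁻¹, hKn.conj_mem k' hk' _, rfl⟩)
    hb (mem_orbit_self b) hx
  obtain ⟨k', hk', rfl⟩ := hk
  have e : (h : G) * (k' : G) = (k' : G) * (h : G) := congrArg Subtype.val (hc k' hk')
  show (h : G) • (k' : G) • b = (k' : G) • b
  rw [← mul_smul, e, mul_smul, hfix]

lemma Extreme.exists_moved (hE : Extreme G Ω) (α : Ω) : ∃ b : Ω, b ≠ α := by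
  by_contra hc
  push Not at hc
  apply hE.ne_bot α
  rw [Subgroup.eq_bot_iff_forall]
  intro h _
  exact FaithfulSMul.eq_of_smul_eq_smul (fun ω : Ω => by rw [hc (h • ω), hc ω, one_smul, hc α])

lemma Extreme.center_eq_bot (hE : Extreme G Ω) {α : Ω}
    (hp : ¬ (Nat.card (stabilizer G α)).Prime) : Subgroup.center (stabilizer G α) = ⊥ := by
  have := hE.prim
  by_contra hZ
  obtain ⟨b, hb⟩ := hE.exists_moved α
  let b' : orbit (stabilizer G α) b := ⟨b, mem_orbit_self b⟩
  have hst : stabilizer (stabilizer G α) b' = ⊥ := by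
    rw [Subgroup.eq_bot_iff_forall]
    intro h hh
    exact hE.commute_semiregular (Subgroup.center (stabilizer G α)) hZ hb
      (fun k hk => Subgroup.mem_center_iff.mp hk h) (congrArg Subtype.val hh)
  have : Nontrivial (orbit (stabilizer G α) b) := by
    rw [← not_subsingleton_iff_nontrivial]
    intro hs
    apply hE.ne_bot α
    rw [Subgroup.eq_bot_iff_forall]
    intro h hh
    exact suborbit_faithful hE.ne_bot hE.sub hb hh (fun x hx => by
      have h1 := congrArg Subtype.val (Subsingleton.elim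
        (⟨h • x, by
          obtain ⟨u, rfl⟩ := hx
          exact ⟨⟨h, hh⟩ * u, mul_smul h (u : G) b⟩⟩ : orbit (stabilizer G α) b) ⟨x, hx⟩)
      exact h1)
  have := hE.sub α b
  exact hp (prime_card_of_isCoatom_bot (hst ▸ IsPreprimitive.isCoatom_stabilizer_of_isPreprimitive _ b'))

lemma Extreme.suborbit_card_eq (hE : Extreme G Ω) {α : Ω} (M : Subgroup (stabilizer G α))
    [hMn : M.Normal] (hM : M ≠ ⊥) (hab : IsMulCommutative M) {b : Ω} (hb : b ≠ α) :
    Nat.card (orbit (stabilizer G α) b) = Nat.card M := by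
  refine (Nat.card_eq_of_bijective
    (fun m : M => (⟨((m : stabilizer G α) : G) • b, ⟨(m : stabilizer G α), rfl⟩⟩ :
      orbit (stabilizer G α) b)) ⟨?_, ?_⟩).symm
  · intro m m' e
    have e' : ((m : stabilizer G α) : G) • b = ((m' : stabilizer G α) : G) • b := congrArg Subtype.val e
    have h1 : (m'⁻¹ * m : M) = 1 := by
      refine Subtype.ext (hE.commute_semiregular M hM hb ?_ ?_)
      · intro k hk
        exact congrArg Subtype.val (hab.is_comm.comm (m'⁻¹ * m) ⟨k, hk⟩)
      · show (((m' : stabilizer G α) : G)⁻¹ * ((m : stabilizer G α) : G)) • b = b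
        rw [mul_smul, e', inv_smul_smul]
    exact (inv_mul_eq_one.mp h1).symm
  · rintro ⟨x, hx⟩
    have := hE.prim
    obtain ⟨k, hk, rfl⟩ := hE.normal_transitive (M.map (stabilizer G α).subtype)
      (Subgroup.map_subtype_le M)
      (fun e => hM ((Subgroup.map_eq_bot_iff_of_injective _ (stabilizer G α).subtype_injective).mp e))
      (fun u hu k hk => by
        obtain ⟨k', hk', rfl⟩ := hk
        exact ⟨⟨u, hu⟩ * k' * ⟨u, hu⟩⁻¹, hMn.conj_mem k' hk' _, rfl⟩)
      hb (mem_orbit_self b) hx
    obtain ⟨k', hk', rfl⟩ := hk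
    exact ⟨⟨k', hk'⟩, rfl⟩

lemma Extreme.fitting_spec (hE : Extreme G Ω) {α : Ω}
    (hF : Cfsg.fittingSubgroup (stabilizer G α) ≠ ⊥) :
    ∃ p : ℕ, p.Prime ∧ Cfsg.IsElementaryAbelian p (Cfsg.fittingSubgroup (stabilizer G α)) ∧
      Nat.card (Cfsg.fittingSubgroup (stabilizer G α)) ∣ Nat.card Ω - 1 ∧
      Subgroup.centralizer ((Cfsg.fittingSubgroup (stabilizer G α) : Subgroup (stabilizer G α)) :
        Set (stabilizer G α)) = Cfsg.fittingSubgroup (stabilizer G α) := by
  set F := Cfsg.fittingSubgroup (stabilizer G α) with hFdef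
  have hFn : F.Normal := Cfsg.Agent.Fitting.fitting_normal
  obtain ⟨M, hM, hMF⟩ := Cfsg.Agent.Fitting.exists_isMinNormal_le hFn hF
  have hMn := hM.1
  have hFC := hM.fitting_le_centralizer
  have hab : IsMulCommutative M :=
    ⟨⟨fun a b => Subtype.ext (Subgroup.mem_centralizer_iff.mp (hFC (hMF b.2)) a a.2)⟩⟩
  obtain ⟨b, hb⟩ := hE.exists_moved α
  have hle : ∀ K : Subgroup (stabilizer G α),
      K ≤ Subgroup.centralizer (M : Set (stabilizer G α)) → Nat.card K ≤ Nat.card M := by
    intro K hK
    rw [← hE.suborbit_card_eq M hM.2.1 hab hb]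
    refine Nat.card_le_card_of_injective
      (fun k : K => (⟨((k : stabilizer G α) : G) • b, ⟨(k : stabilizer G α), rfl⟩⟩ :
        orbit (stabilizer G α) b)) (fun k k' e => ?_)
    have e' : ((k : stabilizer G α) : G) • b = ((k' : stabilizer G α) : G) • b := congrArg Subtype.val e
    have h1 : (k'⁻¹ * k : K) = 1 := by
      refine Subtype.ext (hE.commute_semiregular M hM.2.1 hb ?_ ?_)
      · intro m hm
        exact (Subgroup.mem_centralizer_iff.mp (hK (k'⁻¹ * k).2) m hm).symm
      · show (((k' : stabilizer G α) : G)⁻¹ * ((k : stabilizer G α) : G)) • b = b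
        rw [mul_smul, e', inv_smul_smul]
    exact (inv_mul_eq_one.mp h1).symm
  have hFM : M = F := Subgroup.eq_of_le_of_card_ge hMF (hle F hFC)
  obtain ⟨p, hp, hel⟩ := hM.exists_isElementaryAbelian
  refine ⟨p, hp, hFM ▸ hel, ?_, ?_⟩
  · rw [← hFM, ← Set.ncard_univ Ω, ← Set.ncard_sdiff_singleton_of_mem (Set.mem_univ α), ← Nat.card_coe_set_eq]
    refine dvd_card_of_invariant (H := stabilizer G α) _ (fun x hx h => ⟨trivial, fun e => hx.2 ?_⟩)
      (fun x hx => ?_)
    · have e' : (h : G) • x = α := e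
      exact MulAction.injective (h : G) (e'.trans h.2.symm)
    · exact dvd_of_eq (hE.suborbit_card_eq M hM.2.1 hab (fun e => hx.2 e)).symm
  · rw [← hFM]
    refine (Subgroup.eq_of_le_of_card_ge ?_ (hle _ le_rfl)).symm
    exact Subgroup.le_centralizer_iff_isMulCommutative.mpr hab

lemma exists_linear_rep_aut {X A : Type*} [Group X] [CommGroup A] [Finite A] {p e : ℕ} [Fact p.Prime]
    [Module (ZMod p) (Additive A)] (f : X →* MulAut A) (hcard : Nat.card A = p ^ e) :
    ∃ φ : X →* GL (Fin e) (ZMod p), φ.ker = f.ker := by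
  have : Finite (Additive A) := inferInstanceAs (Finite A)
  have : Module.Finite (ZMod p) (Additive A) := Module.Finite.of_finite
  have hfin : Module.finrank (ZMod p) (Additive A) = e := by
    have h1 := Module.natCard_eq_pow_finrank (K := ZMod p) (V := Additive A)
    rw [Nat.card_zmod, show Nat.card (Additive A) = Nat.card A from Nat.card_congr Additive.toMul, hcard] at h1
    exact (Nat.pow_right_injective (Fact.out (p := p.Prime)).two_le h1).symm
  let bas := Module.finBasisOfFinrankEq (ZMod p) (Additive A) hfin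
  let lin : X →* Module.End (ZMod p) (Additive A) :=
    { toFun := fun x => AddMonoidHom.toZModLinearMap p (MonoidHom.toAdditive (f x).toMonoidHom)
      map_one' := by apply LinearMap.ext; intro v; simp
      map_mul' := fun x y => by apply LinearMap.ext; intro v; simp }
  let toM : Module.End (ZMod p) (Additive A) →* Matrix (Fin e) (Fin e) (ZMod p) :=
    { toFun := fun g => LinearMap.toMatrix bas bas g
      map_one' := LinearMap.toMatrix_one bas
      map_mul' := fun g k => LinearMap.toMatrix_mul bas g k }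
  refine ⟨(Units.map toM).comp lin.toHomUnits, ?_⟩
  ext x
  rw [MonoidHom.mem_ker, MonoidHom.mem_ker]
  constructor
  · intro hx
    have h1 : toM (lin x) = 1 := congrArg Units.val hx
    have h2 : lin x = 1 := (LinearMap.toMatrix bas bas).injective (h1.trans (LinearMap.toMatrix_one bas).symm)
    ext a
    exact congrArg (fun g : Module.End (ZMod p) (Additive A) => Additive.toMul (g (Additive.ofMul a))) h2
  · intro hx
    have h2 : lin x = 1 := by
      apply LinearMap.ext
      intro v
      simp [lin, hx]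
    exact Units.ext (show toM (lin x) = 1 by rw [h2, map_one])

/-- A normal elementary abelian subgroup gives a linear representation with kernel its centraliser. -/
lemma exists_linear_rep {X : Type*} [Group X] [Finite X] {p e : ℕ} (hp : p.Prime) (F : Subgroup X)
    [F.Normal] (hF : Cfsg.IsElementaryAbelian p F) (hcard : Nat.card F = p ^ e) :
    ∃ φ : X →* GL (Fin e) (ZMod p), φ.ker = Subgroup.centralizer (F : Set X) := by
  have : Fact p.Prime := ⟨hp⟩
  have := hF.1
  let cg : CommGroup F := { (inferInstance : Group F) with mul_comm := fun a b => hF.1.is_comm.comm a b }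
  have hmod : ∀ v : Additive F, p • v = 0 := fun v => by
    apply Additive.toMul.injective
    exact Subtype.ext (hF.2 _ (Additive.toMul v).2)
  let hm : Module (ZMod p) (Additive F) := AddCommGroup.zmodModule hmod
  obtain ⟨φ, hφ⟩ := exists_linear_rep_aut (A := F) (MulAut.conjNormal (H := F)) hcard
  refine ⟨φ, ?_⟩
  rw [hφ]
  ext x
  rw [MonoidHom.mem_ker, Subgroup.mem_centralizer_iff]
  constructor
  · intro hx f hf
    have h3 : x * f * x⁻¹ = f := congrArg (fun g : MulAut F => ((g ⟨f, hf⟩ : F) : X)) hx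
    calc f * x = (x * f * x⁻¹) * x := by rw [h3]
      _ = x * f := by group
  · intro hx
    ext f
    show x * (f : X) * x⁻¹ = f
    rw [← hx _ f.2, mul_inv_cancel_right]

end Cfsg.Agent.RecogB
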