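import Cfsg.Agent.TT95.InvolClasses

/-!
Central extensions by a group of order two of groups of type M(22): involutions lift to involutions.
-/

set_option autoImplicit false
set_option linter.unusedSectionVars false

namespace Cfsg.Agent.RecogB.M22Cover

open Cfsg.Agent.TT95 Cfsg.Agent.TT95.U6

/-- The element `a` is a product of six pairwise commuting neighbours. -/
def Six {G : Type*} [Group G] (D : Set G) (a : G) : Prop :=
  ∃ l : List G, l.length = 6 ∧ (∀ b ∈ l, b ∈ nb D a) ∧ (∀ b ∈ l, ∀ c ∈ l, Commute b c) ∧ l.prod = a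

variable {G : Type*} [Group G] [Finite G] {D : Set G} (hC : Cfg22 D) {a : G} (ha : a ∈ D)

include hC ha

theorem six : Six D a := by
  obtain ⟨γ, hγ⟩ := hC.loc a ha
  -- a second odd expression
  obtain ⟨m1, m2, m3, -, -, -⟩ := base_isPt
  have o : orth e1 e2 = true ∧ orth e1 e3 = true ∧ orth e2 e3 = true ∧ e1 ≠ e2 ∧ e1 ≠ e3 ∧ e2 ≠ e3 := by
    decide +kernel
  have hcom : ∀ {p q : ℕ}, isPt p = true → isPt q = true → orth p q = true → Commute (γ p) (γ q) :=
    fun hp hq h => (hγ.comm _ _ hp hq).2 h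
  have hneγ : ∀ {p q : ℕ}, isPt p = true → isPt q = true → p ≠ q → γ p ≠ γ q :=
    fun hp hq h e => h (hγ.inj _ _ hp hq e)
  obtain ⟨x, y, z, hxD, hyD, hzD, -, -, -, -, -, -, -, -, -, hp, huniq⟩ :=
    partner hC (hγ.mem e1 m1).1 (hγ.mem e2 m2).1 (hγ.mem e3 m3).1
      ⟨hneγ m1 m2 o.2.2.2.1, hneγ m1 m3 o.2.2.2.2.1, hneγ m2 m3 o.2.2.2.2.2⟩
      (hcom m1 m2 o.1) (hcom m1 m3 o.2.1) (hcom m2 m3 o.2.2.1)
  have hP : ∀ i ∈ ([0, 1, 2] : List ℕ), ∀ u v w, hyperovals.getD i [] = [u, v, w] →
      isPt u = true ∧ isPt v = true ∧ isPt w = true ∧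
      (γ u * γ v * γ w = γ e1 * γ e2 * γ e3 →
        ∀ s, (s = γ u ∨ s = γ v ∨ s = γ w) ↔ (s = x ∨ s = y ∨ s = z)) ∧
      (γ u * γ v * γ w ≠ γ e1 * γ e2 * γ e3 → Six D a) := by
    intro i hi u v w e
    have h3 := allP_iff.1 hyper_central.2.2 i hi
    rw [e, allP_iff] at h3
    have hu := h3 u (by simp); have hv := h3 v (by simp); have hw := h3 w (by simp)
    simp only [Bool.and_eq_true, allP_iff, List.elem_eq_mem, Bool.not_eq_true', decide_eq_false_iff_not] at hu hv hw
    refine ⟨hu.1.2, hv.1.2, hw.1.2, fun hprod => ?_, fun hne => ?_⟩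
    · have hnd : [u, v, w].Nodup := by
        simp only [List.mem_cons, List.not_mem_nil, or_false] at hi
        rcases hi with rfl | rfl | rfl <;>
          (simp only [hyperovals, List.getD_cons_zero, List.getD_cons_succ] at e; rw [← e]; decide)
      simp only [List.nodup_cons, List.mem_cons, List.not_mem_nil, or_false, not_or] at hnd
      refine (huniq _ _ _ (hγ.mem u hu.1.2).1 (hγ.mem v hv.1.2).1 (hγ.mem w hw.1.2).1
        ⟨hneγ hu.1.2 hv.1.2 hnd.1.1, hneγ hu.1.2 hw.1.2 hnd.1.2, hneγ hv.1.2 hw.1.2 hnd.2.1⟩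
        (hcom hu.1.2 hv.1.2 (hu.1.1 v (by simp))) (hcom hu.1.2 hw.1.2 (hu.1.1 w (by simp)))
        (hcom hv.1.2 hw.1.2 (hv.1.1 w (by simp))) hprod).resolve_left fun hh => ?_
      have := (hh (γ u)).1 (Or.inl rfl)
      apply hu.2
      rcases this with r | r | r
      · rw [hγ.inj _ _ hu.1.2 m1 r]; simp [e1]
      · rw [hγ.inj _ _ hu.1.2 m2 r]; simp [e2]
      · rw [hγ.inj _ _ hu.1.2 m3 r]; simp [e3]
    · set w6 := γ e1 * γ e2 * γ e3 * (γ u * γ v * γ w) with hw6
      have hcen : ∀ b ∈ nb D a, Commute w6 b := by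
        intro b hb
        obtain ⟨p, hpp, rfl⟩ := hγ.surj b hb
        have hc := allP_iff.1 (allP_iff.1 hyper_central.1 i hi) p (mem_pts.2 hpp)
        rw [e] at hc
        have hval := Nat.eq_of_beq_eq_true hc
        simp only [List.cons_append, List.nil_append, List.foldr_cons, List.foldr_nil] at hval
        have s1 := hγ.isPt_tv w p hw.1.2 hpp
        have s2 := hγ.isPt_tv v _ hv.1.2 s1
        have s3 := hγ.isPt_tv u _ hu.1.2 s2
        have s4 := hγ.isPt_tv e3 _ m3 s3
        have s5 := hγ.isPt_tv e2 _ m2 s4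
        have : w6 * γ p * w6⁻¹ = γ p := by
          rw [hw6]
          calc _ = γ e1 * (γ e2 * (γ e3 * (γ u * (γ v * (γ w * γ p * (γ w)⁻¹) * (γ v)⁻¹) * (γ u)⁻¹) * (γ e3)⁻¹) *
                (γ e2)⁻¹) * (γ e1)⁻¹ := by group
            _ = γ p := by
              rw [hγ.conj w p hw.1.2 hpp, hγ.conj v _ hv.1.2 s1, hγ.conj u _ hu.1.2 s2, hγ.conj e3 _ m3 s3,
                hγ.conj e2 _ m2 s4, hγ.conj e1 _ m1 s5]
              exact congrArg γ hval
        exact mul_inv_eq_iff_eq_mul.1 this
      have hwa : Commute w6 a := by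
        have k := fun p (hp : isPt p = true) => (hγ.mem p hp).2.2.symm
        exact (((k e1 m1).mul_left (k e2 m2)).mul_left (k e3 m3)).mul_left
          (((k u hu.1.2).mul_left (k v hv.1.2)).mul_left (k w hw.1.2))
      rcases kernel_lemma hC ha hwa hcen with h1 | h1
      · exfalso
        apply hne
        rw [hw6] at h1
        have : γ u * γ v * γ w = (γ e1 * γ e2 * γ e3)⁻¹ := eq_inv_of_mul_eq_one_right h1
        rw [this]
        rw [mul_inv_rev, mul_inv_rev, inv_eq hC.tt (hγ.mem e1 m1).1, inv_eq hC.tt (hγ.mem e2 m2).1,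
          inv_eq hC.tt (hγ.mem e3 m3).1]
        rw [(hcom m1 m2 o.1).eq, ((hcom m2 m3 o.2.2.1).mul_left (hcom m1 m3 o.2.1)).eq]
      · refine ⟨[γ e1, γ e2, γ e3, γ u, γ v, γ w], rfl, ?_, ?_, ?_⟩
        · intro b hb
          simp only [List.mem_cons, List.not_mem_nil, or_false] at hb
          rcases hb with rfl | rfl | rfl | rfl | rfl | rfl <;> first | exact hγ.mem _ m1 | exact hγ.mem _ m2 | exact hγ.mem _ m3 | exact hγ.mem _ hu.1.2 | exact hγ.mem _ hv.1.2 | exact hγ.mem _ hw.1.2
        · have hor : ∀ p ∈ [e1, e2, e3, u, v, w], ∀ q ∈ [e1, e2, e3, u, v, w], orth p q = true := by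
            intro p hp' q hq'
            simp only [List.mem_cons, List.not_mem_nil, or_false] at hi
            rcases hi with rfl | rfl | rfl <;>
              (simp only [hyperovals, List.getD_cons_zero, List.getD_cons_succ, List.cons.injEq, and_true] at e
               obtain ⟨rfl, rfl, rfl⟩ := e
               exact allP_iff.1 (allP_iff.1 (by decide +kernel :
                 allP (fun p => allP (fun q => orth p q) [e1, e2, e3, _, _, _]) [e1, e2, e3, _, _, _] = true) p hp') q hq')
          intro b hb c hc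
          rw [show [γ e1, γ e2, γ e3, γ u, γ v, γ w] = [e1, e2, e3, u, v, w].map γ from rfl, List.mem_map] at hb hc
          obtain ⟨p, hp', rfl⟩ := hb
          obtain ⟨q, hq', rfl⟩ := hc
          have hpts : ∀ r ∈ [e1, e2, e3, u, v, w], isPt r = true := by
            intro r hr
            simp only [List.mem_cons, List.not_mem_nil, or_false] at hr
            rcases hr with rfl | rfl | rfl | rfl | rfl | rfl <;>
              first | exact m1 | exact m2 | exact m3 | exact hu.1.2 | exact hv.1.2 | exact hw.1.2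
          exact hcom (hpts p hp') (hpts q hq') (hor p hp' q hq')
        · simp only [List.prod_cons, List.prod_nil, mul_one]
          rw [← h1, hw6]
          group

  by_contra hne
  obtain ⟨a1, a2, a3, ha4, ha5⟩ := hP 0 (by simp) 21 45 57 rfl
  obtain ⟨b1, b2, b3, hb4, hb5⟩ := hP 1 (by simp) 25 37 61 rfl
  have h0 := ha4 (by_contra fun h => hne (ha5 h))
  have h1 := hb4 (by_contra fun h => hne (hb5 h))
  have h21 : γ 21 = γ 25 ∨ γ 21 = γ 37 ∨ γ 21 = γ 61 := (h1 _).2 ((h0 _).1 (Or.inl rfl))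
  rcases h21 with r | r | r
  · exact absurd (hγ.inj _ _ a1 b1 r) (by norm_num)
  · exact absurd (hγ.inj _ _ a1 b2 r) (by norm_num)
  · exact absurd (hγ.inj _ _ a1 b3 r) (by norm_num)

end Cfsg.Agent.RecogB.M22Cover

namespace Cfsg.Agent.RecogB.M22Cover

open Cfsg.Agent.TT95 Cfsg.Agent.TT95.U6

section Ext

variable {Q : Type*} [Group Q] {C : Type*} [Group C] (π : C →* Q) (hπ : Function.Surjective π)
  (d : C) (hker : ∀ c, π c = 1 ↔ c = 1 ∨ c = d) (hdd : d * d = 1) (hdc : ∀ c : C, c * d = d * c)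

include hker in
theorem lift_eq {y y' : C} (h : π y = π y') : y' = y ∨ y' = y * d := by
  have : π (y⁻¹ * y') = 1 := by rw [map_mul, map_inv, h, inv_mul_cancel]
  rcases (hker _).1 this with e | e
  · exact Or.inl (inv_mul_eq_one.1 e).symm
  · exact Or.inr (inv_mul_eq_iff_eq_mul.1 e)

include hker hdd hdc in
theorem sq_indep {y y' : C} (h : π y = π y') : y' * y' = y * y := by
  rcases lift_eq π d hker h with rfl | rfl
  · rfl
  · rw [mul_assoc, ← mul_assoc d, ← hdc y, mul_assoc, hdd, mul_one]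

include hker hdc in
theorem comm_indep {y y' z z' : C} (h : π y = π y') (h' : π z = π z') (hc : Commute y z) :
    Commute y' z' := by
  have hd : ∀ c, Commute d c := fun c => (hdc c).symm
  rcases lift_eq π d hker h with rfl | rfl <;> rcases lift_eq π d hker h' with rfl | rfl
  · exact hc
  · exact hc.mul_right ((hd _).symm)
  · exact hc.mul_left (hd _)
  · exact (hc.mul_left (hd _)).mul_right ((hd _).symm)

variable [Finite Q] {D : Set Q} (hC : Cfg22 D) [Gen D]

include hπ hker hdd hdc hC in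
/-- Commuting transpositions lift to commuting elements. -/
theorem commute_lifts {a b : Q} (ha : a ∈ D) (hb : b ∈ D) (hab : Commute a b) {A B : C}
    (hA : π A = a) (hB : π B = b) : Commute A B := by
  by_contra hn
  have hne : b ≠ a := by
    rintro rfl
    exact hn (comm_indep π d hker hdc (rfl : π A = π A) (hA.trans hB.symm) (Commute.refl A))
  obtain ⟨γ, hγ⟩ := hC.loc a ha
  have flip : ∀ c ∈ nb D a, ∀ X, π X = c → A * X = X * A * d := by
    intro c hc X hX
    have h' : π (X * A) = π (A * X) := by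
      rw [map_mul, map_mul, hX, hA]; exact hc.2.2.eq.symm
    rcases lift_eq π d hker h' with h | h
    · exfalso
      apply hn
      obtain ⟨g, hg0, hg⟩ := trans_one hC ha hγ (show b ∈ nb D a from ⟨hb, hne, hab⟩)
      obtain ⟨k, hk, hgc⟩ := trans_one hC ha hγ hc
      have hga : ∀ r ∈ Subgroup.closure (nb D a), r * a * r⁻¹ = a := fun r hr => by
        rw [← (commute_closure_nb hC.tt hr).eq, mul_inv_cancel_right]
      obtain ⟨M, hM⟩ := hπ (g * k⁻¹)
      refine comm_indep π d hker hdc ?_ ?_ ((show Commute A X from h).map (MulAut.conj M).toMonoidHom)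
      · show π (M * A * M⁻¹) = π A
        rw [map_mul, map_mul, map_inv, hM, hA]
        exact hga _ (mul_mem hg0 (inv_mem hk))
      · show π (M * X * M⁻¹) = π B
        rw [map_mul, map_mul, map_inv, hM, hX, hB, ← hg, ← hgc]
        group
    · exact h
  have hpt : ∀ p ∈ line12, isPt p = true := fun p hp => isPt_of_mem_line12 hp
  obtain ⟨U1, hU1⟩ := hπ (γ 1)
  obtain ⟨U2, hU2⟩ := hπ (γ 4)
  obtain ⟨U3, hU3⟩ := hπ (γ 5)
  obtain ⟨U4, hU4⟩ := hπ (γ 9)
  obtain ⟨U5, hU5⟩ := hπ (γ 13)
  obtain ⟨q1, q4, q5, q9, q13⟩ := five_isPt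
  have hm := hγ.mem
  have mv : ∀ {U X : C}, A * U = U * A * d → A * (U * X) = U * (A * X) * d := by
    intro U X h
    rw [← mul_assoc, h, mul_assoc (U * A), ← hdc X]
    simp [mul_assoc]
  have hrel : π A = π (U1 * (U2 * (U3 * (U4 * U5)))) := by
    rw [hA, ← line_prod hC ha hγ]
    simp only [map_mul, hU1, hU2, hU3, hU4, hU5, mul_assoc]
  have hall : A * (U1 * (U2 * (U3 * (U4 * U5)))) = U1 * (U2 * (U3 * (U4 * U5))) * A * d := by
    rw [mv (flip _ (hm 1 q1) U1 hU1), mv (flip _ (hm 4 q4) U2 hU2), mv (flip _ (hm 5 q5) U3 hU3),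
      mv (flip _ (hm 9 q9) U4 hU4), flip _ (hm 13 q13) U5 hU5]
    simp only [mul_assoc, hdd, mul_one]
  have hcm : Commute A (U1 * (U2 * (U3 * (U4 * U5)))) :=
    comm_indep π d hker hdc (rfl : π A = π A) hrel (Commute.refl A)
  rw [← hcm.eq] at hall
  have hd1 : d = 1 := left_eq_mul.1 hall
  have := flip b ⟨hb, hne, hab⟩ B hB
  rw [hd1, mul_one] at this
  exact hn this

include hπ hker hdd hdc hC in
/-- Transpositions lift to involutions. -/
theorem sq_lift {a : Q} (ha : a ∈ D) {A : C} (hA : π A = a) : A * A = 1 := by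
  have hD := hC.tt
  have hconst : ∀ b ∈ D, ∀ B, π B = b → B * B = A * A := by
    intro b hb B hB
    obtain ⟨g, hg⟩ := hC.one a ha b hb
    obtain ⟨M, hM⟩ := hπ g
    rw [sq_indep π d hker hdd hdc (y := M * A * M⁻¹) (by rw [map_mul, map_mul, map_inv, hM, hA, hB, hg])]
    have h1 : π (A * A) = 1 := by rw [map_mul, hA, sq hD ha]
    calc M * A * M⁻¹ * (M * A * M⁻¹) = M * (A * A) * M⁻¹ := by group
      _ = A * A := by
        rcases (hker _).1 h1 with e | e <;> rw [e]
        · rw [mul_one, mul_inv_cancel]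
        · rw [hdc M, mul_inv_cancel_right]
  obtain ⟨l, hlen, hmem, hcomm, hprod⟩ := six hC ha
  obtain ⟨s, hs⟩ := hπ.hasRightInverse
  set L := l.map s with hL
  have hLp : π A = π L.prod := by
    rw [map_list_prod, hL, List.map_map, hA, ← hprod]
    congr 1
    conv_lhs => rw [← List.map_id l]
    exact List.map_congr_left fun x _ => (hs x).symm
  have key : ∀ l : List Q, (∀ b ∈ l, b ∈ nb D a) → (∀ b ∈ l, ∀ c ∈ l, Commute b c) →
      (l.map s).prod * (l.map s).prod = (A * A) ^ l.length := by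
    intro l
    induction l with
    | nil => simp
    | cons x l ih =>
      intro hm hc
      have hx := (hm x List.mem_cons_self).1
      have hxc : Commute (s x) (l.map s).prod := Commute.list_prod_right _ _ fun Y hY => by
        obtain ⟨y, hy, rfl⟩ := List.mem_map.1 hY
        exact commute_lifts π hπ d hker hdd hdc hC hx (hm y (List.mem_cons_of_mem _ hy)).1
          (hc x List.mem_cons_self y (List.mem_cons_of_mem _ hy)) (hs x) (hs y)
      rw [List.map_cons, List.prod_cons, hxc.symm.mul_mul_mul_comm, hconst x hx (s x) (hs x),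
        ih (fun y hy => hm y (List.mem_cons_of_mem _ hy))
          (fun u hu v hv => hc u (List.mem_cons_of_mem _ hu) v (List.mem_cons_of_mem _ hv)),
        List.length_cons, pow_succ']
  have h6 := key l hmem hcomm
  rw [hlen, sq_indep π d hker hdd hdc hLp] at h6
  have h1 : π (A * A) = 1 := by rw [map_mul, hA, sq hD ha]
  rcases (hker _).1 h1 with e | e
  · exact e
  · rw [e] at h6 ⊢
    rw [h6, show (6 : ℕ) = 2 * 3 from rfl, pow_mul, pow_two, hdd, one_pow]

include hπ hker hdd hdc hC in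
/-- Every lift of an element squaring to one squares to one. -/
theorem sq_eq_one_of_image (hcore : Core22 Q D) {y : C} (h : π y * π y = 1) : y * y = 1 := by
  by_cases h1 : π y = 1
  · rcases (hker _).1 h1 with rfl | rfl
    · exact one_mul 1
    · exact hdd
  obtain ⟨m, -, -, l, -, -, hmem, hcomm, hprod⟩ := involution_isProd hC hcore h h1
  obtain ⟨s, hs⟩ := hπ.hasRightInverse
  have key : ∀ l : List Q, (∀ b ∈ l, b ∈ D) → (∀ b ∈ l, ∀ c ∈ l, Commute b c) →
      π (l.map s).prod = l.prod ∧ (l.map s).prod * (l.map s).prod = 1 := by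
    intro l
    induction l with
    | nil => simp
    | cons x l ih =>
      intro hm hc
      have hx := hm x List.mem_cons_self
      obtain ⟨i1, i2⟩ := ih (fun y hy => hm y (List.mem_cons_of_mem _ hy))
        (fun u hu v hv => hc u (List.mem_cons_of_mem _ hu) v (List.mem_cons_of_mem _ hv))
      have hxc : Commute (s x) (l.map s).prod := Commute.list_prod_right _ _ fun Y hY => by
        obtain ⟨y, hy, rfl⟩ := List.mem_map.1 hY
        exact commute_lifts π hπ d hker hdd hdc hC hx (hm y (List.mem_cons_of_mem _ hy))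
          (hc x List.mem_cons_self y (List.mem_cons_of_mem _ hy)) (hs x) (hs y)
      refine ⟨by rw [List.map_cons, List.prod_cons, map_mul, i1, hs x, List.prod_cons], ?_⟩
      rw [List.map_cons, List.prod_cons, hxc.symm.mul_mul_mul_comm,
        sq_lift π hπ d hker hdd hdc hC hx (hs x), i2, one_mul]
  obtain ⟨k1, k2⟩ := key l hmem hcomm
  rw [sq_indep π d hker hdd hdc (y := (l.map s).prod) (by rw [k1, hprod]), k2]

end Ext

end Cfsg.Agent.RecogB.M22Cover
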