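import Cfsg.Agent.KnownSimple58.LinearSpectrum
import Cfsg.Agent.SL2Tor.PSL

/-!
Element orders in `PGL₂(q)`.
-/

set_option autoImplicit false

namespace Cfsg.Agent.RecogB

open Matrix Polynomial

variable {F : Type*} [Field F]

/-- A power of every element of `GL₂(q)` with exponent `p`, `q - 1` or `q + 1` is scalar. -/
theorem gl2_pow_scalar [Fintype F] (p : ℕ) [hp : Fact p.Prime] [CharP F p] (g : GL (Fin 2) F) :
    (∃ c : F, (g : Matrix (Fin 2) (Fin 2) F) ^ p = algebraMap F _ c) ∨
    (∃ c : F, (g : Matrix (Fin 2) (Fin 2) F) ^ (Fintype.card F - 1) = algebraMap F _ c) ∨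
    (∃ c : F, (g : Matrix (Fin 2) (Fin 2) F) ^ (Fintype.card F + 1) = algebraMap F _ c) := by
  classical
  obtain ⟨A, hA⟩ : ∃ A : Matrix (Fin 2) (Fin 2) F, A = (g : Matrix (Fin 2) (Fin 2) F) := ⟨_, rfl⟩
  rw [← hA]
  have hunit : IsUnit A := hA ▸ g.isUnit
  set t := A.trace with ht
  set d := A.det with hd
  set q := Fintype.card F with hq
  have hq1 : 1 < q := Fintype.one_lt_card
  have hd0 : d ≠ 0 := by rw [hd, hA]; exact g.det.ne_zero
  set P : F[X] := X ^ 2 - C t * X + C d with hP
  have hPA : aeval A P = 0 := by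
    rw [hP, ht, hd, ← Matrix.charpoly_fin_two]
    exact Matrix.aeval_self_charpoly A
  by_cases hroot : ∃ l : F, l ^ 2 - t * l + d = 0
  · obtain ⟨l, hl⟩ := hroot
    have hPl : P = (X - C l) * (X - C (t - l)) := by
      have e : C d = C l * C (t - l) := by
        rw [← C_mul]; congr 1; linear_combination hl
      rw [hP, e, C_sub]; ring
    by_cases hll : l = t - l
    · left
      refine ⟨l ^ p, ?_⟩
      have hsq : (A - algebraMap F _ l) ^ 2 = 0 := by
        rw [pow_two]
        have : aeval A P = (A - algebraMap F _ l) * (A - algebraMap F _ l) := by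
          rw [hPl, map_mul, ← hll]; simp
        rw [← this, hPA]
      have hp2 : (A - algebraMap F _ l) ^ p = 0 := pow_eq_zero_of_le hp.out.two_le hsq
      rw [sub_pow_char_of_commute _ (Algebra.commute_algebraMap_right l A), sub_eq_zero, ← map_pow]
        at hp2
      exact hp2
    · right; left
      refine ⟨1, ?_⟩
      rw [map_one]
      apply hunit.mul_left_cancel
      rw [mul_one, ← pow_succ', show q - 1 + 1 = q by omega]
      have hdvd : P ∣ X ^ q - X := by
        rw [hPl]
        refine IsCoprime.mul_dvd ?_ ?_ ?_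
        · exact Polynomial.isCoprime_X_sub_C_of_isUnit_sub (sub_ne_zero.mpr hll).isUnit
        · rw [dvd_iff_isRoot]; simp [hq, FiniteField.pow_card, IsRoot]
        · rw [dvd_iff_isRoot]; simp [hq, FiniteField.pow_card, IsRoot]
      obtain ⟨R, hR⟩ := hdvd
      have := congrArg (aeval A) hR
      rw [map_mul, hPA, zero_mul, map_sub, map_pow, aeval_X, sub_eq_zero] at this
      exact this
  · push Not at hroot
    have hPA' : A * A = algebraMap F _ t * A - algebraMap F _ d := by
      have h := hPA
      simp only [hP, map_add, map_sub, map_mul, map_pow, aeval_X, aeval_C] at h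
      rw [← pow_two]
      rw [sub_add, sub_eq_zero] at h
      exact h
    have hlin : ∀ n, ∃ x y : F, A ^ n = algebraMap F _ x + algebraMap F _ y * A := by
      intro n
      induction n with
      | zero => exact ⟨1, 0, by simp⟩
      | succ n ih =>
        obtain ⟨x, y, h⟩ := ih
        refine ⟨-(y * d), x + y * t, ?_⟩
        rw [pow_succ, h, add_mul, mul_assoc, hPA', mul_sub, map_add, map_mul, map_neg, map_mul]
        noncomm_ring
    have hq' : aeval (A ^ q) P = 0 := by
      have h := Polynomial.expand_aeval q P A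
      rw [FiniteField.expand_card, map_pow, hPA, zero_pow (by omega)] at h
      exact h.symm
    obtain ⟨x, y, hxy⟩ := hlin q
    have hc : A ^ q * A = A * A ^ q := by rw [← pow_succ, ← pow_succ']
    by_cases he : A ^ q = A
    · right; left
      refine ⟨1, ?_⟩
      rw [map_one]
      apply hunit.mul_left_cancel
      rw [mul_one, ← pow_succ', show q - 1 + 1 = q by omega, he]
    · right; right
      refine ⟨d, ?_⟩
      have hB : (A ^ q - A) * (A ^ q + A - algebraMap F _ t) = 0 := by
        have hta : ∀ M : Matrix (Fin 2) (Fin 2) F, algebraMap F _ t * M = M * algebraMap F _ t :=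
          fun M => (Algebra.commutes t M)
        have h1 : A ^ q * A ^ q - algebraMap F _ t * A ^ q + algebraMap F _ d = 0 := by
          simpa [hP, pow_two] using hq'
        have h2 : A * A - algebraMap F _ t * A + algebraMap F _ d = 0 := by rw [hPA']; abel
        calc _ = (A ^ q * A ^ q - algebraMap F _ t * A ^ q + algebraMap F _ d) -
              (A * A - algebraMap F _ t * A + algebraMap F _ d) := by
              rw [sub_mul, mul_sub, mul_sub, mul_add, mul_add, ← hta, ← hta, hc]
              abel
          _ = 0 := by rw [h1, h2, sub_zero]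
      have hu : IsUnit (A ^ q - A) := by
        have e : A ^ q - A = algebraMap F _ x + algebraMap F _ (y - 1) * A := by
          rw [hxy, map_sub, map_one, sub_mul, one_mul]; abel
        set u := y - 1
        have hnorm : x ^ 2 + x * u * t + u ^ 2 * d ≠ 0 := by
          intro h0
          rcases eq_or_ne u 0 with hu0 | hu0
          · have hx0 : x = 0 := by simpa [hu0] using h0
            exact he (sub_eq_zero.mp (by rw [e, hu0, hx0]; simp))
          · refine hroot (-x / u) ?_
            field_simp
            linear_combination h0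
        refine IsUnit.of_mul_eq_one (algebraMap F _ (x ^ 2 + x * u * t + u ^ 2 * d)⁻¹ *
          (algebraMap F _ x + algebraMap F _ u * (algebraMap F _ t - A))) ?_
        rw [e, ← mul_assoc, ← Algebra.commutes, mul_assoc]
        have e2 : (algebraMap F _ x + algebraMap F _ u * A) *
            (algebraMap F _ x + algebraMap F _ u * (algebraMap F _ t - A)) =
            algebraMap F _ (x ^ 2 + x * u * t + u ^ 2 * d) := by
          simp only [Algebra.algebraMap_eq_smul_one, mul_add, add_mul, mul_sub, sub_mul,
            smul_mul_assoc, mul_smul_comm, one_mul, mul_one, smul_smul]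
          rw [hPA']
          simp only [Algebra.algebraMap_eq_smul_one, smul_mul_assoc, one_mul, smul_sub, smul_smul]
          match_scalars <;> ring
        rw [e2, ← map_mul, inv_mul_cancel₀ hnorm, map_one]
      have h2 : A ^ q + A - algebraMap F _ t = 0 := hu.mul_right_eq_zero.mp hB
      have h3 : A ^ q = algebraMap F _ t - A := by
        rw [eq_sub_iff_add_eq]; exact sub_eq_zero.mp h2
      rw [pow_succ, h3, sub_mul, hPA']
      abel

/-- The projective general linear group as a quotient of `GL₂`. -/
abbrev PGLTwo (F : Type*) [Field F] : Type _ := GL (Fin 2) F ⧸ Subgroup.center (GL (Fin 2) F)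

theorem pgl2_mk_eq_one_iff (g : GL (Fin 2) F) :
    (QuotientGroup.mk g : PGLTwo F) = 1 ↔ SL2Tor.IsScalar (g : Matrix (Fin 2) (Fin 2) F) := by
  rw [QuotientGroup.eq_one_iff, Subgroup.mem_center_iff]
  constructor
  · intro h
    have hu := h ⟨!![1, 1; 0, 1], !![1, -1; 0, 1],
      by simp [Matrix.one_fin_two], by simp [Matrix.one_fin_two]⟩
    have hl := h ⟨!![1, 0; 1, 1], !![1, 0; -1, 1],
      by simp [Matrix.one_fin_two], by simp [Matrix.one_fin_two]⟩
    have hu' := congrArg Units.val hu
    have hl' := congrArg Units.val hl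
    rw [Units.val_mul, Units.val_mul] at hu' hl'
    have a1 := congrFun (congrFun hu' 0) 0
    have a2 := congrFun (congrFun hu' 0) 1
    have a3 := congrFun (congrFun hl' 0) 0
    simp [Matrix.mul_apply, Fin.sum_univ_two] at a1 a2 a3
    refine ⟨?_, ?_, ?_⟩
    · linear_combination a3
    · linear_combination a1
    · linear_combination -a2
  · rintro ⟨h1, h2, h3⟩ x
    apply Units.ext
    ext i j
    fin_cases i <;> fin_cases j <;>
      simp [Matrix.mul_apply, Fin.sum_univ_two, h1, h2, h3, mul_comm]

theorem pgl2_orderOf_dvd [Fintype F] (p : ℕ) [Fact p.Prime] [CharP F p] (x : PGLTwo F) :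
    orderOf x ∣ p ∨ orderOf x ∣ Fintype.card F - 1 ∨ orderOf x ∣ Fintype.card F + 1 := by
  obtain ⟨g, rfl⟩ := QuotientGroup.mk_surjective x
  have key : ∀ k : ℕ, (∃ c : F, (g : Matrix (Fin 2) (Fin 2) F) ^ k = algebraMap F _ c) →
      orderOf (QuotientGroup.mk g : PGLTwo F) ∣ k := by
    rintro k ⟨c, hc⟩
    refine orderOf_dvd_of_pow_eq_one ?_
    rw [← QuotientGroup.mk_pow, pgl2_mk_eq_one_iff, Units.val_pow_eq_pow_val, hc,
      Algebra.algebraMap_eq_smul_one]
    exact SL2Tor.isScalar_smul_one c
  rcases gl2_pow_scalar p g with h | h | h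
  · exact Or.inl (key _ h)
  · exact Or.inr (Or.inl (key _ h))
  · exact Or.inr (Or.inr (key _ h))

/-- The element orders of `PGL₂(q)`. -/
theorem range_orderOf_pgl2 [Fintype F] (p : ℕ) [hp : Fact p.Prime] [CharP F p] :
    Set.range (orderOf : PGLTwo F → ℕ) =
      {m : ℕ | m ∣ p ∨ m ∣ Fintype.card F - 1 ∨ m ∣ Fintype.card F + 1} := by
  classical
  ext m
  constructor
  · rintro ⟨x, rfl⟩
    exact pgl2_orderOf_dvd p x
  · have key : (∃ x : PGLTwo F, m ∣ orderOf x) → m ∈ Set.range (orderOf : PGLTwo F → ℕ) := by
      rintro ⟨x, hx⟩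
      exact ⟨x ^ (orderOf x / m), orderOf_pow_orderOf_div (orderOf_pos x).ne' hx⟩
    rintro (h | h | h)
    · -- a unipotent element
      obtain ⟨U, hU⟩ : ∃ U : Matrix.SpecialLinearGroup (Fin 2) F,
          (U : Matrix (Fin 2) (Fin 2) F) = !![1, 1; 0, 1] := ⟨⟨_, by simp [det_fin_two_of]⟩, rfl⟩
      obtain ⟨c, hc⟩ := SL2Tor.pow_char_of_trace p U (by rw [hU]; simp [trace_fin_two]; norm_num)
      refine key ⟨QuotientGroup.mk (Matrix.SpecialLinearGroup.toGL U), ?_⟩
      have hne : (QuotientGroup.mk (Matrix.SpecialLinearGroup.toGL U) : PGLTwo F) ≠ 1 := by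
        rw [ne_eq, pgl2_mk_eq_one_iff]
        show ¬ SL2Tor.IsScalar (U : Matrix (Fin 2) (Fin 2) F)
        rw [hU]; simp [SL2Tor.IsScalar]
      rw [orderOf_eq_prime (by
        rw [← QuotientGroup.mk_pow, pgl2_mk_eq_one_iff, Units.val_pow_eq_pow_val]
        show SL2Tor.IsScalar ((U : Matrix (Fin 2) (Fin 2) F) ^ p)
        rw [hc]; exact SL2Tor.isScalar_smul_one c) hne]
      exact h
    · -- a split element
      obtain ⟨z, hz⟩ := IsCyclic.exists_generator (α := Fˣ)
      let g : GL (Fin 2) F := Matrix.GeneralLinearGroup.mkOfDetNeZero !![(z : F), 0; 0, 1]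
        (by simp [det_fin_two_of])
      have hpow : ∀ k : ℕ, (g : Matrix (Fin 2) (Fin 2) F) ^ k = !![(z : F) ^ k, 0; 0, 1] := by
        intro k
        induction k with
        | zero => simp [Matrix.one_fin_two]
        | succ k ih =>
          rw [pow_succ, ih]
          show _ * !![(z : F), 0; 0, 1] = _
          simp [pow_succ]
      refine key ⟨QuotientGroup.mk g, h.trans ?_⟩
      rw [← Fintype.card_units, ← Nat.card_eq_fintype_card, ← orderOf_eq_card_of_forall_mem_zpowers hz]
      refine orderOf_dvd_of_pow_eq_one ?_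
      have h1 : (QuotientGroup.mk g : PGLTwo F) ^ orderOf (QuotientGroup.mk g : PGLTwo F) = 1 :=
        pow_orderOf_eq_one _
      rw [← QuotientGroup.mk_pow, pgl2_mk_eq_one_iff, Units.val_pow_eq_pow_val, hpow] at h1
      exact Units.ext (by rw [Units.val_pow_eq_pow_val]; simpa using h1.2.2)
    · -- a non-split element
      let E := FiniteField.Extension F p 2
      obtain ⟨φ, hφ, -⟩ := KS58.exists_units_hom (F := F) (A := E) 2
        (FiniteField.finrank_extension F p 2).le
      obtain ⟨z, hz⟩ := IsCyclic.exists_generator (α := Eˣ)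
      have hq1 : 1 < Fintype.card F := Fintype.one_lt_card
      have hzo : orderOf (φ z) = (Fintype.card F + 1) * (Fintype.card F - 1) := by
        rw [orderOf_injective φ hφ, orderOf_eq_card_of_forall_mem_zpowers hz, Nat.card_units,
          FiniteField.natCard_extension, Nat.card_eq_fintype_card, ← Nat.sq_sub_sq, one_pow]
      refine key ⟨QuotientGroup.mk (φ z), h.trans ?_⟩
      set j := orderOf (QuotientGroup.mk (φ z) : PGLTwo F)
      have h1 : (QuotientGroup.mk (φ z) : PGLTwo F) ^ j = 1 := pow_orderOf_eq_one _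
      rw [← QuotientGroup.mk_pow, pgl2_mk_eq_one_iff] at h1
      obtain ⟨s1, s2, s3⟩ := h1
      have hm : ((φ z ^ j : GL (Fin 2) F) : Matrix (Fin 2) (Fin 2) F) =
          algebraMap F _ (((φ z ^ j : GL (Fin 2) F) : Matrix (Fin 2) (Fin 2) F) 1 1) := by
        ext i i'
        fin_cases i <;> fin_cases i' <;> simp [Matrix.algebraMap_matrix_apply, s1, s2, s3]
      have hc0 : ((φ z ^ j : GL (Fin 2) F) : Matrix (Fin 2) (Fin 2) F) 1 1 ≠ 0 := by
        intro e
        have := (φ z ^ j).det.ne_zero
        rw [Matrix.GeneralLinearGroup.val_det_apply, hm, e] at this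
        simp at this
      have h2 : (φ z) ^ (j * (Fintype.card F - 1)) = 1 := by
        apply Units.ext
        rw [pow_mul, Units.val_pow_eq_pow_val, hm, ← map_pow,
          FiniteField.pow_card_sub_one_eq_one _ hc0, map_one, Units.val_one]
      have h3 := orderOf_dvd_of_pow_eq_one h2
      rw [hzo] at h3
      exact (Nat.mul_dvd_mul_iff_right (by omega)).mp h3

end Cfsg.Agent.RecogB
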