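import Cfsg.Agent.RecogB.TwoSFiveCert

/-! A group with the element orders of `A₁₀` and arbitrarily large order. -/

set_option autoImplicit false

namespace Cfsg.Agent.RecogB.TwoSFive

open Matrix

/-- The matrix over `ZMod 7` of a code. -/
def toMat (x : M4) : Matrix (Fin 4) (Fin 4) (ZMod 7) :=
  !![(x.a00 : ZMod 7), (x.a01 : ZMod 7), (x.a02 : ZMod 7), (x.a03 : ZMod 7); (x.a10 : ZMod 7), (x.a11 : ZMod 7), (x.a12 : ZMod 7), (x.a13 : ZMod 7); (x.a20 : ZMod 7), (x.a21 : ZMod 7), (x.a22 : ZMod 7), (x.a23 : ZMod 7); (x.a30 : ZMod 7), (x.a31 : ZMod 7), (x.a32 : ZMod 7), (x.a33 : ZMod 7)]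

lemma toMat_mul (x y : M4) : toMat (x.mul y) = toMat x * toMat y := by
  ext i j
  fin_cases i <;> fin_cases j <;>
    simp [toMat, M4.mul, Matrix.mul_apply, Fin.sum_univ_four, ZMod.natCast_mod]

lemma toMat_add (x y : M4) : toMat (x.add y) = toMat x + toMat y := by
  ext i j
  fin_cases i <;> fin_cases j <;> simp [toMat, M4.add, ZMod.natCast_mod]

lemma toMat_one : toMat one = 1 := by decide +kernel
lemma toMat_zero : toMat zero = 0 := by decide +kernel
lemma toMat_negOne : toMat negOne = -1 := by decide +kernel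

lemma toMat_pow (x : M4) : ∀ n, toMat (x.pow n) = toMat x ^ n
  | 0 => toMat_one
  | n + 1 => by rw [M4.pow, toMat_mul, toMat_pow x n, pow_succ]

abbrev GL4 := (Matrix (Fin 4) (Fin 4) (ZMod 7))ˣ

def uA : GL4 := ⟨toMat genA, toMat genA',
  by rw [← toMat_mul, ← toMat_one]; exact congrArg toMat (by decide +kernel),
  by rw [← toMat_mul, ← toMat_one]; exact congrArg toMat (by decide +kernel)⟩

def uB : GL4 := ⟨toMat genB, toMat genB',
  by rw [← toMat_mul, ← toMat_one]; exact congrArg toMat (by decide +kernel),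
  by rw [← toMat_mul, ← toMat_one]; exact congrArg toMat (by decide +kernel)⟩

/-- `2.S₅⁻` in `GL₄(7)`. -/
def H : Subgroup GL4 := Subgroup.closure {uA, uB}

lemma closed_step {g : M4} {s : List ℕ} (h : closedBy g s = true) {m : M4} (hm : m ∈ elems) :
    m.mul g ∈ elems := by
  simp only [closedBy, Bool.and_eq_true, List.all_eq_true, decide_eq_true_eq, beq_iff_eq] at h
  obtain ⟨i, hi, rfl⟩ := List.getElem_of_mem hm
  have hlt : i < (elems.zip s).length := by rw [List.length_zip, h.2]; omega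
  have := h.1 (elems.zip s)[i] (List.getElem_mem hlt)
  rw [List.getElem_zip] at this
  exact List.mem_of_getElem? this

lemma mem_H {u : GL4} (hu : u ∈ H) : ∃ m ∈ elems, toMat m = (u : Matrix (Fin 4) (Fin 4) (ZMod 7)) := by
  induction hu using Subgroup.closure_induction_right with
  | one => exact ⟨one, List.mem_cons_self, toMat_one⟩
  | mul_right x hx y hy ih =>
    obtain ⟨m, hm, e⟩ := ih
    rcases hy with rfl | rfl
    · exact ⟨_, closed_step closedA hm, by rw [toMat_mul, e]; rfl⟩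
    · exact ⟨_, closed_step closedB hm, by rw [toMat_mul, e]; rfl⟩
  | mul_inv_cancel x hx y hy ih =>
    obtain ⟨m, hm, e⟩ := ih
    rcases hy with rfl | rfl
    · exact ⟨_, closed_step closedA' hm, by rw [toMat_mul, e]; rfl⟩
    · exact ⟨_, closed_step closedB' hm, by rw [toMat_mul, e]; rfl⟩

/-- Evaluation of a word in the generators. -/
def evalWord : List Bool → H
  | [] => 1
  | b :: w => (if b then ⟨uB, Subgroup.subset_closure (by simp)⟩ else ⟨uA, Subgroup.subset_closure (by simp)⟩) *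
      evalWord w

/-- The code of a word. -/
def evalCode : List Bool → M4
  | [] => one
  | b :: w => (if b then genB else genA).mul (evalCode w)

lemma evalWord_coe : ∀ w, (((evalWord w : H) : GL4) : Matrix (Fin 4) (Fin 4) (ZMod 7)) = toMat (evalCode w)
  | [] => toMat_one.symm
  | b :: w => by
    rw [evalWord, evalCode, toMat_mul, ← evalWord_coe w]
    cases b <;> rfl

lemma code_eq_iff_pow {w : List Bool} {n : ℕ} {c : M4} (h : (evalCode w).pow n = c) :
    ((((evalWord w) ^ n : H) : GL4) : Matrix (Fin 4) (Fin 4) (ZMod 7)) = toMat c := by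
  rw [SubmonoidClass.coe_pow, Units.val_pow_eq_pow_val, evalWord_coe, ← toMat_pow, h]

/-- `-1` as an element of `H`. -/
def z : H := evalWord word4 ^ 2

lemma z_coe : ((z : GL4) : Matrix (Fin 4) (Fin 4) (ZMod 7)) = -1 :=
  (code_eq_iff_pow (by decide +kernel)).trans toMat_negOne

lemma eq_one_iff {g : H} : g = 1 ↔ ((g : GL4) : Matrix (Fin 4) (Fin 4) (ZMod 7)) = 1 :=
  ⟨fun h => by rw [h]; rfl, fun h => Subtype.ext (Units.ext h)⟩

lemma eq_z_iff {g : H} : g = z ↔ ((g : GL4) : Matrix (Fin 4) (Fin 4) (ZMod 7)) = -1 :=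
  ⟨fun h => by rw [h]; exact z_coe, fun h => Subtype.ext (Units.ext (h.trans z_coe.symm))⟩

lemma z_mul_z : z * z = 1 := by
  rw [eq_one_iff, Subgroup.coe_mul, Units.val_mul, z_coe, neg_mul_neg, one_mul]

lemma z_ne_one : z ≠ 1 := fun h => by
  have := z_coe
  rw [eq_one_iff.mp h] at this
  exact absurd this (by decide +kernel)

lemma commute_z (g : H) : z * g = g * z := by
  apply Subtype.ext; apply Units.ext
  rw [Subgroup.coe_mul, Units.val_mul, Subgroup.coe_mul, Units.val_mul, z_coe]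
  simp

lemma shape (g : H) : g = 1 ∨
    (g ^ 3 = 1 ∧ (1 + ((g : GL4) : Matrix (Fin 4) (Fin 4) (ZMod 7)) + ((g : GL4) : Matrix (Fin 4) (Fin 4) (ZMod 7)) ^ 2) = 0) ∨
    (g ^ 5 = 1 ∧ (1 + ((g : GL4) : Matrix (Fin 4) (Fin 4) (ZMod 7)) + ((g : GL4) : Matrix (Fin 4) (Fin 4) (ZMod 7)) ^ 2 +
      ((g : GL4) : Matrix (Fin 4) (Fin 4) (ZMod 7)) ^ 3 + ((g : GL4) : Matrix (Fin 4) (Fin 4) (ZMod 7)) ^ 4) = 0) ∨
    ∃ k ∈ [1, 2, 3, 4, 5, 6], g ^ k = z := by
  obtain ⟨m, hm, e⟩ := mem_H g.2
  have h := List.all_eq_true.mp elems_good m hm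
  simp only [goodShape, Bool.or_eq_true, decide_eq_true_eq, List.any_eq_true] at h
  have hpow : ∀ n, ((((g ^ n : H)) : GL4) : Matrix (Fin 4) (Fin 4) (ZMod 7)) =
      ((g : GL4) : Matrix (Fin 4) (Fin 4) (ZMod 7)) ^ n := fun n => by
    rw [SubmonoidClass.coe_pow, Units.val_pow_eq_pow_val]
  rcases h with ((h | h) | h) | ⟨k, hk, h⟩
  · exact Or.inl (eq_one_iff.mpr (by rw [← e, h, toMat_one]))
  · have h' := congrArg toMat h
    rw [toMat_add, toMat_add, toMat_mul, toMat_one, toMat_zero, e, ← pow_two] at h'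
    refine Or.inr (Or.inl ⟨eq_one_iff.mpr ?_, h'⟩)
    set M := ((g : GL4) : Matrix (Fin 4) (Fin 4) (ZMod 7))
    have h3 : (M - 1) * (1 + M + M ^ 2) = M ^ 3 - 1 := by noncomm_ring
    rw [h', mul_zero] at h3
    rw [hpow]; exact sub_eq_zero.mp h3.symm
  · have h' := congrArg toMat h
    simp only [toMat_add, toMat_pow, toMat_one, toMat_zero, e] at h'
    refine Or.inr (Or.inr (Or.inl ⟨eq_one_iff.mpr ?_, h'⟩))
    set M := ((g : GL4) : Matrix (Fin 4) (Fin 4) (ZMod 7))
    have h5 : (M - 1) * (1 + M + M ^ 2 + M ^ 3 + M ^ 4) = M ^ 5 - 1 := by noncomm_ring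
    rw [h', mul_zero] at h5
    rw [hpow]; exact sub_eq_zero.mp h5.symm
  · refine Or.inr (Or.inr (Or.inr ⟨k, hk, eq_z_iff.mpr ?_⟩))
    rw [hpow, ← e, ← toMat_pow, h, toMat_negOne]

/-- The faithful part of the regular module over `ZMod 3`. -/
def U : AddSubgroup (H → ZMod 3) where
  carrier := {f | ∀ h, f (z * h) = -f h}
  zero_mem' := fun h => by simp
  add_mem' := fun {f g} hf hg h => by simp [hf h, hg h]; abel
  neg_mem' := fun {f} hf h => by simp [hf h]

/-- The module. -/
abbrev Mod (k : ℕ) := (Fin k → Fin 4 → ZMod 7) × U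

/-- The action on the module. -/
def actFun (k : ℕ) (g : H) (a : Mod k) : Mod k :=
  (fun i => ((g : GL4) : Matrix (Fin 4) (Fin 4) (ZMod 7)).mulVec (a.1 i),
    ⟨fun h => (a.2 : H → ZMod 3) (g⁻¹ * h), fun h => by
      show (a.2 : H → ZMod 3) (g⁻¹ * (z * h)) = -_
      rw [← mul_assoc, ← commute_z, mul_assoc]; exact a.2.2 _⟩)

lemma actFun_mul (k : ℕ) (g g' : H) (a : Mod k) : actFun k (g * g') a = actFun k g (actFun k g' a) := by
  refine Prod.ext (funext fun i => ?_) (Subtype.ext (funext fun h => ?_))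
  · show ((((g * g' : H)) : GL4) : Matrix (Fin 4) (Fin 4) (ZMod 7)).mulVec (a.1 i) = _
    rw [Subgroup.coe_mul, Units.val_mul, ← Matrix.mulVec_mulVec]; rfl
  · show (a.2 : H → ZMod 3) ((g * g')⁻¹ * h) = (a.2 : H → ZMod 3) (g'⁻¹ * (g⁻¹ * h))
    rw [_root_.mul_inv_rev, mul_assoc]

lemma actFun_one (k : ℕ) (a : Mod k) : actFun k 1 a = a := by
  refine Prod.ext (funext fun i => ?_) (Subtype.ext (funext fun h => ?_))
  · show (1 : Matrix (Fin 4) (Fin 4) (ZMod 7)).mulVec (a.1 i) = _
    simp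
  · show (a.2 : H → ZMod 3) (1⁻¹ * h) = _
    simp

lemma actFun_add (k : ℕ) (g : H) (a b : Mod k) : actFun k g (a + b) = actFun k g a + actFun k g b :=
  Prod.ext (funext fun i => by simp [actFun, Matrix.mulVec_add]) (Subtype.ext (funext fun h => rfl))

/-- The action as automorphisms. -/
def act (k : ℕ) : H →* MulAut (Multiplicative (Mod k)) where
  toFun g :=
    { toFun := fun a => Multiplicative.ofAdd (actFun k g a.toAdd)
      invFun := fun a => Multiplicative.ofAdd (actFun k g⁻¹ a.toAdd)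
      left_inv := fun a => by simp [← actFun_mul, actFun_one]
      right_inv := fun a => by simp [← actFun_mul, actFun_one]
      map_mul' := fun a b => congrArg Multiplicative.ofAdd (actFun_add k g a.toAdd b.toAdd) }
  map_one' := MulEquiv.ext fun a => congrArg Multiplicative.ofAdd (actFun_one k a.toAdd)
  map_mul' g g' := MulEquiv.ext fun a => congrArg Multiplicative.ofAdd (actFun_mul k g g' a.toAdd)

/-- The group `(V^k × U) ⋊ H`. -/
abbrev Grp (k : ℕ) := SemidirectProduct (Multiplicative (Mod k)) H (act k)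

instance (k : ℕ) : Finite (Grp k) :=
  Finite.of_injective (fun p => (p.left, p.right)) fun p q e =>
    SemidirectProduct.ext (congrArg Prod.fst e) (congrArg Prod.snd e)

variable {k : ℕ}

/-- The partial norm. -/
def norm (g : H) (a : Mod k) (n : ℕ) : Mod k := ∑ i ∈ Finset.range n, actFun k (g ^ i) a

lemma pow_eq (a : Mod k) (g : H) : ∀ n : ℕ,
    (⟨Multiplicative.ofAdd a, g⟩ : Grp k) ^ n = ⟨Multiplicative.ofAdd (norm g a n), g ^ n⟩
  | 0 => by simp [norm]
  | n + 1 => by
    rw [pow_succ, pow_eq a g n]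
    refine SemidirectProduct.ext ?_ ?_
    · rw [SemidirectProduct.mul_left]
      show Multiplicative.ofAdd (norm g a n + actFun k (g ^ n) a) = Multiplicative.ofAdd (norm g a (n + 1))
      simp [norm, Finset.sum_range_succ]
    · exact (pow_succ g n).symm

lemma actFun_z (a : Mod k) : actFun k z a = -a := by
  refine Prod.ext (funext fun i => ?_) (Subtype.ext (funext fun h => ?_))
  · show ((z : GL4) : Matrix (Fin 4) (Fin 4) (ZMod 7)).mulVec (a.1 i) = _
    rw [z_coe, Matrix.neg_mulVec, Matrix.one_mulVec]; rfl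
  · show (a.2 : H → ZMod 3) (z⁻¹ * h) = _
    rw [inv_eq_of_mul_eq_one_right z_mul_z]; exact a.2.2 h

lemma actFun_sum (g : H) {ι : Type} (s : Finset ι) (f : ι → Mod k) :
    actFun k g (∑ i ∈ s, f i) = ∑ i ∈ s, actFun k g (f i) :=
  map_sum (AddMonoidHom.mk' (actFun k g) (actFun_add k g)) f s

lemma norm_half {g : H} {m : ℕ} (hm : g ^ m = z) (a : Mod k) : norm g a (m + m) = 0 := by
  rw [norm, Finset.sum_range_add]
  have : ∀ i, actFun k (g ^ (m + i)) a = actFun k z (actFun k (g ^ i) a) := fun i => by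
    rw [pow_add, hm, actFun_mul]
  rw [Finset.sum_congr rfl (fun i _ => this i), ← actFun_sum, actFun_z, add_neg_cancel]

lemma norm_fst (g : H) (a : Mod k) (n : ℕ) (i : Fin k) :
    (norm g a n).1 i =
      (∑ j ∈ Finset.range n, ((g : GL4) : Matrix (Fin 4) (Fin 4) (ZMod 7)) ^ j).mulVec (a.1 i) := by
  rw [norm, Prod.fst_sum, Finset.sum_apply, Matrix.sum_mulVec]
  refine Finset.sum_congr rfl (fun j _ => ?_)
  show ((((g ^ j : H)) : GL4) : Matrix (Fin 4) (Fin 4) (ZMod 7)).mulVec _ = _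
  rw [SubmonoidClass.coe_pow, Units.val_pow_eq_pow_val]

lemma norm_mul {g : H} {n : ℕ} (hg : g ^ n = 1) (a : Mod k) : ∀ m : ℕ,
    norm g a (n * m) = m • norm g a n
  | 0 => by simp [norm]
  | m + 1 => by
    rw [Nat.mul_succ, norm, Finset.sum_range_add, ← norm, norm_mul hg a m, succ_nsmul]
    congr 1
    refine Finset.sum_congr rfl (fun i _ => ?_)
    rw [pow_add, pow_mul, hg, one_pow, one_mul]

lemma nsmul_twentyone (a : Mod k) : 21 • a = 0 := by
  refine Prod.ext (funext fun i => funext fun j => ?_) (Subtype.ext (funext fun h => ?_))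
  · show 21 • a.1 i j = 0
    rw [nsmul_eq_mul]; exact mul_eq_zero_of_left (by decide) _
  · show 21 • (a.2 : H → ZMod 3) h = 0
    rw [nsmul_eq_mul]; exact mul_eq_zero_of_left (by decide) _

lemma three_nsmul_eq_zero {a : Mod k} (h : a.1 = 0) : 3 • a = 0 := by
  refine Prod.ext ?_ (Subtype.ext (funext fun h => ?_))
  · show 3 • a.1 = 0
    rw [h, smul_zero]
  · show 3 • (a.2 : H → ZMod 3) h = 0
    rw [nsmul_eq_mul]; exact mul_eq_zero_of_left (by decide) _

/-- The target set. -/
def spec10 : Set ℕ := {1, 2, 3, 4, 5, 6, 7, 8, 9, 10, 12, 15, 21}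

lemma mem_spec10_of_dvd {d n : ℕ} (hn : n ∈ [2, 4, 6, 8, 9, 10, 12, 15, 21]) (hd : d ∣ n) : d ∈ spec10 := by
  have h : d ∈ n.divisors := Nat.mem_divisors.mpr ⟨hd, fun e => by simp [e] at hn⟩
  have key : ∀ m ∈ [2, 4, 6, 8, 9, 10, 12, 15, 21], ∀ x ∈ Nat.divisors m,
      x ∈ [1, 2, 3, 4, 5, 6, 7, 8, 9, 10, 12, 15, 21] := by decide +kernel
  have := key n hn d h
  simp only [List.mem_cons, List.not_mem_nil, or_false] at this
  simpa only [spec10, Set.mem_insert_iff, Set.mem_singleton_iff] using this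

lemma orderOf_mem (p : Grp k) : orderOf p ∈ spec10 := by
  obtain ⟨a, g⟩ := p
  obtain ⟨a, rfl⟩ := Multiplicative.ofAdd.surjective a
  have key : ∀ n : ℕ, g ^ n = 1 → norm g a n = 0 → (⟨Multiplicative.ofAdd a, g⟩ : Grp k) ^ n = 1 :=
    fun n h1 h2 => by rw [pow_eq, h1, h2]; rfl
  rcases shape g with rfl | ⟨h3, hV⟩ | ⟨h5, hV⟩ | ⟨m, hm, hz⟩
  · refine mem_spec10_of_dvd (n := 21) (by simp) (orderOf_dvd_of_pow_eq_one (key 21 (one_pow _) ?_))
    simp [norm, actFun_one, nsmul_twentyone]
  · refine mem_spec10_of_dvd (n := 9) (by simp) (orderOf_dvd_of_pow_eq_one (key 9 ?_ ?_))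
    · rw [show 9 = 3 * 3 from rfl, pow_mul, h3, one_pow]
    · rw [show 9 = 3 * 3 from rfl, norm_mul h3]
      refine three_nsmul_eq_zero (funext fun i => ?_)
      rw [norm_fst]
      simp [Finset.sum_range_succ, hV]
  · refine mem_spec10_of_dvd (n := 15) (by simp) (orderOf_dvd_of_pow_eq_one (key 15 ?_ ?_))
    · rw [show 15 = 5 * 3 from rfl, pow_mul, h5, one_pow]
    · rw [show 15 = 5 * 3 from rfl, norm_mul h5]
      refine three_nsmul_eq_zero (funext fun i => ?_)
      rw [norm_fst]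
      simp [Finset.sum_range_succ, hV]
  · refine mem_spec10_of_dvd (n := m + m) ?_ (orderOf_dvd_of_pow_eq_one (key _ ?_ (norm_half hz a)))
    · simp only [List.mem_cons, List.not_mem_nil, or_false] at hm
      rcases hm with rfl | rfl | rfl | rfl | rfl | rfl <;> simp
    · rw [pow_add, hz, z_mul_z]

lemma orderOf_evalWord {w : List Bool} {n : ℕ} (hn : 0 < n) (h1 : (evalCode w).pow n = one)
    (h2 : ∀ m ∈ List.range n, m = 0 ∨ toMat ((evalCode w).pow m) ≠ 1) : orderOf (evalWord w) = n := by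
  rw [orderOf_eq_iff hn]
  refine ⟨eq_one_iff.mpr ((code_eq_iff_pow h1).trans toMat_one), fun m hm hm0 e => ?_⟩
  rcases h2 m (List.mem_range.mpr hm) with h | h
  · omega
  apply h
  have := eq_one_iff.mp e
  rw [code_eq_iff_pow rfl] at this
  exact this

lemma delta_mem (h : H) : (if h = 1 then (1 : ZMod 3) else if h = z then -1 else 0) =
    -(if z * h = 1 then (1 : ZMod 3) else if z * h = z then -1 else 0) := by
  classical
  have e1 : z * h = 1 ↔ h = z := ⟨fun e => by rw [← one_mul h, ← z_mul_z, mul_assoc, e, mul_one],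
    fun e => by rw [e, z_mul_z]⟩
  have e2 : z * h = z ↔ h = 1 := mul_eq_left
  simp only [e1, e2]
  by_cases h1 : h = 1
  · simp [h1, Ne.symm z_ne_one]
  · by_cases h2 : h = z <;> simp [h1, h2, z_ne_one]

open Classical in
/-- An element of `U` supported on the centre. -/
noncomputable def delta : U :=
  ⟨fun h => if h = 1 then 1 else if h = z then -1 else 0, fun h => by
    dsimp only
    rw [delta_mem h, neg_neg]⟩

lemma norm_delta_ne {g : H} {n : ℕ} (hg : orderOf g = n) (hn : Odd n) :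
    norm g ((0, delta) : Mod k) n ≠ 0 := by
  classical
  intro e
  have h1 := congrArg (fun x : Mod k => (x.2 : H → ZMod 3) 1) e
  simp only [norm, Prod.snd_sum, Prod.snd_zero, ZeroMemClass.coe_zero, Pi.zero_apply,
    AddSubgroup.val_finsetSum, Finset.sum_apply] at h1
  have hz : ∀ i, (g ^ i)⁻¹ ≠ z := by
    intro i e
    have h2 : z ^ n = 1 := by
      rw [← e, inv_pow, ← pow_mul, mul_comm, pow_mul, ← hg, pow_orderOf_eq_one, one_pow, inv_one]
    obtain ⟨m, rfl⟩ := hn
    rw [pow_succ, pow_mul, sq, z_mul_z, one_pow, one_mul] at h2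
    exact z_ne_one h2
  rw [Finset.sum_eq_single 0] at h1
  · simp [actFun, delta] at h1
  · intro i hi hi0
    have : (g ^ i)⁻¹ ≠ 1 := fun e => by
      rw [inv_eq_one] at e
      have := Nat.le_of_dvd (by omega) (orderOf_dvd_of_pow_eq_one e)
      rw [hg] at this
      exact absurd (Finset.mem_range.mp hi) (by omega)
    simp [actFun, delta, this, hz i]
  · intro h
    exact absurd (Finset.mem_range.mpr hn.pos) h

lemma realises {d : ℕ} (hd : d ∈ spec10) : ∃ p : Grp (k + 1), orderOf p = d := by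
  have hr : ∀ g : H, orderOf (SemidirectProduct.inr g : Grp (k + 1)) = orderOf g := fun g =>
    orderOf_injective _ SemidirectProduct.inr_injective g
  have hl : ∀ a : Mod (k + 1), orderOf (SemidirectProduct.inl (Multiplicative.ofAdd a) : Grp (k + 1)) =
      addOrderOf a := fun a => by
    rw [orderOf_injective _ SemidirectProduct.inl_injective, orderOf_ofAdd_eq_addOrderOf]
  let v : Fin (k + 1) → Fin 4 → ZMod 7 := fun _ _ => 1
  have : Fact (Nat.Prime 3) := ⟨Nat.prime_three⟩
  have : Fact (Nat.Prime 7) := ⟨by norm_num⟩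
  have hv : addOrderOf v = 7 := by
    refine addOrderOf_eq_prime ?_ (fun e => ?_)
    · funext i j
      show (7 : ℕ) • (1 : ZMod 7) = 0
      rw [nsmul_eq_mul, mul_one]; exact ZMod.natCast_self 7
    · exact one_ne_zero (congrFun (congrFun e 0) 0)
  have hdel : addOrderOf delta = 3 := by
    refine addOrderOf_eq_prime ?_ (fun e => ?_)
    · apply Subtype.ext; funext h
      show 3 • (delta : H → ZMod 3) h = 0
      rw [nsmul_eq_mul]; exact mul_eq_zero_of_left (ZMod.natCast_self 3) _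
    · have := congrArg (fun f : U => (f : H → ZMod 3) 1) e
      simp [delta] at this
  simp only [spec10, Set.mem_insert_iff, Set.mem_singleton_iff] at hd
  rcases hd with rfl | rfl | rfl | rfl | rfl | rfl | rfl | rfl | rfl | rfl | rfl | rfl | rfl
  · exact ⟨1, orderOf_one⟩
  · exact ⟨.inr z, by rw [hr]; exact orderOf_eq_prime (by rw [sq, z_mul_z]) z_ne_one⟩
  · exact ⟨.inr (evalWord word3), by rw [hr]; exact orderOf_evalWord (by norm_num) (by decide +kernel) (by decide +kernel)⟩
  · exact ⟨.inr (evalWord word4), by rw [hr]; exact orderOf_evalWord (by norm_num) (by decide +kernel) (by decide +kernel)⟩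
  · exact ⟨.inr (evalWord word5), by rw [hr]; exact orderOf_evalWord (by norm_num) (by decide +kernel) (by decide +kernel)⟩
  · exact ⟨.inr (evalWord word6), by rw [hr]; exact orderOf_evalWord (by norm_num) (by decide +kernel) (by decide +kernel)⟩
  · exact ⟨.inl (Multiplicative.ofAdd (v, 0)), by rw [hl, Prod.addOrderOf, hv, addOrderOf_zero]; rfl⟩
  · exact ⟨.inr (evalWord word8), by rw [hr]; exact orderOf_evalWord (by norm_num) (by decide +kernel) (by decide +kernel)⟩
  · have hg : orderOf (evalWord word3) = 3 :=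
      orderOf_evalWord (by norm_num) (by decide +kernel) (by decide +kernel)
    have h3 : evalWord word3 ^ 3 = 1 := by rw [← hg]; exact pow_orderOf_eq_one _
    refine ⟨⟨Multiplicative.ofAdd ((0, delta) : Mod (k + 1)), evalWord word3⟩, ?_⟩
    refine orderOf_eq_prime_pow (p := 3) (n := 1) ?_ ?_
    · rw [pow_one, pow_eq]
      intro e
      exact norm_delta_ne hg (by decide) (congrArg (fun p : Grp (k + 1) => p.left.toAdd) e)
    · rw [show 3 ^ (1 + 1) = 3 * 3 from rfl, pow_eq, pow_mul, h3, one_pow, norm_mul h3, three_nsmul_eq_zero]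
      · rfl
      · funext i; rw [norm_fst]; simp
  · exact ⟨.inr (evalWord word10), by rw [hr]; exact orderOf_evalWord (by norm_num) (by decide +kernel) (by decide +kernel)⟩
  · exact ⟨.inr (evalWord word12), by rw [hr]; exact orderOf_evalWord (by norm_num) (by decide +kernel) (by decide +kernel)⟩
  · have hg : orderOf (evalWord word5) = 5 :=
      orderOf_evalWord (by norm_num) (by decide +kernel) (by decide +kernel)
    have h5 : evalWord word5 ^ 5 = 1 := by rw [← hg]; exact pow_orderOf_eq_one _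
    set p : Grp (k + 1) := ⟨Multiplicative.ofAdd ((0, delta) : Mod (k + 1)), evalWord word5⟩ with hp
    refine ⟨p, ?_⟩
    have h15 : p ^ 15 = 1 := by
      rw [hp, show 15 = 5 * 3 from rfl, pow_eq, pow_mul, h5, one_pow, norm_mul h5, three_nsmul_eq_zero]
      · rfl
      · funext i; rw [norm_fst]; simp
    have hd := Nat.mem_divisors.mpr ⟨orderOf_dvd_of_pow_eq_one h15, by norm_num⟩
    have h5' : ¬ orderOf p ∣ 5 := fun h => by
      rw [orderOf_dvd_iff_pow_eq_one, hp, pow_eq] at h
      exact norm_delta_ne hg (by decide) (congrArg (fun q : Grp (k + 1) => q.left.toAdd) h)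
    have h3' : ¬ orderOf p ∣ 3 := fun h => by
      rw [orderOf_dvd_iff_pow_eq_one, hp, pow_eq] at h
      have h' : evalWord word5 ^ 3 = 1 := congrArg (fun q : Grp (k + 1) => q.right) h
      have h'' := orderOf_dvd_of_pow_eq_one h'
      rw [hg] at h''
      omega
    have hcases : ∀ x ∈ Nat.divisors 15, x = 15 ∨ x ∣ 5 ∨ x ∣ 3 := by decide +kernel
    rcases hcases _ hd with h | h | h
    exacts [h, absurd h h5', absurd h h3']
  · exact ⟨.inl (Multiplicative.ofAdd (v, delta)), by rw [hl, Prod.addOrderOf, hv, hdel]; rfl⟩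

lemma range_orderOf_Grp (k : ℕ) : Set.range (orderOf : Grp (k + 1) → ℕ) = spec10 :=
  Set.ext fun _ => ⟨fun ⟨p, e⟩ => e ▸ orderOf_mem p, realises⟩

lemma lt_card (k : ℕ) : k < Nat.card (Grp (k + 1)) := by
  have h := Nat.card_le_card_of_injective
    (fun v : Fin (k + 1) → Fin 4 → ZMod 7 =>
      (SemidirectProduct.inl (Multiplicative.ofAdd ((v, 0) : Mod (k + 1))) : Grp (k + 1)))
    (fun v w e => congrArg Prod.fst (Multiplicative.ofAdd.injective (SemidirectProduct.inl_injective e)))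
  simp only [Nat.card_fun, Nat.card_eq_fintype_card (α := Fin _), Fintype.card_fin, Nat.card_zmod] at h
  calc k < (7 ^ 4) ^ k := Nat.lt_pow_self (by norm_num)
    _ ≤ (7 ^ 4) ^ (k + 1) := Nat.pow_le_pow_right (by norm_num) (Nat.le_succ k)
    _ ≤ _ := h

end Cfsg.Agent.RecogB.TwoSFive
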