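import Mathlib

/-! Affine helpers. -/

set_option autoImplicit false

namespace Cfsg.Agent.RecogB

lemma exists_equiv_of_li {K V ι : Type*} [Field K] [AddCommGroup V] [Module K V] [Finite ι]
    {v w : ι → V} (hv : LinearIndependent K v) (hw : LinearIndependent K w) :
    ∃ g : V ≃ₗ[K] V, ∀ i, g (v i) = w i := by
  have : FiniteDimensional K (Submodule.span K (Set.range v)) :=
    Module.Finite.of_basis (Module.Basis.span hv)
  obtain ⟨g, hg⟩ := Submodule.exists_linearEquiv_restrict_eq
    ((Module.Basis.span hv).equiv (Module.Basis.span hw) (Equiv.refl ι))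
  refine ⟨g, fun i => ?_⟩
  have h := hg (Module.Basis.span hv i)
  rw [Module.Basis.equiv_apply, Equiv.refl_apply] at h
  rw [Module.Basis.span_apply, Module.Basis.span_apply] at h
  exact h.symm

end Cfsg.Agent.RecogB
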