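import Mathlib

/-! Permutations agreeing with affine maps on every triple of points. -/

set_option autoImplicit false

namespace Cfsg.Agent.RecogB

variable {p : ℕ} [Fact p.Prime] {V : Type*} [AddCommGroup V] [Module (ZMod p) V]

/-- A permutation preserving the affine ratios on lines is affine in odd characteristic. -/
theorem affine_of_triples (hp : p ≠ 2) (σ : Equiv.Perm V)
    (h : ∀ x y z : V, ∃ (A : V ≃ₗ[ZMod p] V) (b : V), σ x = A x + b ∧ σ y = A y + b ∧ σ z = A z + b) :
    ∃ (A : V ≃ₗ[ZMod p] V) (b : V), ∀ x, σ x = A x + b := by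
  have hrat : ∀ (x y : V) (t : ZMod p), σ (x + t • (y - x)) = σ x + t • (σ y - σ x) := by
    intro x y t
    obtain ⟨A, b, h1, h2, h3⟩ := h x y (x + t • (y - x))
    rw [h1, h2, h3, map_add, map_smul, map_sub, add_sub_add_right_eq_sub, smul_sub]
    abel
  have h2 : (2 : ZMod p) ≠ 0 := by
    intro e
    have : ((2 : ℕ) : ZMod p) = 0 := by exact_mod_cast e
    rw [ZMod.natCast_eq_zero_iff] at this
    exact hp ((Nat.prime_dvd_prime_iff_eq Fact.out Nat.prime_two).mp this)
  have hsmul : ∀ (t : ZMod p) (v : V), σ (t • v) - σ 0 = t • (σ v - σ 0) := by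
    intro t v
    have := hrat 0 v t
    rw [sub_zero, zero_add] at this
    rw [this, add_sub_cancel_left]
  have hadd : ∀ u v : V, σ (u + v) - σ 0 = (σ u - σ 0) + (σ v - σ 0) := by
    intro u v
    have h4 : σ (u + v) - σ 0 = (σ ((2 : ZMod p) • u) - σ 0) +
        (2⁻¹ : ZMod p) • ((σ ((2 : ZMod p) • v) - σ 0) - (σ ((2 : ZMod p) • u) - σ 0)) := by
      have := hrat ((2 : ZMod p) • u) ((2 : ZMod p) • v) 2⁻¹
      rw [← smul_sub, smul_smul, inv_mul_cancel₀ h2, one_smul,
        show (2 : ZMod p) • u + (v - u) = u + v from by rw [two_smul]; abel] at this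
      rw [this, sub_sub_sub_cancel_right]
      abel
    rw [h4, hsmul, hsmul, ← smul_sub (2 : ZMod p), smul_smul, inv_mul_cancel₀ h2, one_smul, two_smul]
    abel
  let L : V →ₗ[ZMod p] V :=
    { toFun := fun v => σ v - σ 0
      map_add' := hadd
      map_smul' := hsmul }
  refine ⟨LinearEquiv.ofBijective L ⟨fun a b e => σ.injective (sub_left_injective e),
    fun w => ⟨σ.symm (w + σ 0), by simp [L]⟩⟩, σ 0, fun x => ?_⟩
  show σ x = (σ x - σ 0) + σ 0
  abel

/-- A linear automorphism agrees on two given vectors of a space of dimension at least three with one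
of determinant one. -/
theorem exists_det_one_agree {d : ℕ} (hd : 3 ≤ d) (A : (Fin d → ZMod p) ≃ₗ[ZMod p] (Fin d → ZMod p))
    (u v : Fin d → ZMod p) :
    ∃ B : (Fin d → ZMod p) ≃ₗ[ZMod p] (Fin d → ZMod p),
      LinearMap.det (B : (Fin d → ZMod p) →ₗ[ZMod p] (Fin d → ZMod p)) = 1 ∧ B u = A u ∧ B v = A v := by
  classical
  let S : Submodule (ZMod p) (Fin d → ZMod p) := Submodule.span (ZMod p) ({u, v} : Finset (Fin d → ZMod p))
  have hS : S < ⊤ := by
    refine lt_top_iff_ne_top.mpr fun e => ?_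
    have h1 : Module.finrank (ZMod p) S ≤ 2 := (finrank_span_finset_le_card _).trans Finset.card_le_two
    rw [e, finrank_top, Module.finrank_fin_fun] at h1
    omega
  obtain ⟨f, hf0, hf⟩ := Submodule.exists_le_ker_of_lt_top S hS
  obtain ⟨w, hw⟩ : ∃ w, f w = 1 := by
    obtain ⟨x, hx⟩ : ∃ x, f x ≠ 0 := by
      by_contra hc
      push Not at hc
      exact hf0 (LinearMap.ext hc)
    exact ⟨(f x)⁻¹ • x, by rw [map_smul, smul_eq_mul, inv_mul_cancel₀ hx]⟩
  set c := (LinearMap.det (A : (Fin d → ZMod p) →ₗ[ZMod p] (Fin d → ZMod p)))⁻¹ with hc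
  let D : (Fin d → ZMod p) →ₗ[ZMod p] (Fin d → ZMod p) := LinearMap.id + (c - 1) • f.smulRight w
  have hD : LinearMap.det D = c := by
    rw [← LinearMap.det_toMatrix', show LinearMap.toMatrix' D =
      1 + Matrix.replicateCol (Fin 1) ((c - 1) • w) * Matrix.replicateRow (Fin 1) (fun j => f (Pi.single j 1)) from ?_]
    · have : (fun j => f (Pi.single j 1)) ⬝ᵥ ((c - 1) • w) = c - 1 := by
        rw [dotProduct_smul, smul_eq_mul]
        have hfw : (fun j => f (Pi.single j 1)) ⬝ᵥ w = f w := by
          conv_rhs => rw [pi_eq_sum_univ' w, map_sum]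
          refine Finset.sum_congr rfl fun j _ => ?_
          rw [map_smul, smul_eq_mul, mul_comm]
        rw [hfw, hw, mul_one]
      refine (Matrix.det_one_add_replicateCol_mul_replicateRow _ _).trans ?_
      refine (congrArg (1 + ·) this).trans ?_
      ring
    · ext i j
      simp [D, LinearMap.toMatrix'_apply, Matrix.mul_apply, Matrix.one_apply, Pi.single_apply]
      left; ring
  have hdet : LinearMap.det ((A : (Fin d → ZMod p) →ₗ[ZMod p] (Fin d → ZMod p)).comp D) = 1 := by
    rw [LinearMap.det_comp, hD, hc, mul_inv_cancel₀]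
    exact (A.isUnit_det').ne_zero
  refine ⟨LinearMap.equivOfDetNeZero _ (by rw [hdet]; exact one_ne_zero), ?_, ?_, ?_⟩
  · refine (congrArg LinearMap.det ?_).trans hdet
    exact LinearMap.ext fun x => rfl
  all_goals
    show A (D _) = A _
    refine congrArg A ?_
    simp only [D, LinearMap.add_apply, LinearMap.id_apply, LinearMap.smul_apply, LinearMap.smulRight_apply]
    rw [show f _ = 0 from hf (Submodule.subset_span (by simp)), zero_smul, smul_zero, add_zero]

end Cfsg.Agent.RecogB
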