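import Mathlib

/-! The affine group `2^4:SL(2,4)` has element orders 1, 2, 3, 4, 5. -/

set_option autoImplicit false

namespace Cfsg.Agent.RecogB

open Matrix Polynomial

variable {F : Type*} [Field F] [Fintype F]

/-- The affine group `F² ⋊ SL₂(F)` inside `SL₃(F)`. -/
def affSL2 (F : Type*) [Field F] : Subgroup (Matrix.SpecialLinearGroup (Fin 3) F) :=
  Subgroup.closure {M : Matrix.SpecialLinearGroup (Fin 3) F |
    (M : Matrix (Fin 3) (Fin 3) F) 2 0 = 0 ∧ (M : Matrix (Fin 3) (Fin 3) F) 2 1 = 0 ∧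
      (M : Matrix (Fin 3) (Fin 3) F) 2 2 = 1}

omit [Fintype F] in
lemma mem_affSL2 {M : Matrix.SpecialLinearGroup (Fin 3) F} :
    M ∈ affSL2 F ↔ (M : Matrix (Fin 3) (Fin 3) F) 2 0 = 0 ∧
      (M : Matrix (Fin 3) (Fin 3) F) 2 1 = 0 ∧ (M : Matrix (Fin 3) (Fin 3) F) 2 2 = 1 := by
  refine ⟨fun h => ?_, fun h => Subgroup.subset_closure h⟩
  induction h using Subgroup.closure_induction with
  | mem x hx => exact hx
  | one => simp
  | mul x y _ _ hx hy =>
    simp [Matrix.SpecialLinearGroup.coe_mul, Matrix.mul_apply, Fin.sum_univ_three, hx.1, hx.2.1, hx.2.2, hy.1, hy.2.1, hy.2.2]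
  | inv x _ hx =>
    have h1 : ((x * x⁻¹ : Matrix.SpecialLinearGroup (Fin 3) F) : Matrix (Fin 3) (Fin 3) F) = 1 := by simp
    have e : ∀ j, ((x * x⁻¹ : Matrix.SpecialLinearGroup (Fin 3) F) : Matrix (Fin 3) (Fin 3) F) 2 j =
        ((x⁻¹ : Matrix.SpecialLinearGroup (Fin 3) F) : Matrix (Fin 3) (Fin 3) F) 2 j := fun j => by
      rw [Matrix.SpecialLinearGroup.coe_mul]
      simp [Matrix.mul_apply, Fin.sum_univ_three, hx.1, hx.2.1, hx.2.2]
    refine ⟨?_, ?_, ?_⟩ <;> rw [← e, h1] <;> simp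

/-- The trace of the linear part. -/
def trSL2 (M : Matrix.SpecialLinearGroup (Fin 3) F) : F :=
  (M : Matrix (Fin 3) (Fin 3) F) 0 0 + (M : Matrix (Fin 3) (Fin 3) F) 1 1

omit [Fintype F] in
lemma affSL2_annihilate {M : Matrix.SpecialLinearGroup (Fin 3) F} (hM : M ∈ affSL2 F) :
    aeval (M : Matrix (Fin 3) (Fin 3) F) ((X ^ 2 - C (trSL2 M) * X + 1) * (X - 1)) = 0 := by
  obtain ⟨h0, h1, h2⟩ := mem_affSL2.mp hM
  have hd := M.2
  rw [Matrix.det_fin_three, h0, h1, h2] at hd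
  simp only [mul_one, mul_zero, sub_zero, add_zero] at hd
  simp only [map_mul, map_sub, map_add, map_pow, aeval_X, aeval_C, map_one, Algebra.algebraMap_eq_smul_one]
  ext i j
  fin_cases i <;> fin_cases j <;>
    simp [Matrix.mul_apply, Fin.sum_univ_three, pow_two, trSL2, h0, h1, h2] <;>
    first
      | ring1
      | linear_combination (-((M : Matrix (Fin 3) (Fin 3) F) 0 0 - 1)) * hd
      | linear_combination (-((M : Matrix (Fin 3) (Fin 3) F) 0 1)) * hd
      | linear_combination (-((M : Matrix (Fin 3) (Fin 3) F) 1 0)) * hd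
      | linear_combination (-((M : Matrix (Fin 3) (Fin 3) F) 1 1 - 1)) * hd
      | linear_combination (-((M : Matrix (Fin 3) (Fin 3) F) 0 2)) * hd
      | linear_combination (-((M : Matrix (Fin 3) (Fin 3) F) 1 2)) * hd

lemma charTwo_of_card_four (hF : Fintype.card F = 4) : CharP F 2 := by
  obtain ⟨p, hp⟩ := CharP.exists F
  obtain ⟨n, hprime, hn⟩ := FiniteField.card F p
  have : Fact p.Prime := ⟨hprime⟩
  rw [hF] at hn
  have h2 : p ∣ 4 := hn ▸ dvd_pow_self p n.ne_zero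
  have h3 : p ∣ 2 := hprime.dvd_of_dvd_pow (show p ∣ 2 ^ 2 from h2)
  exact ((Nat.prime_dvd_prime_iff_eq hprime Nat.prime_two).mp h3) ▸ hp

/-- Exponent attached to the trace. -/
lemma affSL2_pow (hF : Fintype.card F = 4) {M : Matrix.SpecialLinearGroup (Fin 3) F} (hM : M ∈ affSL2 F) :
    (trSL2 M = 0 → M ^ 4 = 1) ∧ (trSL2 M = 1 → M ^ 3 = 1) ∧
      (trSL2 M ≠ 0 → trSL2 M ≠ 1 → M ^ 5 = 1) := by
  have := charTwo_of_card_four hF
  have key : ∀ n : ℕ, ((X ^ 2 - C (trSL2 M) * X + 1) * (X - 1) ∣ X ^ n - 1) → M ^ n = 1 := by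
    rintro n ⟨q, hq⟩
    apply Subtype.ext
    have := congrArg (aeval (M : Matrix (Fin 3) (Fin 3) F)) hq
    rw [map_mul, affSL2_annihilate hM, zero_mul] at this
    simp only [map_sub, map_pow, aeval_X, map_one] at this
    rw [sub_eq_zero] at this
    simpa using this
  have two : (2 : F[X]) = 0 := CharTwo.two_eq_zero
  refine ⟨fun h => key 4 ?_, fun h => key 3 ?_, fun h h' => key 5 ?_⟩
  · rw [h]; exact ⟨X + 1, by simp; ring⟩
  · rw [h]; exact ⟨1, by simp only [map_one]; linear_combination (X ^ 2 - X) * two⟩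
  · set t := trSL2 M
    have ht : t ^ 2 + t + 1 = 0 := by
      have h4 : t ^ 4 = t := hF ▸ FiniteField.pow_card t
      have : t * (t - 1) * (t ^ 2 + t + 1) = 0 := by linear_combination h4
      rcases mul_eq_zero.mp this with h1 | h1
      · rcases mul_eq_zero.mp h1 with h2 | h2
        · exact absurd h2 h
        · exact absurd (sub_eq_zero.mp h2) h'
      · exact h1
    refine ⟨X ^ 2 - C (t + 1) * X + 1, ?_⟩
    have hC : (C t : F[X]) ^ 2 + C t + 1 = 0 := by
      rw [← map_pow, ← map_one C, ← map_add, ← map_add, ht, map_zero]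
    rw [map_add, map_one]
    grind

omit [Fintype F] in
lemma orderOf_mem_of_pow {G : Type*} [Monoid G] {g : G} (h : g ^ 4 = 1 ∨ g ^ 3 = 1 ∨ g ^ 5 = 1) :
    orderOf g ∈ ({1, 2, 3, 4, 5} : Set ℕ) := by
  rcases h with h | h | h <;> have hd := orderOf_dvd_of_pow_eq_one h <;>
    have hle := Nat.le_of_dvd (by norm_num) hd <;> interval_cases orderOf g <;> simp_all

/-- The matrix with linear part `!![a, b; c, d]` and translation part `(u, v)`. -/
def affMat (a b c d u v : F) (h : a * d - b * c = 1) : affSL2 F :=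
  ⟨⟨!![a, b, u; c, d, v; 0, 0, 1], (Matrix.det_fin_three _).trans (by simp; linear_combination h)⟩,
    mem_affSL2.mpr ⟨rfl, rfl, rfl⟩⟩

omit [Fintype F] in
@[simp] lemma affMat_coe (a b c d u v : F) (h : a * d - b * c = 1) :
    ((affMat a b c d u v h : Matrix.SpecialLinearGroup (Fin 3) F) : Matrix (Fin 3) (Fin 3) F) =
      !![a, b, u; c, d, v; 0, 0, 1] := rfl

lemma affSL2_realises (hF : Fintype.card F = 4) :
    ∀ n ∈ ({1, 2, 3, 4, 5} : Set ℕ), ∃ g : affSL2 F, orderOf g = n := by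
  have := charTwo_of_card_four hF
  obtain ⟨w, hw0, hw1⟩ : ∃ w : F, w ≠ 0 ∧ w ≠ 1 := by
    classical
    by_contra hc
    push Not at hc
    have : (Finset.univ : Finset F) ⊆ {0, 1} := fun x _ => by
      by_cases h : x = 0
      · simp [h]
      · simp [hc x h]
    have h2 := Finset.card_le_card this
    rw [Finset.card_univ, hF] at h2
    exact absurd (h2.trans Finset.card_le_two) (by norm_num)
  have htwo : ∀ g : affSL2 F, g ^ 4 = 1 → g ^ 2 ≠ 1 → orderOf g = 4 := fun g h4 h2 =>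
    orderOf_eq_prime_pow (p := 2) (n := 1) (by simpa using h2) (by simpa using h4)
  intro n hn
  simp only [Set.mem_insert_iff, Set.mem_singleton_iff] at hn
  rcases hn with rfl | rfl | rfl | rfl | rfl
  · exact ⟨1, orderOf_one⟩
  · refine ⟨affMat 1 0 0 1 1 0 (by simp), orderOf_eq_prime ?_ ?_⟩
    · apply Subtype.ext; apply Subtype.ext
      rw [SubmonoidClass.coe_pow, Matrix.SpecialLinearGroup.coe_pow, affMat_coe]
      simp [pow_two, ← Matrix.ext_iff, Fin.forall_fin_succ, CharTwo.add_self_eq_zero]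
    · intro h
      have := congrArg (fun g : affSL2 F => ((g : Matrix.SpecialLinearGroup (Fin 3) F) : Matrix (Fin 3) (Fin 3) F) 0 2) h
      simp at this
  · have : Fact (Nat.Prime 3) := ⟨Nat.prime_three⟩
    let g : affSL2 F := affMat 0 1 1 1 0 0 (by simp [CharTwo.neg_eq])
    refine ⟨g, orderOf_eq_prime (Subtype.ext ((affSL2_pow hF g.2).2.1 (by simp [g, trSL2]))) ?_⟩
    intro h
    have := congrArg (fun g : affSL2 F => ((g : Matrix.SpecialLinearGroup (Fin 3) F) : Matrix (Fin 3) (Fin 3) F) 0 1) h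
    simp [g] at this
  · let g : affSL2 F := affMat 1 1 0 1 0 1 (by simp)
    refine ⟨g, htwo g (Subtype.ext ((affSL2_pow hF g.2).1 ?_)) ?_⟩
    · simp [g, trSL2, CharTwo.add_self_eq_zero]
    · intro h
      have := congrArg (fun g : affSL2 F => ((g : Matrix.SpecialLinearGroup (Fin 3) F) : Matrix (Fin 3) (Fin 3) F) 0 2) h
      simp [g, SubmonoidClass.coe_pow, Matrix.SpecialLinearGroup.coe_pow, pow_two, Matrix.mul_apply, Fin.sum_univ_three] at this
  · have : Fact (Nat.Prime 5) := ⟨by norm_num⟩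
    let g : affSL2 F := affMat 0 1 1 w 0 0 (by simp [CharTwo.neg_eq])
    refine ⟨g, orderOf_eq_prime (Subtype.ext ((affSL2_pow hF g.2).2.2 (by simpa [g, trSL2]) (by simpa [g, trSL2]))) ?_⟩
    intro h
    have := congrArg (fun g : affSL2 F => ((g : Matrix.SpecialLinearGroup (Fin 3) F) : Matrix (Fin 3) (Fin 3) F) 0 1) h
    simp [g] at this

lemma range_orderOf_affSL2 (hF : Fintype.card F = 4) :
    Set.range (orderOf : affSL2 F → ℕ) = ({1, 2, 3, 4, 5} : Set ℕ) := by
  ext n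
  refine ⟨?_, affSL2_realises hF n⟩
  rintro ⟨g, rfl⟩
  obtain ⟨h0, h1, h2⟩ := affSL2_pow hF g.2
  refine orderOf_mem_of_pow ?_
  by_cases e0 : trSL2 (g : Matrix.SpecialLinearGroup (Fin 3) F) = 0
  · exact Or.inl (Subtype.ext (h0 e0))
  by_cases e1 : trSL2 (g : Matrix.SpecialLinearGroup (Fin 3) F) = 1
  · exact Or.inr (Or.inl (Subtype.ext (h1 e1)))
  · exact Or.inr (Or.inr (Subtype.ext (h2 e0 e1)))

end Cfsg.Agent.RecogB
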