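import Mathlib

/-! The element orders of an alternating group, from the partitions. -/

set_option autoImplicit false

namespace Cfsg.Agent.RecogB

lemma parts_lcm_filter (s : Multiset ℕ) (h : ∀ x ∈ s, 0 < x) :
    (s.filter (2 ≤ ·)).lcm = s.lcm := by
  apply Nat.dvd_antisymm
  · exact Multiset.lcm_mono (Multiset.subset_of_le (Multiset.filter_le _ s))
  · rw [Multiset.lcm_dvd]
    intro x hx
    by_cases h2 : 2 ≤ x
    · exact Multiset.dvd_lcm (Multiset.mem_filter.mpr ⟨hx, h2⟩)
    · have := h x hx
      have : x = 1 := by omega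
      rw [this]; exact one_dvd _

lemma range_orderOf_alternating (n : ℕ) :
    Set.range (orderOf : alternatingGroup (Fin n) → ℕ) =
      {d | ∃ μ : Nat.Partition n, Even (n + μ.parts.card) ∧ μ.parts.lcm = d} := by
  ext d
  constructor
  · rintro ⟨⟨σ, hσ⟩, rfl⟩
    have hpp := Equiv.Perm.parts_partition (σ := σ)
    have hle : σ.support.card ≤ n := by simpa using Finset.card_le_univ σ.support
    let μ : Nat.Partition n := ⟨σ.cycleType + Multiset.replicate (n - σ.support.card) 1,
      fun {i} hi => by
        rcases Multiset.mem_add.mp hi with h | h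
        · have := Equiv.Perm.two_le_of_mem_cycleType h; omega
        · rw [Multiset.eq_of_mem_replicate h]; exact Nat.one_pos,
      by rw [Multiset.sum_add, Equiv.Perm.sum_cycleType, Multiset.sum_replicate, smul_eq_mul, mul_one]; omega⟩
    refine ⟨μ, ?_, ?_⟩
    · have h := Equiv.Perm.sign_of_cycleType σ
      rw [Equiv.Perm.mem_alternatingGroup] at hσ
      rw [hσ] at h
      have hev : Even (σ.cycleType.sum + Multiset.card σ.cycleType) :=
        (neg_one_pow_eq_one_iff_even (by decide)).mp h.symm
      rw [Equiv.Perm.sum_cycleType] at hev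
      simp only [μ, Multiset.card_add, Multiset.card_replicate]
      rw [show n + (Multiset.card σ.cycleType + (n - σ.support.card)) =
        (σ.support.card + Multiset.card σ.cycleType) + 2 * (n - σ.support.card) by omega]
      exact hev.add (even_two_mul _)
    · rw [show orderOf (⟨σ, hσ⟩ : alternatingGroup (Fin n)) = orderOf σ from (Subgroup.orderOf_coe _).symm,
        ← Equiv.Perm.lcm_cycleType σ, ← parts_lcm_filter μ.parts (fun x hx => μ.parts_pos hx)]
      congr 1
      simp only [μ, Multiset.filter_add]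
      rw [Multiset.filter_eq_self.mpr (fun x hx => Equiv.Perm.two_le_of_mem_cycleType hx),
        Multiset.filter_eq_nil.mpr (fun x hx => by rw [Multiset.eq_of_mem_replicate hx]; omega), add_zero]
  · rintro ⟨μ, hev, rfl⟩
    obtain ⟨σ, hσ⟩ := (Equiv.Perm.exists_with_cycleType_iff (α := Fin n) (m := μ.parts.filter (2 ≤ ·))).mpr ⟨by
      rw [Fintype.card_fin]
      conv_rhs => rw [← μ.parts_sum]
      exact le_of_le_of_eq (Nat.le_add_right _ _)
        (by rw [← Multiset.sum_add, Multiset.filter_add_not]), fun a ha => (Multiset.mem_filter.mp ha).2⟩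
    have hmem : σ ∈ alternatingGroup (Fin n) := by
      rw [Equiv.Perm.mem_alternatingGroup, Equiv.Perm.sign_of_cycleType, hσ]
      apply Even.neg_one_pow
      have hone : ∀ x ∈ μ.parts.filter (fun x => ¬ 2 ≤ x), x = 1 := fun x hx => by
        have h1 := Multiset.mem_filter.mp hx
        have := μ.parts_pos h1.1
        omega
      have h1 : (μ.parts.filter (fun x => ¬ 2 ≤ x)).sum = (μ.parts.filter (fun x => ¬ 2 ≤ x)).card := by
        conv_lhs => rw [Multiset.eq_replicate_card.mpr hone]
        rw [Multiset.sum_replicate, smul_eq_mul, mul_one]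
      have h2 := congrArg Multiset.card (Multiset.filter_add_not (2 ≤ ·) μ.parts)
      have h3 := congrArg Multiset.sum (Multiset.filter_add_not (2 ≤ ·) μ.parts)
      rw [Multiset.card_add] at h2
      rw [Multiset.sum_add, μ.parts_sum] at h3
      rw [Nat.even_iff] at hev ⊢
      omega
    refine ⟨⟨σ, hmem⟩, ?_⟩
    rw [show orderOf (⟨σ, hmem⟩ : alternatingGroup (Fin n)) = orderOf σ from (Subgroup.orderOf_coe _).symm,
      ← Equiv.Perm.lcm_cycleType σ, hσ, parts_lcm_filter μ.parts (fun x hx => μ.parts_pos hx)]

/-- All partitions of `n` with parts at most `m`, as lists. -/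
def partsList : ℕ → ℕ → List (List ℕ)
  | 0, n => if n = 0 then [[]] else []
  | m + 1, n => (List.range (n / (m + 1) + 1)).flatMap
      (fun c => (partsList m (n - c * (m + 1))).map (fun l => List.replicate c (m + 1) ++ l))

lemma partsList_sound : ∀ (m n : ℕ), ∀ l ∈ partsList m n, (∀ x ∈ l, 0 < x) ∧ l.sum = n := by
  intro m
  induction m with
  | zero =>
    intro n l hl
    unfold partsList at hl
    split_ifs at hl with h
    · simp only [List.mem_singleton] at hl; subst hl; simp [h]
    · simp at hl
  | succ m ih =>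
    intro n l hl
    unfold partsList at hl
    simp only [List.mem_flatMap, List.mem_range, List.mem_map] at hl
    obtain ⟨c, hc, l', hl', rfl⟩ := hl
    obtain ⟨h1, h2⟩ := ih _ l' hl'
    refine ⟨fun x hx => ?_, ?_⟩
    · rcases List.mem_append.mp hx with h | h
      · rw [List.eq_of_mem_replicate h]; omega
      · exact h1 x h
    · rw [List.sum_append, List.sum_replicate, h2, smul_eq_mul]
      have := Nat.mul_le_of_le_div (m + 1) c n (by omega)
      omega

lemma partsList_complete : ∀ (m n : ℕ) (s : Multiset ℕ), (∀ x ∈ s, 0 < x ∧ x ≤ m) → s.sum = n →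
    ∃ l ∈ partsList m n, (l : Multiset ℕ) = s := by
  intro m
  induction m with
  | zero =>
    intro n s hs hsum
    have h0 : s = 0 := Multiset.eq_zero_of_forall_notMem (fun x hx => by have := hs x hx; omega)
    subst h0
    refine ⟨[], ?_, rfl⟩
    simp at hsum
    simp [partsList, ← hsum]
  | succ m ih =>
    intro n s hs hsum
    set c := s.count (m + 1)
    have hdec : Multiset.replicate c (m + 1) + s.filter (fun x => ¬ x = m + 1) = s := by
      rw [← Multiset.filter_eq', Multiset.filter_add_not]
    have hsum' : c * (m + 1) + (s.filter (fun x => ¬ x = m + 1)).sum = n := by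
      rw [← hsum]
      conv_rhs => rw [← hdec]
      rw [Multiset.sum_add, Multiset.sum_replicate, smul_eq_mul]
    obtain ⟨l, hl, he⟩ := ih (n - c * (m + 1)) (s.filter (fun x => ¬ x = m + 1)) (fun x hx => by
      obtain ⟨h1, h2⟩ := Multiset.mem_filter.mp hx
      have := hs x h1
      omega) (by omega)
    refine ⟨List.replicate c (m + 1) ++ l, ?_, ?_⟩
    · unfold partsList
      simp only [List.mem_flatMap, List.mem_range, List.mem_map]
      exact ⟨c, Nat.lt_succ_of_le ((Nat.le_div_iff_mul_le (by omega)).mpr (by omega)), l, hl, rfl⟩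
    · rw [← Multiset.coe_add, he, Multiset.coe_replicate, hdec]

/-- A checkable form of the spectrum of an alternating group. -/
def altSpec (n : ℕ) : List ℕ :=
  ((partsList n n).filter (fun l => (n + l.length) % 2 == 0)).map (fun l => l.foldr Nat.lcm 1)

lemma range_orderOf_alternating' (n : ℕ) (s : List ℕ) (h1 : ∀ d ∈ altSpec n, d ∈ s)
    (h2 : ∀ d ∈ s, d ∈ altSpec n) :
    Set.range (orderOf : alternatingGroup (Fin n) → ℕ) = {d | d ∈ s} := by
  rw [range_orderOf_alternating]
  ext d
  have key : (∃ μ : Nat.Partition n, Even (n + μ.parts.card) ∧ μ.parts.lcm = d) ↔ d ∈ altSpec n := by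
    constructor
    · rintro ⟨μ, hev, rfl⟩
      obtain ⟨l, hl, he⟩ := partsList_complete n n μ.parts
        (fun x hx => ⟨μ.parts_pos hx, by
          have := Multiset.le_sum_of_mem hx; rw [μ.parts_sum] at this; exact this⟩) μ.parts_sum
      refine List.mem_map.mpr ⟨l, List.mem_filter.mpr ⟨hl, ?_⟩, ?_⟩
      · rw [Nat.even_iff, ← he, Multiset.coe_card] at hev
        simpa using hev
      · rw [← he]; rfl
    · intro hd
      obtain ⟨l, hl, rfl⟩ := List.mem_map.mp hd
      obtain ⟨hl1, hl2⟩ := List.mem_filter.mp hl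
      obtain ⟨hpos, hsum⟩ := partsList_sound n n l hl1
      exact ⟨⟨(l : Multiset ℕ), fun {i} hi => hpos i hi, hsum⟩,
        by rw [Nat.even_iff]; simpa using hl2, rfl⟩
  simp only [Set.mem_ofPred_eq, key]
  exact ⟨h1 d, h2 d⟩

lemma range_orderOf_alternating_six :
    Set.range (orderOf : alternatingGroup (Fin 6) → ℕ) = ({1, 2, 3, 4, 5} : Set ℕ) := by
  rw [range_orderOf_alternating' 6 [1, 2, 3, 4, 5] (by decide +kernel) (by decide +kernel)]
  ext d; simp

lemma range_orderOf_alternating_ten :
    Set.range (orderOf : alternatingGroup (Fin 10) → ℕ) =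
      ({1, 2, 3, 4, 5, 6, 7, 8, 9, 10, 12, 15, 21} : Set ℕ) := by
  rw [range_orderOf_alternating' 10 [1, 2, 3, 4, 5, 6, 7, 8, 9, 10, 12, 15, 21] (by decide +kernel)
    (by decide +kernel)]
  ext d; simp

end Cfsg.Agent.RecogB
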