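import Mathlib

/-! Permutations of prime order fixing a partition into blocks of equal size. -/

set_option autoImplicit false

namespace Cfsg.Agent.RecogB

open Equiv

/-- The numbers of `r`-cycles of an element fixing some partition into `b` blocks of size `a`. -/
def BlockCycles (a b r j : ℕ) : Prop :=
  ∃ i h, i * r ≤ b ∧ h ≤ (b - i * r) * (a / r) ∧ j = i * a + h

theorem blockCycles_of_fix {n a b r j : ℕ} [hr : Fact r.Prime] (ha : 0 < a) (σ : Perm (Fin n))
    (hσ : σ ^ r = 1) (hj : σ.support.card = j * r) (f : Fin n → Fin b)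
    (hf : ∀ m : Fin b, Nat.card {x : Fin n // f x = m} = a) (π : Perm (Fin b))
    (hπ : ∀ x, f (σ x) = π (f x)) : BlockCycles a b r j := by
  classical
  have hfib : ∀ m : Fin b, (Finset.univ.filter (fun x => f x = m)).card = a := fun m => by
    rw [← hf m, Nat.card_eq_fintype_card, Fintype.card_subtype]
  have hsurj : Function.Surjective f := fun m => by
    obtain ⟨x, hx⟩ := Finset.card_pos.mp (lt_of_lt_of_eq ha (hfib m).symm)
    exact ⟨x, (Finset.mem_filter.mp hx).2⟩
  have hpow : ∀ (k : ℕ) x, f ((σ ^ k) x) = (π ^ k) (f x) := by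
    intro k
    induction k with
    | zero => simp
    | succ k ih => intro x; rw [pow_succ', pow_succ', Perm.mul_apply, Perm.mul_apply, hπ, ih]
  have hπr : π ^ r ^ 1 = 1 := Equiv.ext fun m => by
    obtain ⟨x, rfl⟩ := hsurj m
    rw [pow_one, ← hpow, hσ]; rfl
  obtain ⟨i, hi⟩ : r ∣ π.support.card := by
    have h1 := Perm.card_compl_support_modEq hπr
    rw [Finset.card_compl] at h1
    have h2 := (Nat.modEq_iff_dvd' (Nat.sub_le _ _)).mp h1
    have := Finset.card_le_univ π.support
    rwa [Nat.sub_sub_self this] at h2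
  have hle : i * r ≤ b := by
    rw [mul_comm, ← hi]
    exact (Finset.card_le_univ _).trans (Fintype.card_fin b).le
  have hmoved : ∀ m ∈ π.support, (σ.support.filter (fun x => f x = m)).card = a := by
    intro m hm
    rw [← hfib m]
    congr 1
    ext x
    simp only [Finset.mem_filter, Finset.mem_univ, true_and, and_iff_right_iff_imp]
    intro hx
    rw [Perm.mem_support]
    intro e
    refine Perm.mem_support.mp hm ?_
    rw [← hx, ← hπ, e]
  have hfixed : ∀ m, m ∉ π.support → r ∣ (σ.support.filter (fun x => f x = m)).card ∧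
      (σ.support.filter (fun x => f x = m)).card ≤ a := by
    intro m hm
    refine ⟨?_, (hfib m) ▸ Finset.card_le_card (Finset.filter_subset_filter _ (Finset.subset_univ _))⟩
    have hmem : ∀ x, (σ x ∈ σ.support ∧ f (σ x) = m) ↔ (x ∈ σ.support ∧ f x = m) := by
      intro x
      rw [Perm.apply_mem_support, hπ]
      refine and_congr_right fun _ => ⟨fun h => ?_, fun h => h.symm ▸ Perm.notMem_support.mp hm⟩
      exact π.injective (h.trans (Perm.notMem_support.mp hm).symm)
    let τ : Perm {x // x ∈ σ.support ∧ f x = m} := σ.subtypePerm hmem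
    have hτ : τ ^ r ^ 1 = 1 := by
      rw [pow_one, Perm.subtypePerm_pow]
      ext x
      simp [Perm.subtypePerm_apply, hσ]
    have h1 := Perm.card_compl_support_modEq hτ
    have h2 : τ.supportᶜ = ∅ := Finset.eq_empty_of_forall_notMem fun x hx => by
      rw [Finset.mem_compl, Perm.notMem_support] at hx
      exact Perm.mem_support.mp x.2.1 (congrArg Subtype.val hx)
    rw [h2, Finset.card_empty, Fintype.card_subtype] at h1
    rw [show σ.support.filter (fun x => f x = m) =
      Finset.univ.filter (fun x => x ∈ σ.support ∧ f x = m) by ext x; simp]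
    exact Nat.modEq_zero_iff_dvd.mp h1.symm
  have hsum := Finset.card_eq_sum_card_fiberwise (s := σ.support) (t := (Finset.univ : Finset (Fin b)))
    (f := f) (fun x _ => Finset.mem_univ _)
  rw [← Finset.sum_add_sum_compl π.support, Finset.sum_congr rfl hmoved, Finset.sum_const, smul_eq_mul, hi,
    hj] at hsum
  refine ⟨i, ∑ m ∈ π.supportᶜ, (σ.support.filter (fun x => f x = m)).card / r, hle, ?_, ?_⟩
  · refine (Finset.sum_le_card_nsmul _ _ (a / r) fun m hm => ?_).trans (le_of_eq ?_)
    · exact Nat.div_le_div_right (hfixed m (Finset.mem_compl.mp hm)).2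
    · rw [smul_eq_mul, Finset.card_compl, Fintype.card_fin, hi, mul_comm r i]
  · refine Nat.eq_of_mul_eq_mul_right hr.out.pos ?_
    rw [hsum, add_mul, Finset.sum_mul]
    congr 1
    · ring
    · exact Finset.sum_congr rfl fun m hm => (Nat.div_mul_cancel (hfixed m (Finset.mem_compl.mp hm)).1).symm

/-- The standard permutation with `j` cycles of length `r` and `F` fixed points. -/
def modelPerm (j r F : ℕ) : Perm ((Fin j × Fin r) ⊕ Fin F) :=
  Equiv.sumCongr (Equiv.prodCongr (Equiv.refl (Fin j)) (finRotate r)) (Equiv.refl (Fin F))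

theorem finRotate_ne {r : ℕ} (hr : 2 ≤ r) (x : Fin r) : finRotate r x ≠ x := by
  obtain ⟨k, rfl⟩ : ∃ k, r = k + 2 := ⟨r - 2, by omega⟩
  exact Perm.mem_support.mp (support_finRotate ▸ Finset.mem_univ x)

theorem finRotate_pow {r : ℕ} : finRotate r ^ r = 1 := by
  match r with
  | 0 => simp
  | 1 => exact Subsingleton.elim _ _
  | k + 2 =>
    have h : orderOf (finRotate (k + 2)) = k + 2 := by
      rw [(isCycle_finRotate (n := k)).orderOf, support_finRotate, Finset.card_univ, Fintype.card_fin]
    exact orderOf_dvd_iff_pow_eq_one.mp (dvd_of_eq h)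

theorem modelPerm_support {j r F : ℕ} (hr : 2 ≤ r) : (modelPerm j r F).support.card = j * r := by
  classical
  have : (modelPerm j r F).support = (Finset.univ : Finset (Fin j × Fin r)).map ⟨Sum.inl, Sum.inl_injective⟩ := by
    ext x
    rcases x with ⟨c, x⟩ | y
    · simp [modelPerm, finRotate_ne hr, -finRotate_apply]
    · simp [modelPerm]
  rw [this, Finset.card_map, Finset.card_univ, Fintype.card_prod, Fintype.card_fin, Fintype.card_fin]

theorem modelPerm_orderOf {j r F : ℕ} [hr : Fact r.Prime] (hj : 0 < j) : orderOf (modelPerm j r F) = r := by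
  refine orderOf_eq_prime ?_ fun e => ?_
  · have h : ∀ (k : ℕ) x, ((modelPerm j r F) ^ k) x =
        Sum.map (fun p : Fin j × Fin r => (p.1, (finRotate r ^ k) p.2)) id x := by
      intro k
      induction k with
      | zero => intro x; rcases x with x | x <;> rfl
      | succ k ih =>
        intro x
        rw [pow_succ', pow_succ', Perm.mul_apply, ih]
        rcases x with x | x <;> rfl
    apply Equiv.ext
    intro x
    rw [h, finRotate_pow]
    rcases x with x | x <;> rfl
  · have h1 := modelPerm_support (j := j) (F := F) hr.out.two_le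
    rw [e, Perm.support_one, Finset.card_empty] at h1
    have := Nat.mul_pos hj hr.out.pos
    omega

theorem exists_model {n j r F : ℕ} [hr : Fact r.Prime] (σ : Perm (Fin n)) (hσ : orderOf σ = r)
    (hj : σ.support.card = j * r) (hn : j * r + F = n) :
    ∃ e : ((Fin j × Fin r) ⊕ Fin F) ≃ Fin n, ∀ x, σ (e x) = e (modelPerm j r F x) := by
  classical
  have hj0 : 0 < j := by
    rcases Nat.eq_zero_or_pos j with h | h
    · rw [h, zero_mul, Finset.card_eq_zero, Perm.support_eq_empty_iff] at hj
      rw [hj, orderOf_one] at hσ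
      exact absurd hσ hr.out.one_lt.ne
    · exact h
  let e0 : ((Fin j × Fin r) ⊕ Fin F) ≃ Fin n := Fintype.equivFinOfCardEq (by simp [hn])
  let τ := e0.permCongr (modelPerm j r F)
  have hsup : τ.support.card = j * r := by
    have : τ.support = (modelPerm j r F).support.map e0.toEmbedding := by
      ext x
      obtain ⟨y, rfl⟩ := e0.surjective x
      simp [τ, Perm.mem_support]
    rw [this, Finset.card_map, modelPerm_support hr.out.two_le]
  have hτ : orderOf τ = r :=
    ((e0.permCongrHom : Perm ((Fin j × Fin r) ⊕ Fin F) ≃* Perm (Fin n)).orderOf_eq (modelPerm j r F)).trans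
      (modelPerm_orderOf hj0)
  have hct : ∀ ρ : Perm (Fin n), orderOf ρ = r → ρ.support.card = j * r →
      ρ.cycleType = Multiset.replicate j r := by
    intro ρ h1 h2
    obtain ⟨m, hm⟩ := Perm.cycleType_prime_order (σ := ρ) (by rw [h1]; exact hr.out)
    rw [h1] at hm
    have h3 := Perm.sum_cycleType ρ
    rw [hm, Multiset.sum_replicate, smul_eq_mul, h2] at h3
    rw [hm, Nat.eq_of_mul_eq_mul_right hr.out.pos h3]
  obtain ⟨c, hc⟩ := isConj_iff.mp
    (Perm.isConj_iff_cycleType_eq.mpr ((hct τ hτ hsup).trans (hct σ hσ hj).symm))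
  refine ⟨e0.trans c, fun x => ?_⟩
  rw [← hc]
  simp [τ]

theorem exists_fix_of_blockCycles {n a b r j : ℕ} [hr : Fact r.Prime] (hn : n = a * b) (σ : Perm (Fin n))
    (hσ : orderOf σ = r) (hj : σ.support.card = j * r) (hJ : BlockCycles a b r j) :
    ∃ f : Fin n → Fin b, (∀ m : Fin b, Nat.card {x : Fin n // f x = m} = a) ∧
      ∃ π : Perm (Fin b), ∀ x, f (σ x) = π (f x) := by
  classical
  obtain ⟨i, h, hi, hh, rfl⟩ := hJ
  set A := a / r with hA
  have hle : (i * a + h) * r ≤ n := hj ▸ (Finset.card_le_univ _).trans (Fintype.card_fin n).le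
  obtain ⟨F, hF⟩ : ∃ F, (i * a + h) * r + F = n := ⟨_, Nat.add_sub_cancel' hle⟩
  obtain ⟨e, he⟩ := exists_model σ hσ hj hF
  let T := (Fin i × Fin r) ⊕ Fin (b - i * r)
  let β : T ≃ Fin b := Fintype.equivFinOfCardEq (by simp [T, Nat.add_sub_cancel' hi])
  let split : Fin (i * a + h) ≃ (Fin i × Fin a) ⊕ Fin h :=
    finSumFinEquiv.symm.trans (Equiv.sumCongr finProdFinEquiv.symm (Equiv.refl _))
  let g0 : Fin h → Fin (b - i * r) × Fin A := fun c => finProdFinEquiv.symm (Fin.castLE hh c)
  have hg0 : Function.Injective g0 := fun x y e => Fin.castLE_injective hh (finProdFinEquiv.symm.injective e)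
  -- the moved points
  let φ : Fin (i * a + h) × Fin r → T := fun p =>
    Sum.elim (fun q : Fin i × Fin a => Sum.inl (q.1, p.2)) (fun c => Sum.inr (g0 c).1) (split p.1)
  let π0 : Perm T := Equiv.sumCongr (Equiv.prodCongr (Equiv.refl (Fin i)) (finRotate r)) (Equiv.refl _)
  have hφ : ∀ c x, φ (c, finRotate r x) = π0 (φ (c, x)) := by
    intro c x
    simp only [φ]
    rcases split c with q | q <;> rfl
  let cnt : T → ℕ := fun t => (Finset.univ.filter (fun p => φ p = t)).card
  have hcnt : ∀ t, cnt t ≤ a := by
    intro t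
    rcases t with ⟨q, x⟩ | m
    · refine (Finset.card_le_card_of_injOn
        (fun p => Sum.elim (fun q : Fin i × Fin a => (q.2 : ℕ)) (fun _ => 0) (split p.1))
        (t := Finset.range a) (fun p hp => ?_) (fun p hp p' hp' e => ?_)).trans (Finset.card_range a).le
      · have hp' := (Finset.mem_filter.mp hp).2
        simp only [φ] at hp'
        cases hs : split p.1 with
        | inl q' =>
          simp only [Finset.coe_range, Set.mem_Iio, hs, Sum.elim_inl]
          exact q'.2.2
        | inr q' => rw [hs] at hp'; exact absurd hp' (by simp)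
      · have h1 := (Finset.mem_filter.mp hp).2
        have h2 := (Finset.mem_filter.mp hp').2
        simp only [φ] at h1 h2
        cases hs : split p.1 with
        | inr q' => rw [hs] at h1; exact absurd h1 (by simp)
        | inl q1 =>
          cases hs' : split p'.1 with
          | inr q' => rw [hs'] at h2; exact absurd h2 (by simp)
          | inl q2 =>
            simp only [hs, hs', Sum.elim_inl] at h1 h2 e
            rw [Sum.inl.injEq, Prod.mk.injEq] at h1 h2
            have : q1 = q2 := Prod.ext (h1.1.trans h2.1.symm) (Fin.ext e)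
            exact Prod.ext (split.injective (by rw [hs, hs', this])) (h1.2.trans h2.2.symm)
    · have hAa : A * r ≤ a := Nat.div_mul_le_self a r
      refine le_trans ?_ hAa
      refine (Finset.card_le_card_of_injOn
        (fun p => Sum.elim (fun _ => (0, 0)) (fun c => (((g0 c).2 : ℕ), (p.2 : ℕ))) (split p.1))
        (t := Finset.range A ×ˢ Finset.range r) (fun p hp => ?_) (fun p hp p' hp' e => ?_)).trans (by simp)
      · have hp' := (Finset.mem_filter.mp hp).2
        simp only [φ] at hp'
        cases hs : split p.1 with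
        | inl q' => rw [hs] at hp'; exact absurd hp' (by simp)
        | inr q' => simp [hs]
      · have h1 := (Finset.mem_filter.mp hp).2
        have h2 := (Finset.mem_filter.mp hp').2
        simp only [φ] at h1 h2
        cases hs : split p.1 with
        | inl q' => rw [hs] at h1; exact absurd h1 (by simp)
        | inr q1 =>
          cases hs' : split p'.1 with
          | inl q' => rw [hs'] at h2; exact absurd h2 (by simp)
          | inr q2 =>
            simp only [hs, hs', Sum.elim_inr] at h1 h2 e
            rw [Sum.inr.injEq] at h1 h2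
            rw [Prod.mk.injEq] at e
            have : q1 = q2 := hg0 (Prod.ext (h1.trans h2.symm) (Fin.ext e.1))
            exact Prod.ext (split.injective (by rw [hs, hs', this])) (Fin.ext e.2)
  have hsum : ∑ t, cnt t = (i * a + h) * r := by
    rw [← Finset.card_eq_sum_card_fiberwise (fun p _ => Finset.mem_univ (φ p))]
    simp
  have hdef : ∑ t, (a - cnt t) = F := by
    have h1 : ∑ t, (a - cnt t) + ∑ t, cnt t = ∑ _t : T, a := by
      rw [← Finset.sum_add_distrib]
      exact Finset.sum_congr rfl fun t _ => Nat.sub_add_cancel (hcnt t)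
    have hT : Fintype.card T = b := (Fintype.card_congr β).trans (Fintype.card_fin b)
    rw [hsum, Finset.sum_const, Finset.card_univ, hT, smul_eq_mul, mul_comm b a, ← hn] at h1
    omega
  let Y := Σ t : T, Fin (a - cnt t)
  let ε : Fin F ≃ Y := (Fintype.equivFinOfCardEq (by rw [Fintype.card_sigma]; simpa using hdef)).symm
  let fM : (Fin (i * a + h) × Fin r) ⊕ Fin F → T := Sum.elim φ (fun y => (ε y).1)
  have hM : ∀ t, Nat.card {x // fM x = t} = a := by
    intro t
    rw [Nat.card_congr (Equiv.subtypeSum (p := fun x => fM x = t)), Nat.card_sum]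
    have h1 : Nat.card {p // fM (Sum.inl p) = t} = cnt t := by
      rw [Nat.card_eq_fintype_card, Fintype.card_subtype]; rfl
    have h2 : Nat.card {y // fM (Sum.inr y) = t} = a - cnt t := by
      show Nat.card {y // (ε y).1 = t} = a - cnt t
      rw [Nat.card_congr ((ε.subtypeEquiv (q := fun y : Y => y.1 = t) (fun y => Iff.rfl)).trans
        (Equiv.sigmaSubtype t)), Nat.card_fin]
    rw [h1, h2, Nat.add_sub_cancel' (hcnt t)]
  refine ⟨fun x => β (fM (e.symm x)), fun m => ?_,
    β.permCongr (π0), fun x => ?_⟩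
  · refine Eq.trans ?_ (hM (β.symm m))
    refine Nat.card_congr (e.symm.subtypeEquiv fun x => ?_)
    rw [Equiv.eq_symm_apply]
  · obtain ⟨y, rfl⟩ := e.surjective x
    rw [he, Equiv.permCongr_apply]
    simp only [Equiv.symm_apply_apply]
    congr 1
    rcases y with ⟨c, x⟩ | y
    · exact hφ c x
    · show (ε y).1 = π0 (ε y).1
      have hfix : ∀ t, cnt t < a → π0 t = t := by
        rintro (⟨q, x⟩ | m) hlt
        · exfalso
          have : a ≤ cnt (Sum.inl (q, x)) := by
            refine le_trans (le_of_eq (Fintype.card_fin a).symm) ?_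
            refine Finset.card_le_card_of_injOn (fun l => (split.symm (Sum.inl (q, l)), x))
              (fun l _ => Finset.mem_filter.mpr ⟨Finset.mem_univ _, by simp [φ]⟩) (fun l _ l' _ e => ?_)
            simpa using e
          omega
        · rfl
      exact (hfix _ (by have := (ε y).2.2; omega)).symm

/-- The arithmetic criterion. -/
theorem blockCycles_iff {a b r : ℕ} (ha : 2 ≤ a) (hr : r.Prime) (hrn : r ≤ a * b) :
    (∀ j, 1 ≤ j → j * r ≤ a * b → BlockCycles a b r j) ↔
      (r ≤ a ∧ (a % r = 0 ∨ (b % r = 0 ∧ a % r = 1) ∨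
        (a % r ≠ 0 ∧ b % r ≠ 0 ∧ (b % r) * (a % r) < r ∧
          (b < r ∨ (b % r + r) * (a % r) ≤ (b % r) * a + r)))) := by
  obtain ⟨A, hAdef⟩ : ∃ A, A = a / r := ⟨_, rfl⟩
  obtain ⟨B, hBdef⟩ : ∃ B, B = b / r := ⟨_, rfl⟩
  obtain ⟨l, hl⟩ : ∃ l, l = a % r := ⟨_, rfl⟩
  obtain ⟨k, hk⟩ : ∃ k, k = b % r := ⟨_, rfl⟩
  have hr2 := hr.two_le
  have haE : a = A * r + l := by rw [hAdef, hl, mul_comm]; exact (Nat.div_add_mod a r).symm
  have hbE : b = B * r + k := by rw [hBdef, hk, mul_comm]; exact (Nat.div_add_mod b r).symm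
  have hlr : l < r := hl ▸ Nat.mod_lt _ hr.pos
  have hkr : k < r := hk ▸ Nat.mod_lt _ hr.pos
  have hab : a * b = (B * a + k * A) * r + l * k := by rw [haE, hbE]; ring
  have hbi : ∀ i, i ≤ B → b - i * r = (B - i) * r + k := by
    intro i hi
    have : i * r ≤ B * r := Nat.mul_le_mul_right r hi
    rw [Nat.sub_mul]; omega
  have hiB : ∀ i, i * r ≤ b → i ≤ B := fun i hi => hBdef ▸ (Nat.le_div_iff_mul_le hr.pos).mpr hi
  have hBr : B * r ≤ b := by omega
  have hA1 : r ≤ a ↔ 1 ≤ A := by rw [hAdef, Nat.one_le_div_iff hr.pos]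
  have key : (∀ j, 1 ≤ j → j * r ≤ a * b → BlockCycles a b r j) ↔
      (r ≤ a ∧ l * k < r ∧ (B = 0 ∨ l ≤ k * A + 1)) := by
    unfold BlockCycles
    rw [← hAdef]
    constructor
    · intro h
      have hA0 : r ≤ a := by
        by_contra hc
        have hA : A = 0 := by
          by_contra hne
          exact hc (hA1.mpr (Nat.pos_of_ne_zero hne))
        obtain ⟨i, h', -, hh', he⟩ := h 1 le_rfl (by rw [one_mul]; exact hrn)
        rw [hA, mul_zero] at hh'
        rcases Nat.eq_zero_or_pos i with hi | hi
        · rw [hi] at he; omega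
        · have := Nat.mul_le_mul_right a hi
          omega
      refine ⟨hA0, ?_, ?_⟩
      · by_contra hc
        obtain ⟨i, h', hi, hh', he⟩ := h (B * a + k * A + 1) (by omega) (by
          rw [hab, add_mul (B * a + k * A) 1 r, one_mul]; omega)
        rw [hbi i (hiB i hi)] at hh'
        obtain ⟨d, hd⟩ := Nat.le.dest (hiB i hi)
        rw [← hd, Nat.add_sub_cancel_left] at hh'
        rw [← hd] at he
        have h1 : d * r * A ≤ d * a := by
          rw [mul_assoc]; exact Nat.mul_le_mul_left d (by rw [mul_comm]; omega)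
        rw [add_mul] at hh' he
        omega
      · rcases Nat.eq_zero_or_pos B with h0 | h0
        · exact Or.inl h0
        right
        by_contra hc
        obtain ⟨D, hD⟩ : ∃ D, B = D + 1 := ⟨B - 1, by omega⟩
        obtain ⟨i, h', hi, hh', he⟩ := h (D * a + (r + k) * A + 1) (by omega) (by
          rw [hab]
          refine le_trans (Nat.mul_le_mul_right r ?_) (Nat.le_add_right _ _)
          rw [hD, haE]
          nlinarith)
        rw [hbi i (hiB i hi)] at hh'
        rcases Nat.lt_or_ge i B with hiB' | hiB'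
        · obtain ⟨c, hc'⟩ : ∃ c, D = i + c := ⟨D - i, by omega⟩
          rw [show B - i = c + 1 by omega] at hh'
          rw [hc'] at he
          have h1 : c * r * A ≤ c * a := by
            rw [mul_assoc]; exact Nat.mul_le_mul_left c (by rw [mul_comm]; omega)
          nlinarith
        · have : i = B := le_antisymm (hiB i hi) hiB'
          subst this
          rw [hD] at he
          rw [haE] at he
          nlinarith
    · rintro ⟨hA0, hlk, hcov⟩ j hj hjr
      have hjmax : j ≤ B * a + k * A := by
        by_contra hc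
        have := Nat.mul_le_mul_right r (Nat.succ_le_of_lt (not_le.mp hc))
        rw [Nat.succ_eq_add_one, add_mul _ 1 r, one_mul] at this
        omega
      have hP : ∃ i, i ≤ B ∧ j ≤ i * a + (b - i * r) * A := ⟨B, le_rfl, by
        rw [hbi B le_rfl, Nat.sub_self, zero_mul, zero_add]; exact hjmax⟩
      classical
      obtain ⟨hi, hij⟩ := Nat.find_spec hP
      set i := Nat.find hP with hidef
      refine ⟨i, j - i * a, le_trans (Nat.mul_le_mul_right r hi) hBr, by omega, ?_⟩
      suffices i * a ≤ j by omega
      rcases Nat.eq_zero_or_pos i with h0 | h0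
      · simp [h0]
      obtain ⟨c, hc⟩ : ∃ c, i = c + 1 := ⟨i - 1, by omega⟩
      have hmin := Nat.find_min hP (show c < Nat.find hP by omega)
      rw [not_and, not_le] at hmin
      have hmin' := hmin (by omega)
      rw [hbi c (by omega)] at hmin'
      rcases hcov with hB | hcov
      · omega
      obtain ⟨d, hd⟩ : ∃ d, B - c = d + 1 := ⟨B - c - 1, by omega⟩
      rw [hd] at hmin'
      rw [hc, haE]
      rw [haE] at hmin'
      nlinarith
  rw [key, ← hl, ← hk]
  refine and_congr_right fun hA0 => ?_
  have hA1' := hA1.mp hA0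
  have hB0 : B = 0 ↔ b < r := by rw [hBdef, Nat.div_eq_zero_iff]; simp [hr.ne_zero]
  have hmain : (k + r) * l ≤ k * a + r ↔ l ≤ k * A + 1 := by
    rw [haE, show k * (A * r + l) + r = (k * A + 1) * r + k * l by ring,
      show (k + r) * l = l * r + k * l by ring, Nat.add_le_add_iff_right]
    exact ⟨fun h => Nat.le_of_mul_le_mul_right h hr.pos, fun h => Nat.mul_le_mul_right r h⟩
  rw [hmain, ← hB0]
  constructor
  · rintro ⟨h1, h2⟩
    by_cases hl0 : l = 0
    · exact Or.inl hl0
    by_cases hk0 : k = 0
    · right; left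
      refine ⟨hk0, ?_⟩
      rcases h2 with h2 | h2
      · exfalso
        rw [h2, hk0] at hbE
        simp only [zero_mul, zero_add] at hbE
        rw [hbE] at hrn
        omega
      · rw [hk0] at h2; omega
    · exact Or.inr (Or.inr ⟨hl0, hk0, by rwa [mul_comm], h2⟩)
  · rintro (h | ⟨h, h'⟩ | ⟨-, -, h1, h2⟩)
    · subst h; exact ⟨by simpa using hr.pos, Or.inr (Nat.zero_le _)⟩
    · subst h; subst h'; exact ⟨by simpa using hr.pos, Or.inr (by omega)⟩
    · exact ⟨by rwa [mul_comm], h2⟩

end Cfsg.Agent.RecogB
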