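import Mathlib

/-! A simple group cannot have element centralisers that are all self-normalising and constant on
nontrivial powers. -/

set_option autoImplicit false

namespace Cfsg.Agent.RecogB

variable {X : Type*} [Group X]

local notation "C" x:max => Subgroup.centralizer ({x} : Set _)

lemma mem_cent {x u : X} : u ∈ C x ↔ u * x = x * u := Subgroup.mem_centralizer_singleton_iff

lemma sum_inv_sq_le : ∀ M : ℕ, 1 ≤ M →
    ∑ n ∈ Finset.Icc 2 M, (1 : ℚ) / (n : ℚ) ^ 2 ≤ 1 - 1 / M := by
  intro M hM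
  induction M, hM using Nat.le_induction with
  | base => simp
  | succ M hM ih =>
    rw [Finset.sum_Icc_succ_top (by omega)]
    have hpos : (0 : ℚ) < M := by exact_mod_cast hM
    have h1 : (1 : ℚ) / ((M + 1 : ℕ) : ℚ) ^ 2 ≤ 1 / M - 1 / ((M + 1 : ℕ) : ℚ) := by
      push_cast
      rw [div_sub_div _ _ hpos.ne' (by positivity), div_le_div_iff₀ (by positivity) (by positivity)]
      nlinarith [mul_pos hpos hpos]
    linarith

theorem false_of_centralizers [Finite X] [IsSimpleGroup X] (hna : ¬ IsMulCommutative X)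
    (hA : ∀ x : X, x ≠ 1 → ∀ y ∈ Subgroup.zpowers x, y ≠ 1 → C y = C x)
    (hB : ∀ x : X, x ≠ 1 → ∀ n : X, (∀ u ∈ C x, n * u * n⁻¹ ∈ C x) → n ∈ C x) : False := by
  classical
  have hnp : ∀ p : ℕ, p.Prime → ¬ IsPGroup p X := by
    intro p hp hpg
    have : Fact p.Prime := ⟨hp⟩
    have := hpg.center_nontrivial
    rcases (inferInstance : (Subgroup.center X).Normal).eq_bot_or_eq_top with h3 | h3
    · exact (Subgroup.nontrivial_iff_ne_bot _).mp this h3
    · exact hna ⟨⟨fun a b => (Subgroup.mem_center_iff.mp (h3 ▸ Subgroup.mem_top a) b).symm⟩⟩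
  have hcop : ∀ x y : X, x ≠ 1 → y ≠ 1 → Commute x y → (orderOf x).Coprime (orderOf y) → C x = C y := by
    intro x y hx hy hc hco
    have hxy : x * y ≠ 1 := fun e => by
      have : y = x⁻¹ := eq_inv_of_mul_eq_one_right e
      rw [this, orderOf_inv, Nat.coprime_self] at hco
      exact hx (orderOf_eq_one_iff.mp hco)
    have key : ∀ a b : X, Commute a b → (orderOf a).Coprime (orderOf b) → a ∈ Subgroup.zpowers (a * b) := by
      intro a b hab hab'
      obtain ⟨k, hk⟩ := exists_pow_eq_self_of_coprime (x := a) hab'.symm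
      refine ⟨((orderOf b * k : ℕ) : ℤ), ?_⟩
      show (a * b) ^ ((orderOf b * k : ℕ) : ℤ) = a
      rw [zpow_natCast, hab.mul_pow, pow_mul, hk, pow_mul, pow_orderOf_eq_one, one_pow, mul_one]
    rw [hA _ hxy x (key x y hc hco) hx, hA _ hxy y (by rw [hc.eq]; exact key y x hc.symm hco.symm) hy]
  have hprime : ∀ x : X, x ≠ 1 → ∃ x0 : X, (orderOf x0).Prime ∧ C x0 = C x ∧ x0 ∈ Subgroup.zpowers x := by
    intro x hx
    obtain ⟨p, hp, hpd⟩ := Nat.exists_prime_and_dvd (n := orderOf x) (fun e => hx (orderOf_eq_one_iff.mp e))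
    have : Fact p.Prime := ⟨hp⟩
    obtain ⟨y, hy⟩ := exists_prime_orderOf_dvd_card' (G := Subgroup.zpowers x) p (by rwa [Nat.card_zpowers])
    have hy' : orderOf (y : X) = p := by rw [Subgroup.orderOf_coe, hy]
    exact ⟨y, hy' ▸ hp, hA x hx y y.2 (fun e => by rw [e, orderOf_one] at hy'; exact hp.one_lt.ne hy'), y.2⟩
  have hne1 : ∀ u : X, (orderOf u).Prime → u ≠ 1 := fun u h e => by
    rw [e, orderOf_one] at h; exact Nat.not_prime_one h
  have hdich : ∀ (p : ℕ), p.Prime → ∀ x : X, x ≠ 1 → (∃ k, orderOf x = p ^ k) →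
      IsPGroup p (C x) ∨ ∀ u ∈ C x, u ≠ 1 → C u = C x := by
    intro p hp x hx ⟨k, hk⟩
    have : Fact p.Prime := ⟨hp⟩
    by_cases h : ∃ q : ℕ, q.Prime ∧ q ≠ p ∧ q ∣ Nat.card (C x)
    · right
      obtain ⟨q, hq, hqp, hqd⟩ := h
      have : Fact q.Prime := ⟨hq⟩
      obtain ⟨w, hw⟩ := exists_prime_orderOf_dvd_card' q hqd
      have hw' : orderOf (w : X) = q := by rw [Subgroup.orderOf_coe, hw]
      have hw1 : (w : X) ≠ 1 := hne1 _ (hw' ▸ hq)
      have hxw : C (w : X) = C x := hcop _ _ hw1 hx (mem_cent.mp w.2)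
        (by rw [hw', hk]; exact ((Nat.coprime_primes hq hp).mpr hqp).pow_right k)
      intro u hu hu1
      obtain ⟨u0, hu0, hu0C, hu0m⟩ := hprime u hu1
      rw [← hu0C]
      have hu0x : u0 ∈ C x := (Subgroup.zpowers_le.mpr hu) hu0m
      by_cases hr : orderOf u0 = p
      · rw [← hxw]
        refine hcop _ _ (hne1 _ hu0) hw1 ?_ (by rw [hr, hw']; exact (Nat.coprime_primes hp hq).mpr hqp.symm)
        have : u0 ∈ C (w : X) := hxw.symm ▸ hu0x
        exact mem_cent.mp this
      · exact hcop _ _ (hne1 _ hu0) hx (mem_cent.mp hu0x)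
          (by rw [hk]; exact ((Nat.coprime_primes hu0 hp).mpr hr).pow_right k)
    · left
      push Not at h
      exact IsPGroup.of_card (Nat.eq_prime_pow_of_unique_prime_dvd Nat.card_pos.ne'
        (fun {d} hd hdd => by_contra fun hne => h d hd hne hdd))
  have hpel : ∀ (p : ℕ), p.Prime → ∀ (P : Sylow p X) (u : X), u ∈ (P : Subgroup X) → ∃ k, orderOf u = p ^ k := by
    intro p hp P u hu
    have : Fact p.Prime := ⟨hp⟩
    obtain ⟨k, hk⟩ := IsPGroup.iff_orderOf.mp P.isPGroup' ⟨u, hu⟩
    exact ⟨k, by rw [← hk, ← Subgroup.orderOf_coe]⟩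
  have hnab : ∀ (p : ℕ), p.Prime → p ∣ Nat.card X → ∀ P : Sylow p X,
      ¬ ∀ a ∈ (P : Subgroup X), ∀ b ∈ (P : Subgroup X), a * b = b * a := by
    intro p hp hpd P hab
    have : Fact p.Prime := ⟨hp⟩
    have hPbot : (P : Subgroup X) ≠ ⊥ := P.ne_bot_of_dvd_card hpd
    obtain ⟨⟨z, hz⟩, hz1⟩ := (Subgroup.bot_or_exists_ne_one (P : Subgroup X)).resolve_left hPbot |>
      fun ⟨z, hz, hne⟩ => (⟨⟨z, hz⟩, hne⟩ : ∃ z : (P : Subgroup X), (z : X) ≠ 1)
    have hz1' : z ≠ 1 := hz1
    have hPC : ∀ u ∈ (P : Subgroup X), (P : Subgroup X) ≤ C u := fun u hu v hv => mem_cent.mpr (hab v hv u hu)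
    have hall : ∀ u ∈ (P : Subgroup X), u ≠ 1 → C u = C z := by
      intro u hu hu1
      rcases hdich p hp z hz1' (hpel p hp P z hz) with h | h
      · rcases hdich p hp u hu1 (hpel p hp P u hu) with h' | h'
        · rw [P.is_maximal' h (hPC z hz), P.is_maximal' h' (hPC u hu)]
        · exact (h' z (hPC u hu hz) hz1').symm
      · exact h u (hPC z hz hu) hu1
    have hN : Subgroup.normalizer ((P : Subgroup X) : Set X) ≤ Subgroup.centralizer ((P : Subgroup X) : Set X) := by
      intro n hn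
      have hnC : n ∈ C z := by
        refine hB z hz1' n (fun u hu => ?_)
        have hzn : n * z * n⁻¹ ∈ (P : Subgroup X) := (Subgroup.mem_normalizer_iff.mp hn z).mp hz
        rw [← hall _ hzn (fun e => hz1' (conj_eq_one_iff.mp e))]
        rw [mem_cent] at hu ⊢
        calc n * u * n⁻¹ * (n * z * n⁻¹) = n * (u * z) * n⁻¹ := by group
          _ = n * z * n⁻¹ * (n * u * n⁻¹) := by rw [hu]; group
      rw [Subgroup.mem_centralizer_iff]
      intro u hu
      by_cases hu1 : u = 1
      · simp [hu1]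
      have : n ∈ C u := (hall u hu hu1).symm ▸ hnC
      exact (mem_cent.mp this).symm
    have hc := MonoidHom.ker_transferSylow_isComplement' P hN
    rcases (MonoidHom.normal_ker (MonoidHom.transferSylow P hN)).eq_bot_or_eq_top with h | h
    · rw [h, Subgroup.isComplement'_bot_left] at hc
      exact hnp p hp (P.isPGroup'.of_equiv ((MulEquiv.subgroupCongr hc).trans Subgroup.topEquiv))
    · rw [h, Subgroup.isComplement'_top_left] at hc
      exact hPbot hc
  have hsyl : ∀ x : X, x ≠ 1 → ∃ p ∈ (Nat.card X).primeFactors, ∃ P : Sylow p X, (P : Subgroup X) = C x := by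
    intro x hx
    obtain ⟨x0, hx0, hC, -⟩ := hprime x hx
    set p := orderOf x0 with hp
    have : Fact p.Prime := ⟨hx0⟩
    have hpd : p ∣ Nat.card X := orderOf_dvd_natCard x0
    refine ⟨p, Nat.mem_primeFactors.mpr ⟨hx0, hpd, Nat.card_pos.ne'⟩, ?_⟩
    have hpg : IsPGroup p (C x0) := by
      rcases hdich p hx0 x0 (hne1 _ hx0) ⟨1, (pow_one p).symm⟩ with h | h
      · exact h
      exfalso
      have hz : IsPGroup p (Subgroup.zpowers x0) := IsPGroup.of_card (n := 1) (by rw [Nat.card_zpowers, pow_one])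
      obtain ⟨P, hP⟩ := hz.exists_le_sylow
      have hx0P : x0 ∈ (P : Subgroup X) := hP (Subgroup.mem_zpowers x0)
      have := Subgroup.nontrivial_iff_ne_bot _ |>.mpr (P.ne_bot_of_dvd_card hpd)
      have := P.isPGroup'.center_nontrivial
      obtain ⟨⟨z, hzc⟩, hz1⟩ := exists_ne (1 : Subgroup.center (P : Subgroup X))
      have hz1' : (z : X) ≠ 1 := fun e => hz1 (Subtype.ext (Subtype.ext e))
      have hzm : (z : X) ∈ C x0 := mem_cent.mpr
        (congrArg Subtype.val (Subgroup.mem_center_iff.mp hzc ⟨x0, hx0P⟩)).symm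
      have hPC : (P : Subgroup X) ≤ C x0 := by
        rw [← h _ hzm hz1']
        exact fun v hv => mem_cent.mpr (congrArg Subtype.val (Subgroup.mem_center_iff.mp hzc ⟨v, hv⟩))
      refine hnab p hx0 hpd P (fun a ha b hb => ?_)
      by_cases hb1 : b = 1
      · simp [hb1]
      have : a ∈ C b := (h b (hPC hb) hb1).symm ▸ hPC ha
      exact mem_cent.mp this
    rw [← hC]
    obtain ⟨P, hP⟩ := hpg.exists_le_sylow
    refine ⟨P, le_antisymm ?_ hP⟩
    by_contra hne
    have hlt : (C x0).subgroupOf (P : Subgroup X) < ⊤ :=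
      lt_top_iff_ne_top.mpr (fun e => hne (Subgroup.subgroupOf_eq_top.mp e))
    have := P.isPGroup'.isNilpotent
    have hlt2 := Group.normalizerCondition_of_isNilpotent (G := (P : Subgroup X)) _ hlt
    obtain ⟨⟨n, hnP⟩, hn, hn'⟩ := SetLike.exists_of_lt hlt2
    refine hn' (hB x0 (hne1 _ hx0) n (fun u hu => ?_))
    exact (Subgroup.mem_normalizer_iff.mp hn ⟨u, hP hu⟩).mp hu
  -- counting
  have := Fintype.ofFinite X
  let Z : (p : ℕ) → Sylow p X → Finset X := fun p P =>
    Finset.univ.filter (fun x => x ≠ 1 ∧ x ∈ (P : Subgroup X) ∧ ∀ y ∈ (P : Subgroup X), y * x = x * y)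
  have : ∀ p, Fintype (Sylow p X) := fun p => Fintype.ofFinite _
  have hcover : ({1}ᶜ : Finset X) ⊆
      (Nat.card X).primeFactors.biUnion (fun p => (Finset.univ : Finset (Sylow p X)).biUnion (Z p)) := by
    intro x hx
    have hx1 : x ≠ 1 := by simpa using hx
    obtain ⟨p, hp, P, hP⟩ := hsyl x hx1
    refine Finset.mem_biUnion.mpr ⟨p, hp, Finset.mem_biUnion.mpr ⟨P, Finset.mem_univ _, ?_⟩⟩
    refine Finset.mem_filter.mpr ⟨Finset.mem_univ _, hx1, ?_, fun y hy => ?_⟩
    · rw [hP]; exact mem_cent.mpr rfl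
    · rw [hP] at hy; exact mem_cent.mp hy
  have hbound : ∀ p ∈ (Nat.card X).primeFactors,
      (((Finset.univ : Finset (Sylow p X)).biUnion (Z p)).card : ℚ) < (Nat.card X : ℚ) / (p : ℚ) ^ 2 := by
    intro p hp
    obtain ⟨hpp, hpd, -⟩ := Nat.mem_primeFactors.mp hp
    have : Fact p.Prime := ⟨hpp⟩
    obtain ⟨P0⟩ := (inferInstance : Nonempty (Sylow p X))
    set n := Nat.card (Sylow p X)
    have hn : 0 < n := Nat.card_pos
    have hle : n * Nat.card (P0 : Subgroup X) ≤ Nat.card X := by
      rw [← (P0 : Subgroup X).card_mul_index, mul_comm]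
      refine Nat.mul_le_mul_left _ ?_
      show Nat.card (Sylow p X) ≤ _
      rw [P0.card_eq_index_normalizer]
      exact Nat.le_of_dvd (Nat.pos_of_ne_zero Subgroup.index_ne_zero_of_finite) (Subgroup.index_dvd_of_le Subgroup.le_normalizer)
    have hZ : ∀ P : Sylow p X, ((Z p P).card + 1) * p ^ 2 ≤ Nat.card (P0 : Subgroup X) := by
      intro P
      have hPc : Nat.card (P : Subgroup X) = Nat.card (P0 : Subgroup X) := by
        rw [P.card_eq_multiplicity, P0.card_eq_multiplicity]
      rw [← hPc]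
      have h1 : (Z p P).card + 1 ≤ Nat.card (Subgroup.center (P : Subgroup X)) := by
        have : (Z p P).card ≤ Nat.card ({1}ᶜ : Set (Subgroup.center (P : Subgroup X))) := by
          rw [← Nat.card_eq_finsetCard]
          refine Nat.card_le_card_of_injective
            (fun x : Z p P => (⟨⟨⟨x.1, (Finset.mem_filter.mp x.2).2.2.1⟩,
              Subgroup.mem_center_iff.mpr (fun y => Subtype.ext ((Finset.mem_filter.mp x.2).2.2.2 y y.2))⟩,
              fun e => (Finset.mem_filter.mp x.2).2.1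
                (congrArg (fun z : Subgroup.center (P : Subgroup X) => ((z : (P : Subgroup X)) : X)) e)⟩ :
              ({1}ᶜ : Set (Subgroup.center (P : Subgroup X))))) ?_
          intro x y e
          exact Subtype.ext
            (congrArg (fun z : ({1}ᶜ : Set (Subgroup.center (P : Subgroup X))) =>
              (((z : Subgroup.center (P : Subgroup X)) : (P : Subgroup X)) : X)) e)
        rw [Nat.card_coe_set_eq, Set.ncard_compl, Set.ncard_singleton] at this
        have h0 : 0 < Nat.card (Subgroup.center (P : Subgroup X)) := Nat.card_pos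
        omega
      have h2 : p ^ 2 ≤ (Subgroup.center (P : Subgroup X)).index := by
        obtain ⟨k, hk⟩ := P.isPGroup'.index (Subgroup.center (P : Subgroup X))
        rw [hk]
        refine Nat.pow_le_pow_right hpp.pos ?_
        by_contra hk2
        refine hnab p hpp hpd P (fun a ha b hb => ?_)
        have : IsCyclic ((P : Subgroup X) ⧸ Subgroup.center (P : Subgroup X)) := by
          rw [Subgroup.index_eq_card] at hk
          interval_cases k
          · have := (Nat.card_eq_one_iff_unique.mp (hk.trans (pow_zero p))).1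
            exact isCyclic_of_subsingleton
          · exact isCyclic_of_prime_card (hk.trans (pow_one p))
        exact congrArg Subtype.val (commutative_of_cyclic_center_quotient
          (QuotientGroup.mk' (Subgroup.center (P : Subgroup X))) (by simp) ⟨a, ha⟩ ⟨b, hb⟩)
      calc ((Z p P).card + 1) * p ^ 2
          ≤ Nat.card (Subgroup.center (P : Subgroup X)) * (Subgroup.center (P : Subgroup X)).index :=
            Nat.mul_le_mul h1 h2
        _ = Nat.card (P : Subgroup X) := Subgroup.card_mul_index _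
    have hsum : (((Finset.univ : Finset (Sylow p X)).biUnion (Z p)).card + n) * p ^ 2 ≤ Nat.card X := by
      refine le_trans ?_ hle
      have h1 : ((Finset.univ : Finset (Sylow p X)).biUnion (Z p)).card + n ≤
          ∑ P : Sylow p X, ((Z p P).card + 1) := by
        rw [Finset.sum_add_distrib, Finset.sum_const, smul_eq_mul, mul_one, Finset.card_univ,
          ← Nat.card_eq_fintype_card]
        exact Nat.add_le_add_right Finset.card_biUnion_le n
      refine le_trans (Nat.mul_le_mul_right _ h1) ?_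
      rw [Finset.sum_mul]
      refine le_trans (Finset.sum_le_card_nsmul _ _ _ (fun P _ => hZ P)) (le_of_eq ?_)
      rw [smul_eq_mul, Finset.card_univ, ← Nat.card_eq_fintype_card]
    have hp0 : (0 : ℚ) < (p : ℚ) ^ 2 := by have := hpp.pos; positivity
    rw [lt_div_iff₀ hp0]
    have : ((Finset.univ : Finset (Sylow p X)).biUnion (Z p)).card * p ^ 2 < Nat.card X := by
      have : 0 < n * p ^ 2 := Nat.mul_pos hn (pow_pos hpp.pos 2)
      rw [add_mul] at hsum
      omega
    exact_mod_cast this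
  obtain ⟨u, hu⟩ := exists_ne (1 : X)
  obtain ⟨p, hp, -⟩ := hsyl u hu
  have h1 : ((Nat.card X - 1 : ℕ) : ℚ) < ∑ q ∈ (Nat.card X).primeFactors, (Nat.card X : ℚ) / (q : ℚ) ^ 2 := by
    have hc := Finset.card_le_card hcover
    rw [Finset.card_compl, Finset.card_singleton, ← Nat.card_eq_fintype_card] at hc
    have := hc.trans Finset.card_biUnion_le
    refine lt_of_le_of_lt (Nat.cast_le.mpr this) ?_
    push_cast
    exact Finset.sum_lt_sum_of_nonempty ⟨p, hp⟩ hbound
  have hM : 1 ≤ Nat.card X := Nat.card_pos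
  have h2 : ∑ q ∈ (Nat.card X).primeFactors, (Nat.card X : ℚ) / (q : ℚ) ^ 2 ≤
      (Nat.card X : ℚ) * (1 - 1 / Nat.card X) := by
    refine le_trans ?_ (mul_le_mul_of_nonneg_left (sum_inv_sq_le (Nat.card X) hM) (Nat.cast_nonneg _))
    rw [Finset.mul_sum]
    simp only [mul_one_div]
    refine Finset.sum_le_sum_of_subset_of_nonneg (fun q hq => ?_) (fun q _ _ => by positivity)
    obtain ⟨hqp, hqd, -⟩ := Nat.mem_primeFactors.mp hq
    exact Finset.mem_Icc.mpr ⟨hqp.two_le, Nat.le_of_dvd Nat.card_pos hqd⟩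
  rw [Nat.cast_sub hM, Nat.cast_one] at h1
  have h3 : (Nat.card X : ℚ) * (1 - 1 / Nat.card X) = (Nat.card X : ℚ) - 1 := by
    have : (Nat.card X : ℚ) ≠ 0 := by exact_mod_cast Nat.card_pos.ne'
    field_simp
  linarith

end Cfsg.Agent.RecogB
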