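import Mathlib

/-!
Element orders in semidirect products with fixed-point-free action.
-/

set_option autoImplicit false

namespace Cfsg.Agent.RecogB

variable {V C : Type*} [CommGroup V] [Group C] (φ : C →* MulAut V)

theorem semidirect_pow_left (x : V ⋊[φ] C) : ∀ n : ℕ,
    (x ^ n).left = ∏ i ∈ Finset.range n, φ (x.right ^ i) x.left
  | 0 => by simp
  | n + 1 => by
    rw [pow_succ, SemidirectProduct.mul_left, semidirect_pow_left x n, Finset.prod_range_succ]
    congr 2
    exact congrArg φ (by
      rw [← SemidirectProduct.rightHom_eq_right, map_pow])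

theorem semidirect_pow_right (x : V ⋊[φ] C) (n : ℕ) : (x ^ n).right = x.right ^ n := by
  rw [← SemidirectProduct.rightHom_eq_right, map_pow]

/-- With a fixed-point-free action, the element orders are those of the two factors. -/
theorem range_orderOf_fpf [Finite V] [Finite C]
    (hfpf : ∀ (c : C) (v : V), c ≠ 1 → φ c v = v → v = 1) :
    Set.range (orderOf : V ⋊[φ] C → ℕ) =
      Set.range (orderOf : V → ℕ) ∪ Set.range (orderOf : C → ℕ) := by
  apply Set.Subset.antisymm
  · rintro _ ⟨x, rfl⟩
    by_cases hc : x.right = 1
    · left
      refine ⟨x.left, ?_⟩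
      have hx : x = SemidirectProduct.inl x.left := SemidirectProduct.ext rfl hc
      conv_rhs => rw [hx]
      exact (orderOf_injective SemidirectProduct.inl SemidirectProduct.inl_injective _).symm
    · right
      refine ⟨x.right, Nat.dvd_antisymm ?_ ?_⟩
      · exact orderOf_map_dvd (SemidirectProduct.rightHom (φ := φ)) x
      · refine orderOf_dvd_of_pow_eq_one (SemidirectProduct.ext ?_ ?_)
        · rw [SemidirectProduct.one_left, semidirect_pow_left]
          refine hfpf x.right _ hc ?_
          rw [map_prod]
          obtain ⟨m, hm⟩ : ∃ m, orderOf x.right = m + 1 :=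
            ⟨orderOf x.right - 1, by have := orderOf_pos x.right; omega⟩
          rw [hm]
          conv_lhs => rw [Finset.prod_range_succ]
          conv_rhs => rw [Finset.prod_range_succ']
          rw [pow_zero, map_one, MulAut.one_apply]
          congr 1
          · refine Finset.prod_congr rfl fun i _ => ?_
            rw [← MulAut.mul_apply, ← map_mul, ← pow_succ']
          · rw [← MulAut.mul_apply, ← map_mul, ← pow_succ', ← hm, pow_orderOf_eq_one, map_one,
              MulAut.one_apply]
        · rw [semidirect_pow_right, pow_orderOf_eq_one, SemidirectProduct.one_right]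
  · rintro _ (⟨v, rfl⟩ | ⟨c, rfl⟩)
    · exact ⟨SemidirectProduct.inl v,
        orderOf_injective SemidirectProduct.inl SemidirectProduct.inl_injective v⟩
    · exact ⟨SemidirectProduct.inr c,
        orderOf_injective SemidirectProduct.inr SemidirectProduct.inr_injective c⟩

end Cfsg.Agent.RecogB
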