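import Cfsg.Agent.SL2Tor.PSLOrders
import Cfsg.Agent.RecogB.FrobSpectrum
import Cfsg.Agent.Spectrum69.Basic

/-!
A module of `PSL₂(p)` in characteristic two cut out by the indicator of a trace.
-/

set_option autoImplicit false

namespace Cfsg.Agent.RecogB

open Matrix SL2Tor

variable {F : Type*} [Field F] [Fintype F]

/-- The group `PSL₂`. -/
abbrev PSLTwo (F : Type*) [Field F] : Type _ := Matrix.ProjectiveSpecialLinearGroup (Fin 2) F

/-- Functions on copies of a group whose products along cosets of subgroups of order `p` vanish. -/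
def cosetKernel (G : Type*) [Group G] (ι : Type*) (p : ℕ) :
    Subgroup (ι × G → Multiplicative (ZMod 2)) where
  carrier := {v | ∀ e : G, orderOf e = p → ∀ (c : ι) (h : G),
    ∏ i ∈ Finset.range p, v (c, e ^ i * h) = 1}
  one_mem' := fun e _ c h => by simp
  mul_mem' := fun {a b} ha hb e he c h => by
    simp only [Pi.mul_apply, Finset.prod_mul_distrib, ha e he c h, hb e he c h, mul_one]
  inv_mem' := fun {a} ha e he c h => by
    simp only [Pi.inv_apply, Finset.prod_inv_distrib, ha e he c h, inv_one]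

/-- The action of `G` on the coset kernel by left translation. -/
def kernelAct (G : Type*) [Group G] (ι : Type*) (p : ℕ) : G →* MulAut (cosetKernel G ι p) where
  toFun g :=
    { toFun := fun v => ⟨fun a => v.1 (a.1, g⁻¹ * a.2), fun e he c h => by
        have h1 := v.2 (g⁻¹ * e * g)
          (by
            have h0 := (MulAut.conj g⁻¹).orderOf_eq e
            rw [MulAut.conj_apply, inv_inv, he] at h0
            exact h0) c (g⁻¹ * h)
        rw [← h1]
        refine Finset.prod_congr rfl fun i _ => ?_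
        show v.1 (c, g⁻¹ * (e ^ i * h)) = _
        have hp : (g⁻¹ * e * g) ^ i = g⁻¹ * e ^ i * g := by
          have := conj_pow (i := i) (a := g⁻¹) (b := e)
          rwa [inv_inv] at this
        rw [hp]
        simp [mul_assoc]⟩
      invFun := fun v => ⟨fun a => v.1 (a.1, g * a.2), fun e he c h => by
        have h1 := v.2 (g * e * g⁻¹)
          (by
            have h0 := (MulAut.conj g).orderOf_eq e
            rw [MulAut.conj_apply, he] at h0
            exact h0) c (g * h)
        rw [← h1]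
        refine Finset.prod_congr rfl fun i _ => ?_
        show v.1 (c, g * (e ^ i * h)) = _
        rw [conj_pow]
        simp [mul_assoc]⟩
      left_inv := fun v => Subtype.ext (funext fun a => by simp)
      right_inv := fun v => Subtype.ext (funext fun a => by simp)
      map_mul' := fun v w => rfl }
  map_one' := MulEquiv.ext fun v => Subtype.ext (funext fun a => by simp)
  map_mul' g h := MulEquiv.ext fun v => Subtype.ext (funext fun a => by
    show v.1 (a.1, (g * h)⁻¹ * a.2) = v.1 (a.1, h⁻¹ * (g⁻¹ * a.2))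
    rw [_root_.mul_inv_rev, mul_assoc])

theorem kernelAct_apply {G : Type*} [Group G] {ι : Type*} {p : ℕ} (g : G)
    (v : cosetKernel G ι p) (c : ι) (h : G) :
    (kernelAct G ι p g v).1 (c, h) = v.1 (c, g⁻¹ * h) := rfl

theorem exists_elliptic_trace (h5 : 5 ≤ Fintype.card F) (h2 : (2 : F) ≠ 0) :
    ∃ τ : F, τ ≠ 0 ∧ ∀ l : F, l ^ 2 - τ * l + 1 ≠ 0 := by
  classical
  by_contra hc
  push Not at hc
  have hsub : (Finset.univ.filter fun t : F => t ≠ 0) ⊆
      (Finset.univ : Finset Fˣ).image fun u : Fˣ => (u : F) + ((u⁻¹ : Fˣ) : F) := by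
    intro t ht
    rw [Finset.mem_filter] at ht
    obtain ⟨l, hl⟩ := hc t ht.2
    have hl0 : l ≠ 0 := by rintro rfl; simp at hl
    refine Finset.mem_image.2 ⟨Units.mk0 l hl0, Finset.mem_univ _, ?_⟩
    rw [Units.val_mk0, Units.val_inv_eq_inv_val, Units.val_mk0]
    field_simp
    linear_combination hl
  have hcard : (Finset.univ : Finset Fˣ).card ≤
      ((Finset.univ : Finset Fˣ).image fun u : Fˣ => (u : F) + ((u⁻¹ : Fˣ) : F)).card := by
    refine le_trans (le_of_eq ?_) (Finset.card_le_card hsub)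
    rw [Finset.card_univ, Fintype.card_units, Finset.filter_ne', Finset.card_erase_of_mem (Finset.mem_univ _),
      Finset.card_univ]
  have hinj := Finset.card_image_iff.1 (le_antisymm Finset.card_image_le hcard)
  rw [Finset.coe_univ] at hinj
  -- a unit different from its inverse
  obtain ⟨u, hu⟩ : ∃ u : Fˣ, u ≠ u⁻¹ := by
    by_contra hall
    push Not at hall
    have : (Finset.univ : Finset Fˣ) ⊆ {1, -1} := fun u _ => by
      have h1 : (u : F) * (u : F) = 1 := by
        have := mul_inv_cancel u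
        rw [← hall u] at this
        rw [← Units.val_mul, this, Units.val_one]
      rcases mul_self_eq_one_iff.1 h1 with e | e
      · simp [show u = 1 from Units.ext (by simpa using e)]
      · simp [show u = -1 from Units.ext (by simpa using e)]
    have h3 := (Finset.card_le_card this).trans Finset.card_le_two
    rw [Finset.card_univ, Fintype.card_units] at h3
    omega
  exact hu (hinj trivial trivial (by simp [add_comm]))

/-- The indicator of the elements of trace `±τ`. -/
noncomputable def traceInd (τ : F) (g : PSLTwo F) : Multiplicative (ZMod 2) :=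
  open scoped Classical in
  if ∃ A : Matrix.SpecialLinearGroup (Fin 2) F, (QuotientGroup.mk A : PSLTwo F) = g ∧
      (A : Matrix (Fin 2) (Fin 2) F).trace = τ then Multiplicative.ofAdd 1 else 1

theorem mk_eq_mk_iff (A B : Matrix.SpecialLinearGroup (Fin 2) F) :
    (QuotientGroup.mk A : PSLTwo F) = QuotientGroup.mk B ↔ B = A ∨ B = -A := by
  constructor
  · intro h
    have h' := QuotientGroup.eq.1 h
    rw [← isScalar_iff_mem_center] at h'
    obtain ⟨C, hC⟩ : ∃ C, C = A⁻¹ * B := ⟨_, rfl⟩
    have hB : B = A * C := by rw [hC, mul_inv_cancel_left]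
    rw [← hC] at h'
    obtain ⟨s1, s2, s3⟩ := h'
    have hd := C.2
    rw [det_fin_two, s1, s2, s3] at hd
    rcases mul_self_eq_one_iff.1 (show (C : Matrix (Fin 2) (Fin 2) F) 1 1 *
        (C : Matrix (Fin 2) (Fin 2) F) 1 1 = 1 by linear_combination hd) with e | e
    · left
      rw [hB, show C = 1 from Subtype.ext (by
        ext i j; fin_cases i <;> fin_cases j <;> simp [s1, s2, s3, e]), mul_one]
    · right
      rw [hB, show C = -1 from Subtype.ext (by
        ext i j; fin_cases i <;> fin_cases j <;> simp [s1, s2, s3, e])]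
      exact Subtype.ext (by simp)
  · rintro (rfl | rfl)
    · rfl
    · exact (psl_mk_neg A).symm

theorem traceInd_mk (τ : F) (A : Matrix.SpecialLinearGroup (Fin 2) F) [DecidableEq F] :
    traceInd τ (QuotientGroup.mk A) =
      if (A : Matrix (Fin 2) (Fin 2) F).trace = τ ∨ (A : Matrix (Fin 2) (Fin 2) F).trace = -τ
      then Multiplicative.ofAdd 1 else 1 := by
  have key : (∃ B : Matrix.SpecialLinearGroup (Fin 2) F,
      (QuotientGroup.mk B : PSLTwo F) = QuotientGroup.mk A ∧
      (B : Matrix (Fin 2) (Fin 2) F).trace = τ) ↔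
      ((A : Matrix (Fin 2) (Fin 2) F).trace = τ ∨ (A : Matrix (Fin 2) (Fin 2) F).trace = -τ) := by
    constructor
    · rintro ⟨B, hB, hτ⟩
      rcases (mk_eq_mk_iff B A).1 hB with rfl | rfl
      · exact Or.inl hτ
      · right; rw [trace_neg', hτ]
    · rintro (h | h)
      · exact ⟨A, rfl, h⟩
      · exact ⟨-A, psl_mk_neg A, by rw [trace_neg', h, neg_neg]⟩
  unfold traceInd
  by_cases h : (A : Matrix (Fin 2) (Fin 2) F).trace = τ ∨ (A : Matrix (Fin 2) (Fin 2) F).trace = -τ
  · rw [if_pos h, if_pos (key.2 h)]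
  · rw [if_neg h, if_neg fun h' => h (key.1 h')]

/-- An element of order `p` lifts to `1 + N` with `N² = 0`. -/
theorem exists_unipotent_lift {p : ℕ} [hp : Fact p.Prime] [CharP F p] (hF : Fintype.card F = p)
    (e : PSLTwo F) (he : orderOf e = p) :
    ∃ E : Matrix.SpecialLinearGroup (Fin 2) F, (QuotientGroup.mk E : PSLTwo F) = e ∧
      (E : Matrix (Fin 2) (Fin 2) F) ≠ 1 ∧
      ((E : Matrix (Fin 2) (Fin 2) F) - 1) * ((E : Matrix (Fin 2) (Fin 2) F) - 1) = 0 := by
  obtain ⟨A, rfl⟩ := QuotientGroup.mk_surjective e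
  have h1 : (QuotientGroup.mk A : PSLTwo F) ^ p = 1 := by rw [← he]; exact pow_orderOf_eq_one _
  rw [← QuotientGroup.mk_pow, psl_mk_eq_one_iff] at h1
  have hns : ¬ IsScalar (A : Matrix (Fin 2) (Fin 2) F) := fun h => hp.out.ne_one
    (he.symm.trans (orderOf_eq_one_iff.2 ((psl_mk_eq_one_iff A).2 h)))
  obtain ⟨s1, s2, s3⟩ := h1
  set c := ((A ^ p : Matrix.SpecialLinearGroup (Fin 2) F) : Matrix (Fin 2) (Fin 2) F) 1 1 with hc
  have hAp : (A : Matrix (Fin 2) (Fin 2) F) ^ p = algebraMap F _ c := by
    rw [← Matrix.SpecialLinearGroup.coe_pow]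
    ext i j
    fin_cases i <;> fin_cases j <;> simp [Matrix.algebraMap_matrix_apply, s1, s2, s3, hc]
  have hcd : c * c = 1 := by
    have := congrArg Matrix.det hAp
    rw [Matrix.det_pow, A.2, one_pow, Algebra.algebraMap_eq_smul_one, Matrix.det_smul, det_one,
      mul_one, Fintype.card_fin] at this
    linear_combination -this
  have hcp : c ^ p = c := by rw [← hF]; exact FiniteField.pow_card c
  have hnil : IsNilpotent ((A : Matrix (Fin 2) (Fin 2) F) - algebraMap F _ c) := by
    refine ⟨p, ?_⟩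
    rw [sub_pow_char_of_commute _ (Algebra.commute_algebraMap_right c _), ← map_pow, hcp, hAp, sub_self]
  have hN2 : ((A : Matrix (Fin 2) (Fin 2) F) - algebraMap F _ c) *
      ((A : Matrix (Fin 2) (Fin 2) F) - algebraMap F _ c) = 0 := by
    rw [two_sq, (Matrix.isNilpotent_trace_of_isNilpotent hnil).eq_zero]
    obtain ⟨k, hk⟩ := hnil
    have hd := congrArg Matrix.det hk
    rw [Matrix.det_pow, Matrix.det_zero] at hd
    rw [eq_zero_of_pow_eq_zero hd, zero_smul, zero_smul, sub_zero]
  have hsgn : ∃ E : Matrix.SpecialLinearGroup (Fin 2) F, (QuotientGroup.mk E : PSLTwo F) =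
      QuotientGroup.mk A ∧ (E : Matrix (Fin 2) (Fin 2) F) = c • (A : Matrix (Fin 2) (Fin 2) F) := by
    rcases mul_self_eq_one_iff.1 hcd with e | e
    · exact ⟨A, rfl, by rw [e, one_smul]⟩
    · exact ⟨-A, psl_mk_neg A, by rw [e, Matrix.SpecialLinearGroup.coe_neg, neg_one_smul]⟩
  obtain ⟨E, hE1, hE2⟩ := hsgn
  refine ⟨E, hE1, fun h => hns ?_, ?_⟩
  · have : (A : Matrix (Fin 2) (Fin 2) F) = c • 1 := by
      rw [← h, hE2, smul_smul, hcd, one_smul]
    rw [this]; exact isScalar_smul_one c
  · have : (E : Matrix (Fin 2) (Fin 2) F) - 1 =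
        c • ((A : Matrix (Fin 2) (Fin 2) F) - algebraMap F _ c) := by
      rw [hE2, smul_sub, Algebra.algebraMap_eq_smul_one, smul_smul, hcd, one_smul]
    rw [this, smul_mul_assoc, mul_smul_comm, hN2, smul_zero, smul_zero]

/-- The indicator of an elliptic trace lies in the coset kernel. -/
theorem prod_traceInd {p : ℕ} [hp : Fact p.Prime] [CharP F p] (hF : Fintype.card F = p)
    (h2 : (2 : F) ≠ 0) {τ : F} (hτ0 : τ ≠ 0) (hτ : ∀ l : F, l ^ 2 - τ * l + 1 ≠ 0)
    (e h : PSLTwo F) (he : orderOf e = p) :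
    ∏ i ∈ Finset.range p, traceInd τ (e ^ i * h) = 1 := by
  classical
  obtain ⟨E, rfl, hE1, hE2⟩ := exists_unipotent_lift hF e he
  obtain ⟨H, rfl⟩ := QuotientGroup.mk_surjective h
  set N := (E : Matrix (Fin 2) (Fin 2) F) - 1 with hN
  set M := (H : Matrix (Fin 2) (Fin 2) F) with hM
  have hEN : (E : Matrix (Fin 2) (Fin 2) F) = 1 + N := by rw [hN]; abel
  have hpow : ∀ i : ℕ, (E : Matrix (Fin 2) (Fin 2) F) ^ i = 1 + (i : F) • N := by
    intro i
    induction i with
    | zero => simp
    | succ i ih =>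
      rw [pow_succ, ih, hEN, add_mul, one_mul, mul_add, mul_one, smul_mul_assoc, hE2, smul_zero,
        add_zero, Nat.cast_succ, add_smul, one_smul]
      abel
  have htr : ∀ i : ℕ, traceInd τ ((QuotientGroup.mk E : PSLTwo F) ^ i * QuotientGroup.mk H) =
      if M.trace + (i : F) * (N * M).trace = τ ∨ M.trace + (i : F) * (N * M).trace = -τ
      then Multiplicative.ofAdd 1 else 1 := by
    intro i
    rw [← QuotientGroup.mk_pow, ← QuotientGroup.mk_mul, traceInd_mk, Matrix.SpecialLinearGroup.coe_mul,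
      Matrix.SpecialLinearGroup.coe_pow, hpow, ← hM]
    simp [add_mul, trace_add, trace_smul]
  simp_rw [htr]
  by_cases hb : (N * M).trace = 0
  · -- the coset avoids both traces
    have hNe : N 1 1 = -N 0 0 ∧ N 0 0 * N 0 0 + N 0 1 * N 1 0 = 0 := by
      have h1 : IsNilpotent N := ⟨2, by rw [pow_two, hE2]⟩
      have h3 := (Matrix.isNilpotent_trace_of_isNilpotent h1).eq_zero
      rw [trace_fin_two] at h3
      have h4 := congrFun (congrFun hE2 0) 0
      simp [Matrix.mul_apply, Fin.sum_univ_two] at h4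
      exact ⟨by linear_combination h3, h4⟩
    obtain ⟨hd1, hd2⟩ := hNe
    have hdet : M 0 0 * M 1 1 - M 0 1 * M 1 0 = 1 := by rw [← det_fin_two]; exact H.2
    have hb' : N 0 0 * M 0 0 + N 0 1 * M 1 0 + (N 1 0 * M 0 1 + N 1 1 * M 1 1) = 0 := by
      rw [← hb, trace_fin_two]; simp [Matrix.mul_apply, Fin.sum_univ_two]
    rw [hd1] at hb'
    have hsq : ∃ s : F, s ^ 2 = M.trace ^ 2 - 4 := by
      rw [trace_fin_two]
      by_cases hb1 : N 0 1 = 0
      · have ha : N 0 0 = 0 := by
          have : N 0 0 * N 0 0 = 0 := by rw [hb1] at hd2; linear_combination hd2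
          exact mul_self_eq_zero.1 this
        have hc : N 1 0 ≠ 0 := by
          intro hc
          refine hE1 ?_
          have hN0 : N = 0 := by
            ext i j; fin_cases i <;> fin_cases j <;> simp [ha, hb1, hc, hd1]
          rw [hEN, hN0, add_zero]
        have hy : M 0 1 = 0 := by
          rw [ha, hb1] at hb'
          simpa [hc] using hb'
        refine ⟨M 0 0 - M 1 1, ?_⟩
        rw [hy] at hdet
        linear_combination (-4) * hdet
      · obtain ⟨r, hr⟩ : ∃ r, N 0 0 = r * N 0 1 := ⟨N 0 0 / N 0 1, by field_simp⟩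
        have hc : N 1 0 = -(r * r) * N 0 1 := by
          have : N 0 1 * (N 1 0 + r * r * N 0 1) = 0 := by rw [hr] at hd2; linear_combination hd2
          have := (mul_eq_zero.1 this).resolve_left hb1
          linear_combination this
        have hz : M 1 0 = r * r * M 0 1 - r * (M 0 0 - M 1 1) := by
          have : N 0 1 * (M 1 0 - (r * r * M 0 1 - r * (M 0 0 - M 1 1))) = 0 := by
            rw [hr, hc] at hb'; linear_combination hb'
          exact sub_eq_zero.1 ((mul_eq_zero.1 this).resolve_left hb1)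
        refine ⟨M 0 0 - M 1 1 - 2 * r * M 0 1, ?_⟩
        rw [hz] at hdet
        linear_combination (-4) * hdet
    obtain ⟨s, hs⟩ := hsq
    refine Finset.prod_eq_one fun i _ => if_neg ?_
    rw [hb, mul_zero, add_zero]
    have h4 : (4 : F) ≠ 0 := by
      have := mul_ne_zero h2 h2
      norm_num at this
      exact this
    rintro (e | e)
    · rw [e] at hs
      refine hτ ((τ + s) / 2) ?_
      field_simp
      linear_combination hs
    · rw [e] at hs
      refine hτ ((τ + s) / 2) ?_
      field_simp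
      linear_combination hs
  · -- each trace is met once
    let f : Fin p → F := fun i => M.trace + (i.1 : F) * (N * M).trace
    have hfb : Function.Bijective f := by
      refine (Fintype.bijective_iff_injective_and_card f).2 ⟨fun i j hij => ?_, by rw [Fintype.card_fin, hF]⟩
      have h' : (i.1 : F) = (j.1 : F) := mul_right_cancel₀ hb (add_left_cancel hij)
      rw [CharP.natCast_eq_natCast F p] at h'
      exact Fin.ext (by simpa [Nat.ModEq, Nat.mod_eq_of_lt i.2, Nat.mod_eq_of_lt j.2] using h')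
    rw [Finset.prod_range fun i => if M.trace + (i : F) * (N * M).trace = τ ∨
      M.trace + (i : F) * (N * M).trace = -τ then Multiplicative.ofAdd (1 : ZMod 2) else 1]
    rw [Function.Bijective.prod_comp hfb fun x => if x = τ ∨ x = -τ then Multiplicative.ofAdd (1 : ZMod 2) else 1]
    rw [← Finset.prod_filter, Finset.prod_const]
    have hset : (Finset.univ.filter fun x : F => x = τ ∨ x = -τ) = {τ, -τ} := by ext x; simp
    rw [hset, Finset.card_pair (fun h => ?_)]
    · decide
    · have : (2 : F) * τ = 0 := by linear_combination h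
      exact mul_ne_zero h2 hτ0 this

/-- A translate of the indicator has non-trivial product along a torus. -/
theorem exists_torus_prod {p : ℕ} [hp : Fact p.Prime] [CharP F p] (h2 : (2 : F) ≠ 0)
    {τ : F} (hτ0 : τ ≠ 0) (hτ : ∀ l : F, l ^ 2 - τ * l + 1 ≠ 0) (g : PSLTwo F) (hk : ¬ p ∣ orderOf g)
    (hg1 : g ≠ 1) :
    ∃ h : PSLTwo F, ∏ i ∈ Finset.range (orderOf g), traceInd τ (g ^ i * h) =
      Multiplicative.ofAdd (1 : ZMod 2) := by
  classical
  obtain ⟨A, rfl⟩ := QuotientGroup.mk_surjective g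
  set k := orderOf (QuotientGroup.mk A : PSLTwo F) with hkdef
  have hns : ¬ IsScalar (A : Matrix (Fin 2) (Fin 2) F) := fun h => hg1 ((psl_mk_eq_one_iff A).2 h)
  have hA4 : (A : Matrix (Fin 2) (Fin 2) F).trace ^ 2 ≠ 4 :=
    trace_sq_ne_four p A hns (fun h => hk (h ▸ dvd_refl p))
  have hτ4 : τ ^ 2 ≠ 4 := fun h => hτ (τ / 2) (by field_simp; linear_combination -h)
  obtain ⟨B, hB⟩ : ∃ B : Matrix.SpecialLinearGroup (Fin 2) F,
      (B : Matrix (Fin 2) (Fin 2) F) = comp2 τ := ⟨⟨_, by simp [comp2, det_fin_two_of]⟩, rfl⟩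
  have hBt : (B : Matrix (Fin 2) (Fin 2) F).trace = τ := by rw [hB]; simp [comp2, trace_fin_two]
  obtain ⟨x, hx⟩ := exists_trace_mul A B hA4 (by rw [hBt]; exact hτ4)
    (τ / 2 * (A : Matrix (Fin 2) (Fin 2) F).trace)
  obtain ⟨H, hH⟩ : ∃ H, H = x * B * x⁻¹ := ⟨_, rfl⟩
  rw [← hH, Matrix.SpecialLinearGroup.coe_mul] at hx
  have hHt : (H : Matrix (Fin 2) (Fin 2) F).trace = τ := by rw [hH, SL2Tor.trace_conj, hBt]
  set a := (A : Matrix (Fin 2) (Fin 2) F) with ha
  have hlin : ∀ i : ℕ, ∃ u v : F, a ^ i = u • 1 + v • a := by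
    intro i
    induction i with
    | zero => exact ⟨1, 0, by simp⟩
    | succ i ih =>
      obtain ⟨u, v, h⟩ := ih
      refine ⟨-v, u + v * a.trace, ?_⟩
      rw [pow_succ, h, add_mul, smul_mul_assoc, one_mul, smul_mul_assoc, two_sq a,
        show a.det = 1 from A.2, one_smul, smul_sub, smul_smul, add_smul, neg_smul]
      abel
  have htrpow : ∀ i : ℕ, ((A ^ i * H : Matrix.SpecialLinearGroup (Fin 2) F) :
      Matrix (Fin 2) (Fin 2) F).trace =
      τ / 2 * ((A ^ i : Matrix.SpecialLinearGroup (Fin 2) F) : Matrix (Fin 2) (Fin 2) F).trace := by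
    intro i
    obtain ⟨u, v, h⟩ := hlin i
    rw [Matrix.SpecialLinearGroup.coe_mul, Matrix.SpecialLinearGroup.coe_pow, ← ha, h, add_mul,
      smul_mul_assoc, one_mul, smul_mul_assoc, trace_add, trace_smul, trace_smul, trace_add,
      trace_smul, trace_smul, Matrix.trace_one, hHt, hx]
    simp only [smul_eq_mul, Fintype.card_fin, Nat.cast_ofNat]
    field_simp
  refine ⟨QuotientGroup.mk H, ?_⟩
  rw [Finset.prod_eq_single 0]
  · rw [pow_zero, one_mul, traceInd_mk, if_pos (Or.inl hHt)]
  · intro i hi hi0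
    rw [Finset.mem_range] at hi
    rw [← QuotientGroup.mk_pow, ← QuotientGroup.mk_mul, traceInd_mk, if_neg]
    have hne : (QuotientGroup.mk (A ^ i) : PSLTwo F) ≠ 1 := by
      rw [QuotientGroup.mk_pow]
      exact pow_ne_one_of_lt_orderOf hi0 hi
    have h4 := trace_sq_ne_four p (A ^ i) (fun h => hne ((psl_mk_eq_one_iff _).2 h)) (fun h => hk (by
      rw [← h, QuotientGroup.mk_pow]; exact orderOf_pow_dvd i))
    have hτ2 : τ / 2 ≠ 0 := div_ne_zero hτ0 h2
    rw [htrpow]
    set T := ((A ^ i : Matrix.SpecialLinearGroup (Fin 2) F) : Matrix (Fin 2) (Fin 2) F).trace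
    rintro (e | e)
    · have : T = 2 := mul_left_cancel₀ hτ2 (by rw [e]; field_simp)
      exact h4 (by rw [this]; norm_num)
    · have : T = -2 := mul_left_cancel₀ hτ2 (by rw [e]; field_simp)
      exact h4 (by rw [this]; norm_num)
  · intro h
    exact absurd (Finset.mem_range.2 (orderOf_pos _)) h

end Cfsg.Agent.RecogB
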