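import Cfsg.Agent.Lib.Unitary.Center
import Cfsg.Agent.Lib.Unitary.Generation

/-!
Involutions of `PSU₆(2)` lift to involutions in any extension by a central subgroup of order two.

The transvections attached to the points of a totally isotropic subspace generate an elementary
abelian subgroup; on it the squaring map of the extension is a quadratic form, invariant under
conjugation, and the relation between the five points of an isotropic line makes it vanish.
-/

set_option autoImplicit false

namespace Cfsg.Agent.RecogB.CoverInvolution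

open Matrix Cfsg.Agent.Unitary

variable {F : Type*} [Field F] [Fintype F] (hF : Fintype.card F = 2 ^ 2)

include hF

theorem two_eq_zero : (2 : F) = 0 := by
  obtain ⟨p, k, hp, hk, hc, hq⟩ := exists_prime_pow hF
  have : p = 2 := by
    have h2 : p ∣ 2 := hq ▸ dvd_pow_self p hk.ne'
    exact (Nat.prime_dvd_prime_iff_eq hp Nat.prime_two).1 h2
  subst this
  exact CharTwo.two_eq_zero

theorem one_trace : (1 : F) + 1 ^ 2 = 0 := by rw [one_pow, one_add_one_eq_two, two_eq_zero hF]

theorem eq_one_or (x : F) (hx : x ^ 2 = x) : x = 0 ∨ x = 1 := by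
  have : x * (x - 1) = 0 := by linear_combination hx
  rcases mul_eq_zero.1 this with h | h
  · exact Or.inl h
  · exact Or.inr (sub_eq_zero.1 h)

theorem exists_omega : ∃ w : F, w ^ 2 + w + 1 = 0 ∧ w ≠ 0 := by
  classical
  obtain ⟨w, hw0, hw1⟩ : ∃ w : F, w ≠ 0 ∧ w ≠ 1 := by
    by_contra hc
    push Not at hc
    have : (Finset.univ : Finset F) ⊆ {0, 1} := fun x _ => by
      by_cases h : x = 0
      · simp [h]
      · simp [hc x h]
    have h2 := (Finset.card_le_card this).trans Finset.card_le_two
    rw [Finset.card_univ, hF] at h2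
    norm_num at h2
  refine ⟨w, ?_, hw0⟩
  have h4 : w ^ 4 = w := by
    have := FiniteField.pow_card w
    rw [hF] at this
    exact this
  have : w * (w - 1) * (w ^ 2 + w + 1) = 0 := by linear_combination h4
  rcases mul_eq_zero.1 this with h | h
  · rcases mul_eq_zero.1 h with h | h
    · exact absurd h hw0
    · exact absurd (sub_eq_zero.1 h) hw1
  · exact h

/-- The transvection at an isotropic vector. -/
abbrev T {u : Fin 6 → F} (hu : herm 2 u u = 0) : SU 6 F 2 := tv hF hu (one_trace hF)

theorem T_smul {u : Fin 6 → F} (hu : herm 2 u u = 0) (x : Fin 6 → F) :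
    T hF hu • x = x + herm 2 x u • u := by
  rw [tv_smul, one_mul]

theorem T_congr {u u' : Fin 6 → F} (hu : herm 2 u u = 0) (hu' : herm 2 u' u' = 0) (h : u = u') :
    T hF hu = T hF hu' := by subst h; rfl

/-- Adjusting the determinant of an isometry fixing two vectors. -/
theorem exists_SU_of_GU (g : GU 6 F 2) {a b : Fin 6 → F} (i : Fin 6) (ha : a i = 0) (hb : b i = 0)
    {u w : Fin 6 → F} (hgu : g • u = a) (hgw : g • w = b) :
    ∃ s : SU 6 F 2, s • u = a ∧ s • w = b := by
  classical
  set M : Matrix (Fin 6) (Fin 6) F := ((g : GL (Fin 6) F) : Matrix (Fin 6) (Fin 6) F) with hM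
  have hform : ∀ x y, herm 2 (M *ᵥ x) (M *ᵥ y) = herm 2 x y := fun x y => herm_smul_GU g x y
  have hd : M.det ≠ 0 := det_ne_zero_of_form hF M hform
  have hd3 : M.det ^ 3 = 1 := by
    have := FiniteField.pow_card_sub_one_eq_one _ hd
    rw [hF] at this
    exact this
  set c := M.det⁻¹ with hc
  have hc3 : c ^ 3 = 1 := by rw [hc, inv_pow, hd3, inv_one]
  let D : Matrix (Fin 6) (Fin 6) F := Matrix.diagonal fun j => if j = i then c else 1
  have hD : ∀ x : Fin 6 → F, ∀ j, (D *ᵥ x) j = (if j = i then c else 1) * x j := fun x j =>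
    Matrix.mulVec_diagonal _ _ _
  have hDform : ∀ x y, herm 2 (D *ᵥ x) (D *ᵥ y) = herm 2 x y := by
    intro x y
    simp only [herm, hermForm, hD]
    refine Finset.sum_congr rfl fun j _ => ?_
    split_ifs
    · linear_combination (x j * y j ^ 2) * hc3
    · ring
  have hdet : (D * M).det = 1 := by
    rw [Matrix.det_mul, Matrix.det_diagonal, Finset.prod_ite_eq' Finset.univ i fun _ => c]
    simp [hc, hd]
  refine ⟨⟨⟨D * M, hdet⟩, fun x y => ?_⟩, ?_, ?_⟩
  · show herm 2 ((D * M) *ᵥ x) ((D * M) *ᵥ y) = herm 2 x y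
    rw [← Matrix.mulVec_mulVec, ← Matrix.mulVec_mulVec, hDform, hform]
  · show (D * M) *ᵥ u = a
    rw [← Matrix.mulVec_mulVec, show M *ᵥ u = a from hgu]
    funext j
    rw [hD]
    split_ifs with h
    · rw [h, ha, mul_zero]
    · rw [one_mul]
  · show (D * M) *ᵥ w = b
    rw [← Matrix.mulVec_mulVec, show M *ᵥ w = b from hgw]
    funext j
    rw [hD]
    split_ifs with h
    · rw [h, hb, mul_zero]
    · rw [one_mul]

/-- `SU₆(2)` is transitive on independent orthogonal pairs of isotropic vectors. -/
theorem exists_pair_move {u w : Fin 6 → F} (hu : herm 2 u u = 0) (hw : herm 2 w w = 0)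
    (huw : herm 2 u w = 0) (hind : LinearIndependent F ![u, w]) :
    ∃ s : SU 6 F 2, s • u = eI 0 + eI 1 ∧ s • w = eI 2 + eI 3 := by
  classical
  set a : Fin 6 → F := eI 0 + eI 1 with ha
  set b : Fin 6 → F := eI 2 + eI 3 with hb
  have h2 := two_eq_zero hF
  have haa : herm 2 a a = 0 := by
    simp [ha, herm_add_left, herm_add_right hF, herm_eI_eI hF, one_add_one_eq_two, h2]
  have hbb : herm 2 b b = 0 := by
    simp [hb, herm_add_left, herm_add_right hF, herm_eI_eI hF, one_add_one_eq_two, h2]
  have hab : herm 2 a b = 0 := by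
    simp [ha, hb, herm_add_left, herm_add_right hF, herm_eI_eI hF]
  set B := Module.Basis.span hind
  obtain ⟨f, hf⟩ := LinearMap.exists_extend (B.constr F ![a, b])
  have hfu : f u = a := by
    have := LinearMap.congr_fun hf (B 0)
    rw [Module.Basis.constr_basis, LinearMap.comp_apply, Submodule.subtype_apply,
      Module.Basis.span_apply] at this
    simpa using this
  have hfw : f w = b := by
    have := LinearMap.congr_fun hf (B 1)
    rw [Module.Basis.constr_basis, LinearMap.comp_apply, Submodule.subtype_apply,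
      Module.Basis.span_apply] at this
    simpa using this
  have hspan : ∀ v ∈ Submodule.span F (Set.range ![u, w]), ∃ x y : F, v = x • u + y • w := by
    intro v hv
    rw [Submodule.mem_span_range_iff_exists_fun] at hv
    obtain ⟨c, rfl⟩ := hv
    exact ⟨c 0, c 1, by simp [Fin.sum_univ_two]⟩
  obtain ⟨g, -, hg⟩ := exists_fixGU_of_map hF (∅ : Finset (Fin 6))
    (Submodule.span F (Set.range ![u, w])) f (by simp) (by simp)
    (fun v hv h0 => by
      obtain ⟨x, y, rfl⟩ := hspan v hv
      rw [map_add, map_smul, map_smul, hfu, hfw] at h0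
      have h00 := congrFun h0 0
      have h02 := congrFun h0 2
      simp [ha, hb, eI] at h00 h02
      simp [h00, h02])
    (fun v hv v' hv' => by
      obtain ⟨x, y, rfl⟩ := hspan v hv
      obtain ⟨x', y', rfl⟩ := hspan v' hv'
      simp only [map_add, map_smul, hfu, hfw, herm_add_left, herm_add_right hF, herm_smul_left,
        herm_smul_right hF, haa, hbb, hab, hu, hw, huw, (herm_eq_zero_comm hF).1 hab,
        (herm_eq_zero_comm hF).1 huw])
  refine exists_SU_of_GU hF g 4 (by simp [ha, eI]) (by simp [hb, eI]) ?_ ?_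
  · exact (hg u (Submodule.subset_span ⟨0, rfl⟩)).trans hfu
  · exact (hg w (Submodule.subset_span ⟨1, rfl⟩)).trans hfw

/-- The five points of an isotropic line. -/
theorem line_relation {u w : Fin 6 → F} (hu : herm 2 u u = 0) (hw : herm 2 w w = 0)
    (huw : herm 2 u w = 0) {ω : F} (hω : ω ^ 2 + ω + 1 = 0)
    (h1 : herm 2 (u + w) (u + w) = 0) (h2 : herm 2 (u + ω • w) (u + ω • w) = 0)
    (h3 : herm 2 (u + (ω ^ 2) • w) (u + (ω ^ 2) • w) = 0) :
    T hF hu * T hF hw * T hF h1 * T hF h2 * T hF h3 = 1 := by
  refine eq_of_smul_eq_SU fun x => ?_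
  have hwu := (herm_eq_zero_comm hF).1 huw
  have t2 := two_eq_zero hF
  rw [one_smul]
  simp only [mul_smul, T_smul, herm_add_left, herm_add_right hF, herm_smul_left,
    herm_smul_right hF, hu, hw, huw, hwu, mul_zero, zero_mul, add_zero, zero_smul]
  funext k
  simp only [Pi.add_apply, Pi.smul_apply, smul_eq_mul]
  set A := herm 2 x u
  set B := herm 2 x w
  linear_combination (2 * A * u k + 2 * B * w k) * t2 +
    (A * w k + B * u k * (ω ^ 2 - ω + 1) + B * w k * ((ω - 1) * (ω ^ 3 + 2))) * hω

section

variable {C : Type*} [Group C] (π : C →* PSU 6 F 2) (hπ : Function.Surjective π) (d : C)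
  (hker : ∀ c, π c = 1 ↔ c = 1 ∨ c = d) (hdd : d * d = 1) (hdc : ∀ c : C, c * d = d * c)

/-- The image of an element of `SU₆(2)`. -/
abbrev im (g : SU 6 F 2) : PSU 6 F 2 := QuotientGroup.mk g

include hker in
omit hF [Fintype F] in
theorem lift_eq {y y' : C} (h : π y = π y') : y' = y ∨ y' = y * d := by
  have : π (y⁻¹ * y') = 1 := by rw [map_mul, map_inv, h, inv_mul_cancel]
  rcases (hker _).1 this with e | e
  · exact Or.inl (inv_mul_eq_one.1 e).symm
  · exact Or.inr (inv_mul_eq_iff_eq_mul.1 e)

include hker hdd hdc in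
omit hF [Fintype F] in
theorem sq_indep {y y' : C} (h : π y = π y') : y' * y' = y * y := by
  rcases lift_eq π d hker h with rfl | rfl
  · rfl
  · rw [mul_assoc, ← mul_assoc d, ← hdc y, mul_assoc, hdd, mul_one]

include hker hdc in
omit hF [Fintype F] in
theorem comm_indep {y y' z z' : C} (h : π y = π y') (h' : π z = π z') (hc : Commute y z) :
    Commute y' z' := by
  have hd : ∀ c, Commute d c := fun c => (hdc c).symm
  rcases lift_eq π d hker h with rfl | rfl <;> rcases lift_eq π d hker h' with rfl | rfl
  · exact hc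
  · exact hc.mul_right ((hd _).symm)
  · exact hc.mul_left (hd _)
  · exact (hc.mul_left (hd _)).mul_right ((hd _).symm)

include hπ hker hdd hdc in
omit [Fintype F] hF in
theorem commutator_mem {g h : SU 6 F 2} (hgh : g * h = h * g) {y z : C} (hy : π y = im g)
    (hz : π z = im h) : y * z = z * y ∨ y * z = z * y * d := by
  have : π (z * y) = π (y * z) := by
    simp only [map_mul, hy, hz, im, ← QuotientGroup.mk_mul, hgh]
  exact lift_eq π d hker this

include hπ hker hdd hdc in
/-- Orthogonal transvections lift to commuting elements. -/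
theorem commute_lifts {u w : Fin 6 → F} (hu : herm 2 u u = 0) (hw : herm 2 w w = 0)
    (huw : herm 2 u w = 0) {y z : C} (hy : π y = im (T hF hu)) (hz : π z = im (T hF hw)) :
    Commute y z := by
  classical
  have hd : ∀ c, Commute d c := fun c => (hdc c).symm
  by_cases hind : LinearIndependent F ![u, w]
  swap
  · -- proportional vectors
    rw [LinearIndependent.pair_iff] at hind
    push Not at hind
    obtain ⟨s, t, hst, hne⟩ := hind
    by_cases hu0 : u = 0
    · have : T hF hu = 1 := eq_of_smul_eq_SU fun x => by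
        rw [T_smul, hu0, smul_zero, add_zero, one_smul]
      have h1 : π 1 = π y := by rw [hy, this, map_one]; rfl
      exact comm_indep π d hker hdc h1 (rfl : π z = π z) (Commute.one_left z)
    have ht : t ≠ 0 := by
      rintro rfl
      rw [zero_smul, add_zero, smul_eq_zero] at hst
      exact hne (hst.resolve_right hu0) rfl
    have hwu : w = (-(s / t)) • u := by
      have h' : t • w = -(s • u) := eq_neg_of_add_eq_zero_right hst
      rw [← inv_smul_smul₀ ht w, h', smul_neg, smul_smul, ← neg_smul]
      congr 1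
      field_simp
    by_cases hs : -(s / t) = 0
    · have : T hF hw = 1 := eq_of_smul_eq_SU fun x => by
        rw [T_smul, hwu, hs, zero_smul, smul_zero, add_zero, one_smul]
      have h1 : π 1 = π z := by rw [hz, this, map_one]; rfl
      exact comm_indep π d hker hdc (rfl : π y = π y) h1 (Commute.one_right y)
    · have : T hF hw = T hF hu := eq_of_smul_eq_SU fun x => by
        rw [T_smul, T_smul, hwu, herm_smul_right hF, smul_smul]
        congr 2
        have h3 : (-(s / t)) ^ 3 = 1 := by
          have := FiniteField.pow_card_sub_one_eq_one _ hs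
          rw [hF] at this
          exact this
        linear_combination (herm 2 x u) * h3
      exact comm_indep π d hker hdc (rfl : π y = π y) (hy.trans (by rw [hz, this]))
        (Commute.refl y)
  -- the value is constant on independent pairs
  have key : ∀ {a b a' b' : Fin 6 → F} (ha : herm 2 a a = 0) (hb : herm 2 b b = 0)
      (ha' : herm 2 a' a' = 0) (hb' : herm 2 b' b' = 0), herm 2 a b = 0 → herm 2 a' b' = 0 →
      LinearIndependent F ![a, b] → LinearIndependent F ![a', b'] →
      ∀ {p r p' r' : C}, π p = im (T hF ha) → π r = im (T hF hb) → π p' = im (T hF ha') →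
      π r' = im (T hF hb') → Commute p r → Commute p' r' := by
    intro a b a' b' ha hb ha' hb' hab hab' hi hi' p r p' r' hp hr hp' hr' hc
    obtain ⟨s1, h1a, h1b⟩ := exists_pair_move hF ha hb hab hi
    obtain ⟨s2, h2a, h2b⟩ := exists_pair_move hF ha' hb' hab' hi'
    obtain ⟨c, hc'⟩ := hπ (im (s2⁻¹ * s1))
    have hsa : (s2⁻¹ * s1) • a = a' := by rw [mul_smul, h1a, ← h2a, inv_smul_smul]
    have hsb : (s2⁻¹ * s1) • b = b' := by rw [mul_smul, h1b, ← h2b, inv_smul_smul]
    refine comm_indep π d hker hdc ?_ ?_ (hc.map (MulAut.conj c).toMonoidHom)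
    · show π (c * p * c⁻¹) = π p'
      simp only [map_mul, map_inv, hc', hp, hp', im, ← QuotientGroup.mk_mul, ← QuotientGroup.mk_inv]
      rw [conj_tv]
      exact congrArg _ (T_congr hF _ ha' hsa)
    · show π (c * r * c⁻¹) = π r'
      simp only [map_mul, map_inv, hc', hr, hr', im, ← QuotientGroup.mk_mul, ← QuotientGroup.mk_inv]
      rw [conj_tv]
      exact congrArg _ (T_congr hF _ hb' hsb)
  -- a standard triple
  obtain ⟨ω, hω, hω0⟩ := exists_omega hF
  have t2 := two_eq_zero hF
  set a : Fin 6 → F := eI 0 + eI 1 with hadef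
  set b : Fin 6 → F := eI 2 + eI 3 with hbdef
  set r : Fin 6 → F := eI 4 + eI 5 with hrdef
  have haa : herm 2 a a = 0 := by
    simp [hadef, herm_add_left, herm_add_right hF, herm_eI_eI hF, one_add_one_eq_two, t2]
  have hbb : herm 2 b b = 0 := by
    simp [hbdef, herm_add_left, herm_add_right hF, herm_eI_eI hF, one_add_one_eq_two, t2]
  have hrr : herm 2 r r = 0 := by
    simp [hrdef, herm_add_left, herm_add_right hF, herm_eI_eI hF, one_add_one_eq_two, t2]
  have hab : herm 2 a b = 0 := by
    simp [hadef, hbdef, herm_add_left, herm_add_right hF, herm_eI_eI hF]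
  have hba := (herm_eq_zero_comm hF).1 hab
  have hra : herm 2 r a = 0 := by
    simp [hadef, hrdef, herm_add_left, herm_add_right hF, herm_eI_eI hF]
  have hrb : herm 2 r b = 0 := by
    simp [hbdef, hrdef, herm_add_left, herm_add_right hF, herm_eI_eI hF]
  have hs : ∀ x : F, herm 2 (a + x • b) (a + x • b) = 0 := fun x => by
    simp [herm_add_left, herm_add_right hF, herm_smul_left, herm_smul_right hF, haa, hbb, hab, hba]
  have hab1 : herm 2 (a + b) (a + b) = 0 := by simpa using hs 1
  have hor : ∀ x : F, herm 2 r (a + x • b) = 0 := fun x => by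
    simp [herm_add_right hF, herm_smul_right hF, hra, hrb]
  have hor1 : herm 2 r (a + b) = 0 := by simpa using hor 1
  have hI : ∀ x y : F, (x ≠ 0 ∨ y ≠ 0) → LinearIndependent F ![r, x • a + y • b] := by
    intro x y hxy
    rw [LinearIndependent.pair_iff]
    intro s t hst
    have h4 := congrFun hst 4
    have h0 := congrFun hst 0
    have h2' := congrFun hst 2
    simp [hrdef, hadef, hbdef, eI] at h4 h0 h2'
    refine ⟨h4, ?_⟩
    rcases hxy with h | h
    · exact h0.resolve_right h
    · exact h2'.resolve_right h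
  have hIa : LinearIndependent F ![r, a] := by simpa using hI 1 0 (Or.inl one_ne_zero)
  have hIb : LinearIndependent F ![r, b] := by simpa using hI 0 1 (Or.inr one_ne_zero)
  have hI1 : LinearIndependent F ![r, a + b] := by simpa using hI 1 1 (Or.inl one_ne_zero)
  have hIx : ∀ x : F, LinearIndependent F ![r, a + x • b] := fun x => by
    simpa using hI 1 x (Or.inl one_ne_zero)
  obtain ⟨R, hR⟩ := hπ (im (T hF hrr))
  obtain ⟨U1, hU1⟩ := hπ (im (T hF haa))
  obtain ⟨U2, hU2⟩ := hπ (im (T hF hbb))
  obtain ⟨U3, hU3⟩ := hπ (im (T hF hab1))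
  obtain ⟨U4, hU4⟩ := hπ (im (T hF (hs ω)))
  obtain ⟨U5, hU5⟩ := hπ (im (T hF (hs (ω ^ 2))))
  suffices hc0 : Commute R U1 from key hrr haa hu hw hra huw hIa hind hR hU1 hy hz hc0
  by_contra hnc
  have hflip : ∀ {v : Fin 6 → F} (hv : herm 2 v v = 0), herm 2 r v = 0 →
      LinearIndependent F ![r, v] → ∀ {U : C}, π U = im (T hF hv) → R * U = U * R * d := by
    intro v hv horth hi U hU
    rcases commutator_mem π hπ d hker hdd hdc (g := T hF hrr) (h := T hF hv) (by
      refine eq_of_smul_eq_SU fun x => ?_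
      simp only [mul_smul, T_smul, herm_add_left, herm_smul_left, horth,
        (herm_eq_zero_comm hF).1 horth, mul_zero, add_zero]
      abel) hR hU with h | h
    · exact absurd (key hrr hv hrr haa horth hra hi hIa hR hU hR hU1 h) hnc
    · exact h
  have f1 := hflip haa hra hIa hU1
  have f2 := hflip hbb hrb hIb hU2
  have f3 := hflip hab1 hor1 hI1 hU3
  have f4 := hflip (hs ω) (hor ω) (hIx ω) hU4
  have f5 := hflip (hs (ω ^ 2)) (hor _) (hIx _) hU5
  have mv : ∀ {U X : C}, R * U = U * R * d → R * (U * X) = U * (R * X) * d := by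
    intro U X h
    rw [← mul_assoc, h, mul_assoc (U * R), ← hdc X]
    simp [mul_assoc]
  have hrel : π (U1 * (U2 * (U3 * (U4 * U5)))) = 1 := by
    simp only [map_mul, hU1, hU2, hU3, hU4, hU5, im, ← QuotientGroup.mk_mul, ← mul_assoc]
    rw [line_relation hF haa hbb hab hω hab1 (hs ω) (hs _)]
    rfl
  have hall : R * (U1 * (U2 * (U3 * (U4 * U5)))) = U1 * (U2 * (U3 * (U4 * U5))) * R * d := by
    rw [mv f1, mv f2, mv f3, mv f4, f5]
    simp only [mul_assoc, hdd, mul_one]
  rcases (hker _).1 hrel with e | e <;> rw [e] at hall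
  · rw [mul_one, one_mul] at hall
    have hd1 : d = 1 := left_eq_mul.1 hall
    rw [hd1, mul_one] at f1
    exact hnc f1
  · rw [← hdc R] at hall
    have hd1 : d = 1 := left_eq_mul.1 hall
    rw [hd1, mul_one] at f1
    exact hnc f1

include hπ hker hdd hdc in
/-- Transvections lift to involutions. -/
theorem sq_lift {u : Fin 6 → F} (hu : herm 2 u u = 0) {y : C} (hy : π y = im (T hF hu)) :
    y * y = 1 := by
  classical
  by_cases hu0 : u = 0
  · have : T hF hu = 1 := eq_of_smul_eq_SU fun x => by
      rw [T_smul, hu0, smul_zero, add_zero, one_smul]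
    rw [sq_indep π d hker hdd hdc (y := 1) (by rw [hy, this, map_one]; rfl), one_mul]
  obtain ⟨ω, hω, hω0⟩ := exists_omega hF
  have t2 := two_eq_zero hF
  set a : Fin 6 → F := eI 0 + eI 1 with hadef
  set b : Fin 6 → F := eI 2 + eI 3 with hbdef
  have haa : herm 2 a a = 0 := by
    simp [hadef, herm_add_left, herm_add_right hF, herm_eI_eI hF, one_add_one_eq_two, t2]
  have hbb : herm 2 b b = 0 := by
    simp [hbdef, herm_add_left, herm_add_right hF, herm_eI_eI hF, one_add_one_eq_two, t2]
  have hab : herm 2 a b = 0 := by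
    simp [hadef, hbdef, herm_add_left, herm_add_right hF, herm_eI_eI hF]
  have hba := (herm_eq_zero_comm hF).1 hab
  have hs : ∀ x : F, herm 2 (a + x • b) (a + x • b) = 0 := fun x => by
    simp [herm_add_left, herm_add_right hF, herm_smul_left, herm_smul_right hF, haa, hbb, hab, hba]
  have hab1 : herm 2 (a + b) (a + b) = 0 := by simpa using hs 1
  obtain ⟨U1, hU1⟩ := hπ (im (T hF haa))
  obtain ⟨U2, hU2⟩ := hπ (im (T hF hbb))
  obtain ⟨U3, hU3⟩ := hπ (im (T hF hab1))
  obtain ⟨U4, hU4⟩ := hπ (im (T hF (hs ω)))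
  obtain ⟨U5, hU5⟩ := hπ (im (T hF (hs (ω ^ 2))))
  have hconst : ∀ {v : Fin 6 → F} (hv : herm 2 v v = 0), v ≠ 0 → ∀ {V : C},
      π V = im (T hF hv) → V * V = y * y := by
    intro v hv hv0 V hV
    obtain ⟨s, -, hsu⟩ := exists_move hF (S := (∅ : Finset (Fin 6)))
      (by rw [Finset.compl_empty, Finset.card_univ, Fintype.card_fin]; norm_num)
      (by simp [supp_empty]) (by simp [supp_empty]) hu hv hu0 hv0
    obtain ⟨c, hc⟩ := hπ (im s)
    have hcy : π (c * y * c⁻¹) = π V := by
      simp only [map_mul, map_inv, hc, hy, hV, im, ← QuotientGroup.mk_mul, ← QuotientGroup.mk_inv]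
      rw [conj_tv]
      exact congrArg _ (T_congr hF _ hv hsu)
    rw [sq_indep π d hker hdd hdc hcy]
    have h1 : π (y * y) = 1 := by
      rw [map_mul, hy, im, ← QuotientGroup.mk_mul]
      refine congrArg _ (eq_of_smul_eq_SU fun x => ?_)
      rw [mul_smul, T_smul, T_smul, herm_add_left, herm_smul_left, hu, mul_zero, add_zero,
        one_smul, add_assoc, ← add_smul, ← two_mul, t2, zero_mul, zero_smul, add_zero]
    calc c * y * c⁻¹ * (c * y * c⁻¹) = c * (y * y) * c⁻¹ := by group
      _ = y * y := by
        rcases (hker _).1 h1 with e | e <;> rw [e]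
        · rw [mul_one, mul_inv_cancel]
        · rw [hdc c, mul_inv_cancel_right]
  have hne : ∀ x z : F, (x ≠ 0 ∨ z ≠ 0) → x • a + z • b ≠ 0 := by
    intro x z hxz h
    have h0 := congrFun h 0
    have h2' := congrFun h 2
    simp [hadef, hbdef, eI] at h0 h2'
    rcases hxz with e | e
    · exact e h0
    · exact e h2'
  have q1 := hconst haa (by simpa using hne 1 0 (Or.inl one_ne_zero)) hU1
  have q2 := hconst hbb (by simpa using hne 0 1 (Or.inr one_ne_zero)) hU2
  have q3 := hconst hab1 (by simpa using hne 1 1 (Or.inl one_ne_zero)) hU3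
  have q4 := hconst (hs ω) (by simpa using hne 1 ω (Or.inl one_ne_zero)) hU4
  have q5 := hconst (hs (ω ^ 2)) (by simpa using hne 1 (ω ^ 2) (Or.inl one_ne_zero)) hU5
  have orth : ∀ x z : F, herm 2 (a + x • b) (a + z • b) = 0 := fun x z => by
    simp [herm_add_left, herm_add_right hF, herm_smul_left, herm_smul_right hF, haa, hbb, hab, hba]
  have oa : ∀ z : F, herm 2 a (a + z • b) = 0 := fun z => by
    simp [herm_add_right hF, herm_smul_right hF, haa, hab]
  have ob : ∀ z : F, herm 2 b (a + z • b) = 0 := fun z => by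
    simp [herm_add_right hF, herm_smul_right hF, hbb, hba]
  have cm := @commute_lifts _ _ _ hF _ _ π hπ d hker hdd hdc
  have c12 : Commute U1 U2 := cm haa hbb hab hU1 hU2
  have c13 : Commute U1 U3 := cm haa hab1 (by simpa using oa 1) hU1 hU3
  have c14 : Commute U1 U4 := cm haa (hs ω) (oa ω) hU1 hU4
  have c15 : Commute U1 U5 := cm haa (hs (ω ^ 2)) (oa _) hU1 hU5
  have c23 : Commute U2 U3 := cm hbb hab1 (by simpa using ob 1) hU2 hU3
  have c24 : Commute U2 U4 := cm hbb (hs ω) (ob ω) hU2 hU4
  have c25 : Commute U2 U5 := cm hbb (hs (ω ^ 2)) (ob _) hU2 hU5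
  have c34 : Commute U3 U4 := cm hab1 (hs ω) (by simpa using orth 1 ω) hU3 hU4
  have c35 : Commute U3 U5 := cm hab1 (hs (ω ^ 2)) (by simpa using orth 1 (ω ^ 2)) hU3 hU5
  have c45 : Commute U4 U5 := cm (hs ω) (hs (ω ^ 2)) (orth _ _) hU4 hU5
  have hrel : π (U1 * (U2 * (U3 * (U4 * U5)))) = 1 := by
    simp only [map_mul, hU1, hU2, hU3, hU4, hU5, im, ← QuotientGroup.mk_mul, ← mul_assoc]
    rw [line_relation hF haa hbb hab hω hab1 (hs ω) (hs _)]
    rfl
  have hsq : U1 * U1 * ((U2 * U2) * ((U3 * U3) * ((U4 * U4) * (U5 * U5)))) = 1 := by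
    have h := (((c12.mul_right (c13.mul_right (c14.mul_right c15)))).mul_pow 2)
    rw [(c23.mul_right (c24.mul_right c25)).mul_pow, (c34.mul_right c35).mul_pow,
      c45.mul_pow] at h
    rw [← pow_two, ← pow_two, ← pow_two, ← pow_two, ← pow_two, ← h]
    rcases (hker _).1 hrel with e | e <;> rw [e, pow_two]
    · rw [one_mul]
    · exact hdd
  rw [q1, q2, q3, q4, q5] at hsq
  have h1 : π (y * y) = 1 := by
    rw [map_mul, hy, im, ← QuotientGroup.mk_mul]
    refine congrArg _ (eq_of_smul_eq_SU fun x => ?_)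
    rw [mul_smul, T_smul, T_smul, herm_add_left, herm_smul_left, hu, mul_zero, add_zero,
      one_smul, add_assoc, ← add_smul, ← two_mul, t2, zero_mul, zero_smul, add_zero]
  rcases (hker _).1 h1 with e | e
  · exact e
  · rw [e] at hsq ⊢
    rw [hdd, mul_one, hdd, mul_one] at hsq
    exact hsq

include hπ hker hdd hdc in
/-- Elements squaring to one lift to elements squaring to one. -/
theorem involution_lift : ∀ (m : ℕ) (g : SU 6 F 2),
    Nat.card {x : Fin 6 → F // g • x ≠ x} ≤ m → g * g = 1 → ∀ y : C, π y = im g →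
      y * y = 1 ∧ ∀ (w : Fin 6 → F) (hw : herm 2 w w = 0),
        (∀ x, herm 2 (g • x + x) w = 0) → ∀ z : C, π z = im (T hF hw) → Commute y z := by
  classical
  intro m
  induction m using Nat.strong_induction_on with
  | _ m ih =>
  intro g hm hg y hy
  have t2 := two_eq_zero hF
  have hdbl : ∀ v : Fin 6 → F, v + v = 0 := fun v => by
    rw [← two_smul F v, t2, zero_smul]
  by_cases hall : ∀ x : Fin 6 → F, herm 2 (g • x + x) x = 0
  · -- the identity
    have hgg : ∀ x : Fin 6 → F, g • g • x = x := fun x => by rw [← mul_smul, hg, one_smul]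
    have hg1 : g = 1 := by
      obtain ⟨ω, hω, hω0⟩ := exists_omega hF
      refine eq_of_smul_eq_SU fun x => ?_
      rw [one_smul]
      have hz : g • x + x = 0 := by
        refine eq_zero_of_herm hF fun z => ?_
        set B := herm 2 (g • x + x) z with hB
        set B' := herm 2 (g • z + z) x with hB'
        have e1 := hall (x + z)
        have e2 := hall (x + ω • z)
        have hx := hall x
        have hz := hall z
        rw [smul_add, add_add_add_comm, herm_add_left, herm_add_right hF, herm_add_right hF, hx,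
          hz, ← hB, ← hB'] at e1
        rw [smul_add, smul_comm g ω z, add_add_add_comm, ← smul_add, herm_add_left,
          herm_smul_left, herm_add_right hF, herm_add_right hF, herm_smul_right hF,
          herm_smul_right hF, hx, hz, ← hB, ← hB'] at e2
        linear_combination (-1) * e2 + ω * e1 + B * hω - ω * B * t2
      calc g • x = g • x + (x + x) := by rw [hdbl, add_zero]
        _ = x := by rw [← add_assoc, hz, zero_add]
    subst hg1
    have h1 : π 1 = π y := by rw [hy, map_one]; rfl
    refine ⟨by rw [sq_indep π d hker hdd hdc h1, one_mul], fun w hw _ z _ => ?_⟩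
    exact comm_indep π d hker hdc h1 (rfl : π z = π z) (Commute.one_left z)
  push Not at hall
  obtain ⟨x, hx⟩ := hall
  have hgg : ∀ x : Fin 6 → F, g • g • x = x := fun x => by rw [← mul_smul, hg, one_smul]
  have hsym : ∀ a b : Fin 6 → F, herm 2 (g • a + a) b = herm 2 a (g • b + b) := fun a b => by
    rw [herm_add_left, herm_add_right hF, ← herm_smul_SU g (g • a) b, hgg]
  have hTI : ∀ a b : Fin 6 → F, herm 2 (g • a + a) (g • b + b) = 0 := fun a b => by
    rw [← hsym, smul_add, hgg]
    rw [show a + g • a + (g • a + a) = (a + a) + (g • a + g • a) by abel, hdbl, hdbl, add_zero,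
      herm_zero_left]
  set u := g • x + x with hu_def
  have hu : herm 2 u u = 0 := hTI x x
  have hux : herm 2 x u = 1 := by
    have hfix : herm 2 u x ^ 2 = herm 2 u x := by
      rw [← herm_swap hF u x, hu_def, hsym]
    rcases eq_one_or hF _ hfix with e | e
    · exact absurd e hx
    · rw [hu_def, ← hsym, ← hu_def]; exact e
  have hgu : g • u = u := by rw [hu_def, smul_add, hgg, add_comm]
  -- split off the transvection
  set g' := g * T hF hu with hg'_def
  have hcomm : g * T hF hu = T hF hu * g := by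
    refine eq_of_smul_eq_SU fun z => ?_
    have hzu : herm 2 (g • z) u = herm 2 z u := by
      conv_lhs => rw [← hgu]
      rw [herm_smul_SU]
    rw [mul_smul, mul_smul, T_smul, T_smul, smul_add, smul_comm g, hgu, hzu]
  have hTT : T hF hu * T hF hu = 1 := eq_of_smul_eq_SU fun z => by
    rw [mul_smul, T_smul, T_smul, herm_add_left, herm_smul_left, hu, mul_zero, add_zero,
      one_smul, add_assoc, ← add_smul, ← two_mul, t2, zero_mul, zero_smul, add_zero]
  have hg'g : g' * g' = 1 := by
    calc g * T hF hu * (g * T hF hu) = g * T hF hu * (T hF hu * g) := by rw [hcomm]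
      _ = g * (T hF hu * T hF hu) * g := by group
      _ = 1 := by rw [hTT, mul_one, hg]
  have hg'z : ∀ z : Fin 6 → F, g' • z + z = (g • z + z) + herm 2 z u • u := fun z => by
    rw [hg'_def, mul_smul, T_smul, smul_add, smul_comm g, hgu]
    abel
  have hlt : Nat.card {z : Fin 6 → F // g' • z ≠ z} < Nat.card {z : Fin 6 → F // g • z ≠ z} := by
    have hsub : ∀ z : Fin 6 → F, g • z = z → g' • z = z := by
      intro z hz
      have h0 : herm 2 z u = 0 := by
        rw [hu_def, ← hsym, hz, hdbl, herm_zero_left]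
      rw [hg'_def, mul_smul, T_smul, h0, zero_smul, add_zero, hz]
    have hx' : g' • x = x := by
      have h := hg'z x
      rw [hux, one_smul, ← hu_def, hdbl] at h
      calc g' • x = g' • x + (x + x) := by rw [hdbl, add_zero]
        _ = x := by rw [← add_assoc, h, zero_add]
    have hxg : g • x ≠ x := fun e => hx (by rw [hu_def, e, hdbl, herm_zero_left])
    simp only [Nat.card_eq_fintype_card, Fintype.card_subtype]
    refine Finset.card_lt_card ⟨fun z hz => ?_, fun h => ?_⟩
    · simp only [Finset.mem_filter, Finset.mem_univ, true_and] at hz ⊢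
      exact fun e => hz (hsub z e)
    · have := h (Finset.mem_filter.2 ⟨Finset.mem_univ x, hxg⟩)
      simp [hx'] at this
  obtain ⟨y', hy'⟩ := hπ (im g')
  obtain ⟨U, hU⟩ := hπ (im (T hF hu))
  obtain ⟨hy'2, hy'c⟩ := ih _ (lt_of_lt_of_le hlt hm) g' le_rfl hg'g y' hy'
  have hprod : π (y' * U) = π y := by
    rw [map_mul, hy', hU, hy, im, ← QuotientGroup.mk_mul, hg'_def, mul_assoc, hTT, mul_one]
  have hUy : Commute y' U := hy'c u hu (fun z => by
    rw [hg'z, herm_add_left, herm_smul_left, hu, mul_zero, add_zero]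
    exact hTI z x) U hU
  have hU2 : U * U = 1 := sq_lift hF π hπ d hker hdd hdc hu hU
  refine ⟨?_, fun w hw horth z hz => ?_⟩
  · rw [sq_indep π d hker hdd hdc hprod]
    calc y' * U * (y' * U) = (y' * y') * (U * U) := hUy.symm.mul_mul_mul_comm y' U
      _ = 1 := by rw [hy'2, hU2, one_mul]
  · have huw : herm 2 u w = 0 := horth x
    refine comm_indep π d hker hdc hprod (rfl : π z = π z) (Commute.mul_left ?_ ?_)
    · refine hy'c w hw (fun v => ?_) z hz
      rw [hg'z, herm_add_left, herm_smul_left, huw, mul_zero, add_zero]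
      exact horth v
    · exact commute_lifts hF π hπ d hker hdd hdc hu hw huw hU hz

include hπ hker hdd hdc in
/-- Every lift of an element squaring to one in `PSU₆(2)` squares to one. -/
theorem sq_eq_one_of_image {y : C} (h : π y * π y = 1) : y * y = 1 := by
  obtain ⟨g₀, hg₀⟩ := QuotientGroup.mk_surjective (π y)
  rw [← hg₀, ← QuotientGroup.mk_mul, QuotientGroup.eq_one_iff] at h
  obtain ⟨r, -, hr3, hr⟩ := scalar_of_fix_isotropic_lines hF (by norm_num)
    (fun u hu => fix_isotropic_lines_of_mem_center hF h hu)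
  set g := g₀ * g₀ * g₀ with hgdef
  have hgg : g * g = 1 := by
    obtain ⟨k, hk⟩ : ∃ k, k = g₀ * g₀ := ⟨_, rfl⟩
    rw [← hk] at hr
    refine eq_of_smul_eq_SU fun x => ?_
    rw [show g * g = k * (k * k) by rw [hgdef, hk]; group, mul_smul, mul_smul,
      hr, hr, hr, smul_smul, smul_smul, one_smul, show r * r * r = r ^ (2 + 1) by ring, hr3, one_smul]
  have hyg : π y = im g := by
    rw [← hg₀]
    refine QuotientGroup.eq.2 ?_
    rw [hgdef, show g₀⁻¹ * (g₀ * g₀ * g₀) = g₀ * g₀ by group]
    exact h
  exact (involution_lift hF π hπ d hker hdd hdc _ g le_rfl hgg y hyg).1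

end

end Cfsg.Agent.RecogB.CoverInvolution
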