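import Cfsg.Agent.RecogB.PrimCases

/-! Conjugacy classes of derangements in groups that are not almost simple. -/

set_option autoImplicit false

namespace Cfsg.Agent.RecogB

open MulAction

variable {G Ω : Type*} [Group G] [MulAction G Ω]

/-- The classes of derangements. -/
abbrev DerClass (G Ω : Type*) [Group G] [MulAction G Ω] :=
  {c : ConjClasses G // ∃ g : G, ConjClasses.mk g = c ∧ ∀ ω : Ω, g • ω ≠ ω}

lemma isConj_of_card_eq_one (h : Nat.card (DerClass G Ω) = 1) {x y : G} (hx : ∀ ω : Ω, x • ω ≠ ω)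
    (hy : ∀ ω : Ω, y • ω ≠ ω) : IsConj x y := by
  have := (Nat.card_eq_one_iff_unique.mp h).1
  exact ConjClasses.mk_eq_mk_iff_isConj.mp
    (congrArg Subtype.val (Subsingleton.elim (⟨_, x, rfl, hx⟩ : DerClass G Ω) ⟨_, y, rfl, hy⟩))

lemma card_eq_one_of_isConj {d : G} (hd : ∀ ω : Ω, d • ω ≠ ω)
    (h : ∀ x : G, (∀ ω : Ω, x • ω ≠ ω) → IsConj d x) : Nat.card (DerClass G Ω) = 1 := by
  rw [Nat.card_eq_one_iff_unique]
  refine ⟨⟨fun a b => Subtype.ext ?_⟩, ⟨⟨_, d, rfl, hd⟩⟩⟩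
  obtain ⟨c, x, rfl, hx⟩ := a
  obtain ⟨c', y, rfl, hy⟩ := b
  exact ConjClasses.mk_eq_mk_iff_isConj.mpr ((h x hx).symm.trans (h y hy))

lemma three_le_card [Finite G] {x y z : G} (hx : ∀ ω : Ω, x • ω ≠ ω) (hy : ∀ ω : Ω, y • ω ≠ ω)
    (hz : ∀ ω : Ω, z • ω ≠ ω) (hxy : ¬ IsConj x y) (hxz : ¬ IsConj x z) (hyz : ¬ IsConj y z) :
    3 ≤ Nat.card (DerClass G Ω) := by
  classical
  have := Fintype.ofFinite (DerClass G Ω)
  rw [Nat.card_eq_fintype_card]
  have hne : ∀ {u v : G} (hu : ∀ ω : Ω, u • ω ≠ ω) (hv : ∀ ω : Ω, v • ω ≠ ω), ¬ IsConj u v →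
      (⟨_, u, rfl, hu⟩ : DerClass G Ω) ≠ ⟨_, v, rfl, hv⟩ := fun hu hv h e =>
    h (ConjClasses.mk_eq_mk_iff_isConj.mp (congrArg Subtype.val e))
  exact Fintype.two_lt_card_iff.mpr ⟨_, _, _, hne hx hy hxy, hne hx hz hxz, hne hy hz hyz⟩

lemma not_isConj_of_orderOf_ne {x y : G} (h : orderOf x ≠ orderOf y) : ¬ IsConj x y := by
  intro hc
  obtain ⟨c, rfl⟩ := isConj_iff.mp hc
  apply h
  rw [← MulEquiv.orderOf_eq (MulAut.conj c) x, MulAut.conj_apply]

/-- A single factor element and a product with another factor are never conjugate. -/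
lemma IsFactor.not_isConj_mul {N T T' : Subgroup G} [N.Normal] (hT : IsFactor N T)
    (hT' : IsFactor N T') (hne : T' ≠ T) {x y : G} (hx : x ∈ T) (hx1 : x ≠ 1) (hy : y ∈ T')
    (hy1 : y ≠ 1) : ¬ IsConj x (x * y) := by
  intro hc
  obtain ⟨g, hg⟩ := isConj_iff.mp hc
  have hm : x * y ∈ RecogB.cj g T := hg ▸ conj_mem_cj hx
  have hyC := hT.le_centralizer_of_ne hT' hne hy
  rcases eq_or_ne (RecogB.cj g T) T with h | h
  · rw [h] at hm
    exact hy1 (hT.eq_one_of_mem_centralizer ((mul_mem_cancel_left hx).mp hm) hyC)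
  · have h1 := hT.le_centralizer_of_ne (hT.cj g) h hm
    exact hx1 (hT.eq_one_of_mem_centralizer hx ((mul_mem_cancel_right hyC).mp h1))

/-- Products of elements of two factors with different orders in the second are never conjugate. -/
lemma IsFactor.not_isConj_mul_mul {N T T' : Subgroup G} [N.Normal] (hT : IsFactor N T)
    (hT' : IsFactor N T') (hne : T' ≠ T) {x y y' : G} (hx : x ∈ T) (hx1 : x ≠ 1) (hy : y ∈ T')
    (hy' : y' ∈ T') (ho : orderOf y ≠ orderOf y') : ¬ IsConj (x * y) (x * y') := by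
  intro hc
  obtain ⟨g, hg⟩ := isConj_iff.mp hc
  have hoc : ∀ u : G, orderOf (g * u * g⁻¹) = orderOf u := fun u => by
    rw [← MulAut.conj_apply, MulEquiv.orderOf_eq]
  have hsplit : g * (x * y) * g⁻¹ = (g * x * g⁻¹) * (g * y * g⁻¹) := by group
  rw [hsplit] at hg
  have hm1 : g * x * g⁻¹ ∈ RecogB.cj g T := conj_mem_cj hx
  have hm2 : g * y * g⁻¹ ∈ RecogB.cj g T' := conj_mem_cj hy
  have hyC' := hT.le_centralizer_of_ne hT' hne hy'
  have hinj : RecogB.cj g T' ≠ RecogB.cj g T := fun e =>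
    hne (Subgroup.map_injective (f := (MulAut.conj g).toMonoidHom) (MulAut.conj g).injective e)
  rcases eq_or_ne (RecogB.cj g T) T with h | h
  · have h2 := hT.le_centralizer_of_ne (hT.cj g) (T' := RecogB.cj g T) 
    rw [h] at hm1 hinj
    obtain ⟨-, e2⟩ := hT.decomp_unique hm1 hx (hT.le_centralizer_of_ne (hT'.cj g) hinj hm2) hyC' hg
    exact ho (by rw [← hoc y, e2])
  · rcases eq_or_ne (RecogB.cj g T') T with h' | h'
    · rw [h'] at hm2
      have hC1 := hT.le_centralizer_of_ne (hT.cj g) h hm1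
      have hg' : (g * y * g⁻¹) * (g * x * g⁻¹) = x * y' := by
        rw [Subgroup.mem_centralizer_iff.mp hC1 _ hm2]; exact hg
      obtain ⟨e1, e2⟩ := hT.decomp_unique hm2 hx hC1 hyC' hg'
      exact ho (by rw [← hoc y, e1, ← hoc x, e2])
    · have hC : x * y' ∈ Subgroup.centralizer (T : Set G) := hg ▸
        mul_mem (hT.le_centralizer_of_ne (hT.cj g) h hm1) (hT.le_centralizer_of_ne (hT'.cj g) h' hm2)
      exact hx1 (hT.eq_one_of_mem_centralizer hx ((mul_mem_cancel_right hyC').mp hC))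

section Affine

variable [FaithfulSMul G Ω]

lemma affine_isConj_iff {N : Subgroup G} (hab : IsMulCommutative N)
    (hNt : IsPretransitive N Ω) (a : Ω) {x y : G} (hx : x ∈ N) (hy : y ∈ N) :
    IsConj x y → ∃ h ∈ stabilizer G a, h * x * h⁻¹ = y := by
  intro hc
  obtain ⟨g, hg⟩ := isConj_iff.mp hc
  obtain ⟨n, hn, h, hh, rfl⟩ := Cfsg.Agent.Perm.exists_mul_stabilizer (N := N) a g
  refine ⟨h, hh, ?_⟩
  have hcm : n⁻¹ * y = y * n⁻¹ :=
    congrArg Subtype.val (hab.is_comm.comm (⟨n⁻¹, inv_mem hn⟩ : N) ⟨y, hy⟩)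
  calc h * x * h⁻¹ = n⁻¹ * ((n * h) * x * (n * h)⁻¹) * n := by group
    _ = y := by rw [hg, hcm, inv_mul_cancel_right]

lemma two_transitive_of_conj {N : Subgroup G} (hab : IsMulCommutative N)
    (hNt : IsPretransitive N Ω) [IsPretransitive G Ω] (a : Ω)
    (hcj : ∀ x ∈ N, ∀ y ∈ N, x ≠ 1 → y ≠ 1 → IsConj x y) :
    IsMultiplyPretransitive G Ω 2 := by
  rw [Cfsg.Agent.Perm.isMultiplyPretransitive_two_iff_stabilizer a]
  intro y z hy hz
  obtain ⟨n, hn, rfl⟩ := Cfsg.Agent.Perm.subgroup_exists_smul_eq (N := N) a y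
  obtain ⟨m, hm, rfl⟩ := Cfsg.Agent.Perm.subgroup_exists_smul_eq (N := N) a z
  obtain ⟨h, hh, e⟩ := affine_isConj_iff hab hNt a hn hm
    (hcj n hn m hm (fun e => hy (by rw [e, one_smul])) (fun e => hz (by rw [e, one_smul])))
  refine ⟨h, hh, ?_⟩
  rw [← Cfsg.Agent.Perm.conj_smul_base hh n, e]

lemma fixedBy_le_one_of_le [Finite G] [Finite Ω] [IsPretransitive G Ω] {N : Subgroup G}
    (hreg : ∀ ω : Ω, stabilizer N ω = ⊥) (hD : derSub G Ω ≤ N) (g : G) (hg : g ≠ 1) :
    Nat.card (fixedBy Ω g) ≤ 1 := by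
  rcases isEmpty_or_nonempty Ω with hΩ | hΩ
  · simp
  by_cases hgN : g ∈ N
  · have : IsEmpty (fixedBy Ω g) := ⟨fun ω => hg
      (Cfsg.Agent.Perm.stabilizer_subgroup_eq_bot_iff.mp (hreg ω) g hgN ω.2)⟩
    simp
  · rw [card_fixedBy_eq_one (fun h => hgN (hD h))]

lemma sharp_iff :
    (∀ g : G, g ≠ 1 → ∀ a b : Ω, a ≠ b → g • a = a → g • b ≠ b) ↔
    (∀ g : G, g ≠ 1 → (fixedBy Ω g).Subsingleton) := by
  constructor
  · intro h g hg a ha b hb
    by_contra hab
    exact h g hg a b hab ha hb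
  · intro h g hg a b hab ha hb
    exact hab (h g hg ha hb)

/-- A sharply 2-transitive group has one class of derangements. -/
lemma card_one_of_sharp [Finite G] [Finite Ω] (h2 : 2 ≤ Nat.card Ω)
    (ht : IsMultiplyPretransitive G Ω 2)
    (hs : ∀ g : G, g ≠ 1 → (fixedBy Ω g).Subsingleton) : Nat.card (DerClass G Ω) = 1 := by
  classical
  have := isPretransitive_of_is_two_pretransitive (G := G) (α := Ω)
  have : Nontrivial Ω := Finite.one_lt_card_iff_nontrivial.mp (by omega)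
  obtain ⟨a, b, hab⟩ := exists_pair_ne Ω
  obtain ⟨d, hd⟩ := exists_derangement (G := G) (Ω := Ω) h2
  have := Fintype.ofFinite G
  have := Fintype.ofFinite Ω
  let H := stabilizer G a
  have hfree : ∀ h ∈ H, ∀ y, y ≠ a → h • y = y → h = 1 := by
    intro h hh y hy e
    by_contra h1
    exact hy (hs h h1 e hh)
  have hH : Nat.card H = Nat.card Ω - 1 := by
    rw [Cfsg.Agent.Perm.card_stabilizer_two (G := G) (Ne.symm hab)]
    have : stabilizer H b = ⊥ := by
      rw [Subgroup.eq_bot_iff_forall]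
      intro h hh
      exact Subtype.ext (hfree h h.2 b (Ne.symm hab) hh)
    rw [this, Subgroup.card_bot, mul_one]
  have hG : Nat.card G = Nat.card Ω * Nat.card H := Cfsg.Agent.Perm.card_eq_mul_card_stabilizer a
  have hle : ∀ g : G, g ≠ 1 → Fintype.card (fixedBy Ω g) ≤ 1 := fun g hg => by
    have := (hs g hg).coe_sort
    exact Fintype.card_le_one_iff_subsingleton.mpr this
  let D := Finset.univ.filter (fun g : G => ∀ ω : Ω, g • ω ≠ ω)
  have hsum := sum_card_fixedBy_eq_card_orbits_mul_card_group G Ω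
  have horb : Fintype.card (orbitRel.Quotient G Ω) = 1 := by
    rw [Fintype.card_eq_one_iff]
    refine ⟨Quotient.mk'' a, fun q => Quotient.inductionOn' q (fun y => Quotient.sound' ?_)⟩
    exact exists_smul_eq G a y
  have hD : D.card ≤ Nat.card Ω - 1 := by
    have h1 : Finset.sum Finset.univ (fun g : G => Fintype.card (fixedBy Ω g) + (if g ∈ D then 1 else 0)) ≤
        Finset.sum Finset.univ (fun g : G => (if g = 1 then Fintype.card Ω else 1)) := by
      refine Finset.sum_le_sum (fun g _ => ?_)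
      by_cases hg : g = 1
      · subst hg
        have h1D : (1 : G) ∉ D := fun h => (Finset.mem_filter.mp (show (1 : G) ∈ Finset.univ.filter (fun g : G => ∀ ω : Ω, g • ω ≠ ω) from h)).2 a (one_smul G a)
        rw [if_pos rfl, if_neg h1D, add_zero]
        exact set_fintype_card_le_univ _
      · rw [if_neg hg]
        by_cases hgD : g ∈ D
        · have : IsEmpty (fixedBy Ω g) := ⟨fun ω => (Finset.mem_filter.mp hgD).2 ω ω.2⟩
          rw [if_pos hgD, Fintype.card_eq_zero]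
        · rw [if_neg hgD, add_zero]; exact hle g hg
    rw [Finset.sum_add_distrib, hsum, horb, one_mul] at h1
    rw [Finset.sum_ite, Finset.sum_ite] at h1
    simp only [Finset.sum_const, smul_eq_mul, mul_one, mul_zero, add_zero, Finset.filter_mem_eq_inter,
      Finset.univ_inter] at h1
    have e1 : (Finset.univ.filter (fun g : G => g = 1)).card = 1 := by
      rw [← Fintype.card_subtype]; simp
    have e2 : (Finset.univ.filter (fun g : G => ¬ g = 1)).card = Fintype.card G - 1 := by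
      rw [Finset.filter_not, Finset.card_univ_sdiff, e1]
    rw [e1, e2, one_mul] at h1
    have : 0 < Fintype.card G := Fintype.card_pos
    simp only [← Nat.card_eq_fintype_card] at h1 this
    omega
  have himg : (Finset.univ : Finset H).image (fun h : H => (h : G) * d * (h : G)⁻¹) = D := by
    refine Finset.eq_of_subset_of_card_le ?_ ?_
    · intro x hx
      simp only [Finset.mem_image, Finset.mem_univ, true_and] at hx
      obtain ⟨h, rfl⟩ := hx
      refine Finset.mem_filter.mpr ⟨Finset.mem_univ _, fun ω e => hd ((h : G)⁻¹ • ω) ?_⟩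
      rw [mul_smul, mul_smul] at e
      exact eq_inv_smul_iff.mpr e
    · rw [Finset.card_image_of_injective, Finset.card_univ, ← Nat.card_eq_fintype_card]
      · omega
      intro h k e
      have hc : ((k : G)⁻¹ * h) * d = d * ((k : G)⁻¹ * h) := by
        have e' : (h : G) * d * (h : G)⁻¹ = (k : G) * d * (k : G)⁻¹ := e
        calc ((k : G)⁻¹ * h) * d = (k : G)⁻¹ * ((h : G) * d * (h : G)⁻¹) * h := by group
          _ = (k : G)⁻¹ * ((k : G) * d * (k : G)⁻¹) * h := by rw [e']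
          _ = d * ((k : G)⁻¹ * h) := by group
      have hka : ((k : G)⁻¹ * h) • a = a := (k⁻¹ * h).2
      have hfix : ((k : G)⁻¹ * h) • d • a = d • a := by
        rw [← mul_smul, hc, mul_smul, hka]
      exact (inv_mul_eq_one.mp (Subtype.ext (hfree _ (k⁻¹ * h).2 _ (hd a) hfix) : k⁻¹ * h = 1)).symm
  refine card_eq_one_of_isConj hd (fun x hx => ?_)
  have : x ∈ D := Finset.mem_filter.mpr ⟨Finset.mem_univ _, hx⟩
  rw [← himg] at this
  simp only [Finset.mem_image, Finset.mem_univ, true_and] at this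
  obtain ⟨h, rfl⟩ := this
  exact isConj_iff.mpr ⟨h, rfl⟩

/-- If a primitive group that is not almost simple has one class of derangements, it is sharply
2-transitive. -/
lemma sharp_of_card_one [Finite G] [Finite Ω] [IsPreprimitive G Ω] (h2 : 2 ≤ Nat.card Ω)
    (hnas : ¬ ∃ T : Subgroup G, T.Normal ∧ IsSimpleGroup T ∧ ¬ IsMulCommutative T ∧
      Subgroup.centralizer (T : Set G) = ⊥)
    (h1 : Nat.card (DerClass G Ω) = 1) :
    IsMultiplyPretransitive G Ω 2 ∧ ∀ g : G, g ≠ 1 → (fixedBy Ω g).Subsingleton := by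
  have : Nonempty Ω := (Nat.card_pos_iff.mp (by omega)).1
  obtain ⟨a⟩ := ‹Nonempty Ω›
  rcases primitive_cases (G := G) h2 with ⟨N, p, -, hNn, hN, hab, -, hNt, hreg⟩ | h |
    ⟨N, T, hNn, hmin, hNt, hT, hcase⟩
  · have hder : ∀ x ∈ N, x ≠ 1 → ∀ ω : Ω, x • ω ≠ ω := fun x hx hx1 ω e =>
      hx1 (Cfsg.Agent.Perm.stabilizer_subgroup_eq_bot_iff.mp (hreg ω) x hx e)
    refine ⟨two_transitive_of_conj hab hNt a (fun x hx y hy hx1 hy1 =>
      isConj_of_card_eq_one h1 (hder x hx hx1) (hder y hy hy1)), fun g hg => ?_⟩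
    obtain ⟨⟨x, hx⟩, hxne⟩ := (Subgroup.bot_or_exists_ne_one N).resolve_left hN |>
      fun ⟨x, hx, hne⟩ => (⟨⟨x, hx⟩, hne⟩ : ∃ x : N, (x : G) ≠ 1)
    have hD : derSub G Ω ≤ N := (Subgroup.closure_le N).mpr (fun g hg => by
      obtain ⟨c, hc⟩ := isConj_iff.mp (isConj_of_card_eq_one h1 (hder x hx hxne) hg)
      rw [SetLike.mem_coe, ← hc]
      exact hNn.conj_mem x hx c)
    have := fixedBy_le_one_of_le hreg hD g hg
    rw [Nat.card_coe_set_eq] at this
    exact fun u hu v hv => (Set.ncard_le_one (Set.toFinite _)).mp this u hu v hv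
  · exact absurd h hnas
  exfalso
  have hsemi : ∀ (_ : ∀ x ∈ T, x ≠ 1 → ∀ ω : Ω, x • ω ≠ ω), False := by
    intro hsr
    obtain ⟨q, r, hq, hr, hqr, ⟨x, hx, hxq⟩, y, hy, hyr⟩ := hT.exists_two_primes
    refine not_isConj_of_orderOf_ne (by rw [hxq, hyr]; exact hqr) (isConj_of_card_eq_one h1
      (hsr x hx (fun e => ?_)) (hsr y hy (fun e => ?_)))
    · rw [e, orderOf_one] at hxq; exact hq.one_lt.ne hxq
    · rw [e, orderOf_one] at hyr; exact hr.one_lt.ne hyr
  rcases hcase with hTN | hsr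
  swap
  · exact hsemi hsr
  rcases hT.derangement_cases hmin hNt with hsr | ⟨x, hx, hx1, hxy⟩
  · exact hsemi hsr
  obtain ⟨g, hg⟩ := hT.exists_other hmin hTN
  obtain ⟨y, hy, hyp, -⟩ := (hT.cj g).exists_orderOf_ne 0
  have hyB : y ∈ N ⊓ Subgroup.centralizer (T : Set G) :=
    ⟨(hT.cj g).le hy, hT.le_centralizer_of_ne (hT.cj g) hg hy⟩
  refine hT.not_isConj_mul (hT.cj g) hg hx hx1 hy (fun e => ?_)
    (isConj_of_card_eq_one h1 (fun ω => ?_) (hxy y hyB))
  · rw [e, orderOf_one] at hyp; exact Nat.not_prime_one hyp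
  · simpa using hxy 1 (one_mem _) ω

end Affine

end Cfsg.Agent.RecogB
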