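import Cfsg.Agent.RecogB.Derangement

/-! The index of the subgroup generated by the derangements. -/

set_option autoImplicit false

namespace Cfsg.Agent.RecogB

open MulAction
open scoped Pointwise

variable {G Ω : Type*} [Group G] [MulAction G Ω] [FaithfulSMul G Ω] [Finite G] [Finite Ω]

lemma dvd_invariant_erase (htrans : IsPretransitive G Ω) {a : Ω} (S : Set Ω) (ha : a ∈ S)
    (hS : ∀ h : G, h • a = a → ∀ x ∈ S, h • x ∈ S) :
    (derSub G Ω).index ∣ S.ncard - 1 := by
  rw [← Set.ncard_sdiff_singleton_of_mem ha, ← Nat.card_coe_set_eq]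
  refine dvd_card_of_invariant (H := stabilizer G a) (S \ {a}) (fun x hx h => ⟨hS h h.2 x hx.1, ?_⟩) ?_
  · intro he
    apply hx.2
    have he' : (h : G) • x = a := he
    have h2 : (h : G) • a = a := h.2
    exact smul_left_cancel (h : G) (he'.trans h2.symm)
  · intro x hx
    exact index_derSub_dvd_orbit (fun e => hx.2 e)

lemma index_dvd (htrans : IsPretransitive G Ω) :
    (derSub G Ω).index ∣ Nat.card Ω - 1 := by
  rcases isEmpty_or_nonempty Ω with hΩ | ⟨⟨a⟩⟩
  · simp
  · rw [← Set.ncard_univ]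
    exact dvd_invariant_erase htrans _ (Set.mem_univ a) (fun _ _ _ _ => Set.mem_univ _)

lemma prime_pow_of_index_eq (htrans : IsPretransitive G Ω) (h2 : 2 ≤ Nat.card Ω)
    (hidx : (derSub G Ω).index = Nat.card Ω - 1) : IsPrimePow (Nat.card Ω) := by
  classical
  obtain ⟨⟨a⟩⟩ := (Nat.card_pos_iff.mp (show 0 < Nat.card Ω by omega)).1 |> fun h => (⟨h⟩ : Nonempty (Nonempty Ω))
  let D := derSub G Ω
  have hDn : D.Normal := derSub_normal
  have hDt : IsPretransitive D Ω := derSub_transitive
  have hsub : ∀ b : Ω, b ≠ a → (orbit (stabilizer G a) b) ⊆ Set.univ \ {a} := by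
    rintro b hb _ ⟨h, rfl⟩
    refine ⟨trivial, fun e => hb ?_⟩
    have h2 : (h : G) • a = a := h.2
    exact smul_left_cancel (h : G) ((show (h : G) • b = a from e).trans h2.symm)
  have horb : ∀ b : Ω, b ≠ a → orbit (stabilizer G a) b = Set.univ \ {a} := by
    intro b hb
    refine Set.eq_of_subset_of_ncard_le (hsub b hb) ?_ (Set.toFinite _)
    rw [Set.ncard_sdiff_singleton_of_mem (Set.mem_univ a), Set.ncard_univ, ← hidx, ← Nat.card_coe_set_eq]
    exact Nat.le_of_dvd (by
      have : Nonempty (orbit (stabilizer G a) b) := ⟨⟨b, mem_orbit_self b⟩⟩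
      exact Nat.card_pos) (index_derSub_dvd_orbit hb)
  have hreg : ∀ d : G, d ∈ D → d • a = a → d = 1 := by
    intro d hd hda
    refine FaithfulSMul.eq_of_smul_eq_smul (fun b : Ω => ?_)
    rw [one_smul]
    by_cases hb : b = a
    · rw [hb, hda]
    by_contra hne
    let S := stabilizer (stabilizer G a) b
    have hle : S ≤ D.subgroupOf (stabilizer G a) := by
      intro s hs
      rw [Subgroup.mem_subgroupOf]
      by_contra hn
      exact hb (fix_unique (a := b) (b := a) hn hs s.2)
    have hix : (D.subgroupOf (stabilizer G a)).index = S.index := by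
      rw [index_stabilizer, horb b hb, Set.ncard_sdiff_singleton_of_mem (Set.mem_univ a),
        Set.ncard_univ, ← hidx, ← index_derSub_eq (G := G) a]
      rfl
    have heq : S = D.subgroupOf (stabilizer G a) := by
      refine Subgroup.eq_of_le_of_card_ge hle (le_of_eq ?_)
      have h1 := S.card_mul_index
      have h2 := (D.subgroupOf (stabilizer G a)).card_mul_index
      rw [hix] at h2
      exact Nat.eq_of_mul_eq_mul_right (Nat.pos_of_ne_zero Subgroup.index_ne_zero_of_finite)
        (h2.trans h1.symm)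
    have hmem : (⟨d, hda⟩ : stabilizer G a) ∈ S := by
      rw [heq, Subgroup.mem_subgroupOf]; exact hd
    exact hne hmem
  have hcardD : Nat.card D = Nat.card Ω := by
    refine Nat.card_eq_of_bijective (fun d : D => (d : G) • a) ⟨fun d e h => ?_, fun y => ?_⟩
    · refine (inv_mul_eq_one.mp (Subtype.ext (hreg _ (mul_mem (inv_mem e.2) d.2) ?_) : e⁻¹ * d = 1)).symm
      have h' : (d : G) • a = (e : G) • a := h
      rw [Subgroup.coe_mul, Subgroup.coe_inv, mul_smul, h', inv_smul_smul]
    · exact exists_smul_eq D a y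
  have hconj : ∀ x y : G, x ∈ D → y ∈ D → x ≠ 1 → y ≠ 1 → orderOf x = orderOf y := by
    intro x y hx hy hx1 hy1
    have hxa : x • a ≠ a := fun e => hx1 (hreg x hx e)
    have hya : y • a ≠ a := fun e => hy1 (hreg y hy e)
    have : y • a ∈ orbit (stabilizer G a) (x • a) := by
      rw [horb _ hxa]; exact ⟨trivial, hya⟩
    obtain ⟨h, hh⟩ := this
    have hh' : (h : G) • x • a = y • a := hh
    have hinv : (h : G)⁻¹ • a = a := by
      rw [inv_smul_eq_iff]; exact (show (h : G) • a = a from h.2).symm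
    have heq : MulAut.conj (h : G) x = y := by
      rw [← inv_mul_eq_one]
      refine hreg _ (mul_mem (inv_mem ?_) hy) ?_
      · rw [MulAut.conj_apply]; exact hDn.conj_mem x hx _
      · rw [mul_smul, inv_smul_eq_iff, MulAut.conj_apply, mul_smul, mul_smul, hinv, hh']
    rw [← heq, MulEquiv.orderOf_eq]
  obtain ⟨p, hp, hpn⟩ := Nat.exists_prime_and_dvd (n := Nat.card D) (by omega)
  have : Fact p.Prime := ⟨hp⟩
  obtain ⟨x, hx⟩ := exists_prime_orderOf_dvd_card' p hpn
  have hP : IsPGroup p D := by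
    intro y
    by_cases hy : y = 1
    · exact ⟨0, by simp [hy]⟩
    refine ⟨1, ?_⟩
    have hx1 : (x : G) ≠ 1 := fun e => by
      rw [← Subgroup.orderOf_coe, e, orderOf_one] at hx; exact hp.one_lt.ne hx
    have := hconj x y x.2 y.2 hx1 (fun e => hy (Subtype.ext e))
    rw [Subgroup.orderOf_coe, Subgroup.orderOf_coe, hx] at this
    rw [pow_one, this]; exact pow_orderOf_eq_one y
  obtain ⟨k, hk⟩ := IsPGroup.iff_card.mp hP
  rw [← hcardD, hk]
  refine (IsPrimePow.pow hp.isPrimePow ?_)
  intro hk0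
  rw [hk0, pow_zero, hcardD] at hk
  omega

lemma index_add_one_sq_le (htrans : IsPretransitive G Ω) (himp : ¬ IsPreprimitive G Ω) :
    ((derSub G Ω).index + 1) ^ 2 ≤ Nat.card Ω := by
  obtain ⟨⟨a⟩⟩ : Nonempty (Nonempty Ω) := by
    refine ⟨?_⟩
    by_contra h
    rw [not_nonempty_iff] at h
    exact himp IsPreprimitive.of_subsingleton
  obtain ⟨B, haB, hB, hnt⟩ : ∃ B : Set Ω, a ∈ B ∧ IsBlock G B ∧ ¬ IsTrivialBlock B := by
    by_contra h
    push Not at h
    exact himp (IsPreprimitive.of_isTrivialBlock_base a (fun {B} h1 h2 => h B h1 h2))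
  have hm : 2 ≤ B.ncard := by
    have : ¬ B.Subsingleton := fun h => hnt (Or.inl h)
    by_contra hlt
    exact this (fun x hx y hy => (Set.ncard_le_one (Set.toFinite _)).mp (by omega) x hx y hy)
  have hmn := hB.ncard_block_mul_ncard_orbit_eq ⟨a, haB⟩
  have hk : 2 ≤ (orbit G B).ncard := by
    by_contra hlt
    apply hnt; right
    have h1 : (orbit G B).ncard = 1 := by
      have : 0 < (orbit G B).ncard := Set.ncard_pos (Set.toFinite _) |>.mpr ⟨B, mem_orbit_self B⟩
      omega
    rw [h1, mul_one, ← Set.ncard_univ] at hmn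
    exact Set.eq_of_subset_of_ncard_le (Set.subset_univ _) hmn.ge (Set.toFinite _)
  have hd1 : (derSub G Ω).index ∣ B.ncard - 1 := by
    refine dvd_invariant_erase htrans B haB (fun h hh x hx => ?_)
    have := hB.smul_eq_of_mem haB (g := h) (by rw [hh]; exact haB)
    rw [← this]
    exact Set.smul_mem_smul_set hx
  have hdn := index_dvd (G := G) (Ω := Ω) htrans
  set d := (derSub G Ω).index
  set m := B.ncard
  set k := (orbit G B).ncard
  rw [← hmn] at hdn ⊢
  have hd2 : d ∣ k - 1 := by
    have h3 : m * k - 1 = (m - 1) * k + (k - 1) := by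
      obtain ⟨m', hm'⟩ : ∃ m', m = m' + 1 := ⟨m - 1, by omega⟩
      rw [hm', Nat.add_sub_cancel, add_mul, one_mul]; omega
    rw [h3] at hdn
    exact (Nat.dvd_add_right (Dvd.dvd.mul_right hd1 k)).mp hdn
  have l1 := Nat.le_of_dvd (by omega) hd1
  have l2 := Nat.le_of_dvd (by omega) hd2
  rw [sq]
  exact Nat.mul_le_mul (by omega) (by omega)

end Cfsg.Agent.RecogB
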