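import Mathlib

/-! A map on a prime field determining fewer than half of all directions is affine. -/

set_option autoImplicit false

namespace Cfsg.Agent.RecogB

open Polynomial

variable {p : ℕ} [Fact p.Prime]

lemma sum_eval_eq_neg_coeff (Q : (ZMod p)[X]) (hQ : Q.natDegree ≤ p - 1) :
    ∑ x : ZMod p, Q.eval x = -Q.coeff (p - 1) := by
  have hp : p.Prime := Fact.out
  have h2 := hp.two_le
  simp_rw [Polynomial.eval_eq_sum_range' (show Q.natDegree < p - 1 + 1 by omega)]
  rw [Finset.sum_comm, Finset.sum_range_succ, Finset.sum_eq_zero, zero_add, ← Finset.mul_sum]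
  · have h : ∑ x : ZMod p, x ^ (p - 1) = -1 := by
      have h1 : ∀ x : ZMod p, x ^ (p - 1) = if x = 0 then 0 else 1 := by
        intro x
        split_ifs with hx
        · rw [hx, zero_pow (by omega)]
        · exact ZMod.pow_card_sub_one_eq_one hx
      simp_rw [h1]
      rw [Finset.sum_ite, Finset.sum_const_zero, zero_add, Finset.sum_const, nsmul_one,
        Finset.filter_ne', Finset.card_erase_of_mem (Finset.mem_univ _), Finset.card_univ, ZMod.card,
        Nat.cast_sub hp.one_le, ZMod.natCast_self, Nat.cast_one, zero_sub]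
    rw [h, mul_neg_one]
  · intro i hi
    rw [← Finset.mul_sum, FiniteField.sum_pow_lt_card_sub_one (ZMod p) i
      (by rw [ZMod.card]; exact Finset.mem_range.mp hi), mul_zero]

/-- A permutation `f` of the prime field such that `x ↦ f x + c x` is a permutation for more than
`(p - 1) / 2` values of `c` is affine. -/
theorem affine_of_few_directions (hp2 : p ≠ 2) (f : ZMod p → ZMod p) (hf : Function.Injective f)
    (C : Finset (ZMod p)) (hC : (p - 1) / 2 < C.card)
    (hperm : ∀ c ∈ C, Function.Injective (fun x => f x + c * x)) :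
    ∃ a b : ZMod p, ∀ x, f x = a * x + b := by
  classical
  have hp : p.Prime := Fact.out
  have h2 := hp.two_le
  obtain ⟨K, hK⟩ := hp.odd_of_ne_two hp2
  have hsum : ∀ g : ZMod p → ZMod p, Function.Injective g → ∀ k, k < p - 1 → ∑ x, g x ^ k = 0 := by
    intro g hg k hk
    refine (Equiv.sum_comp (Equiv.ofBijective g (Finite.injective_iff_bijective.mp hg)) (fun y => y ^ k)).trans ?_
    exact FiniteField.sum_pow_lt_card_sub_one (ZMod p) k (by rwa [ZMod.card])
  have hmom : ∀ i j : ℕ, i + j ≤ (p - 1) / 2 → ∑ x : ZMod p, x ^ i * f x ^ j = 0 := by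
    intro i j hij
    let Q : (ZMod p)[X] := ∑ x : ZMod p, (Polynomial.C x * X + Polynomial.C (f x)) ^ (i + j)
    have hQdeg : Q.natDegree ≤ i + j := by
      refine natDegree_sum_le_of_forall_le _ _ (fun x _ => natDegree_pow_le.trans ?_)
      calc (i + j) * (Polynomial.C x * X + Polynomial.C (f x)).natDegree
          ≤ (i + j) * 1 := Nat.mul_le_mul_left _ natDegree_linear_le
        _ = i + j := mul_one _
    have hQ : Q = 0 := by
      refine eq_zero_of_natDegree_lt_card_of_eval_eq_zero' Q C (fun c hc => ?_) (by omega)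
      rw [eval_finsetSum]
      refine Eq.trans (Finset.sum_congr rfl fun x _ => ?_) (hsum _ (hperm c hc) (i + j) (by omega))
      rw [eval_pow, eval_add, eval_mul, eval_C, eval_X, eval_C, add_comm, mul_comm x c]
    have h1 : Q.coeff i = ∑ x : ZMod p, x ^ i * f x ^ j * ((i + j).choose i : ZMod p) := by
      rw [finsetSum_coeff]
      refine Finset.sum_congr rfl fun x _ => ?_
      rw [add_pow, finsetSum_coeff, Finset.sum_eq_single i]
      · rw [Nat.add_sub_cancel_left, mul_pow, ← C_eq_natCast, ← C_pow, ← C_pow,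
          mul_right_comm (Polynomial.C (x ^ i)), mul_right_comm (Polynomial.C (x ^ i) * Polynomial.C (f x ^ j)),
          ← C_mul, ← C_mul, coeff_C_mul, coeff_X_pow_self, mul_one]
      · intro l _ hl
        rw [mul_pow, ← C_eq_natCast, ← C_pow, ← C_pow,
          mul_right_comm (Polynomial.C (x ^ l)), mul_right_comm (Polynomial.C (x ^ l) * Polynomial.C (f x ^ (i + j - l))),
          ← C_mul, ← C_mul, coeff_C_mul, coeff_X_pow, if_neg (Ne.symm hl), mul_zero]
      · intro h; exact absurd (Finset.mem_range.mpr (by omega)) h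
    rw [hQ, coeff_zero, ← Finset.sum_mul] at h1
    refine (mul_eq_zero.mp h1.symm).resolve_right (fun h => ?_)
    rw [ZMod.natCast_eq_zero_iff] at h
    have h3 : p ∣ (i + j).factorial := by
      rw [← Nat.choose_mul_factorial_mul_factorial (Nat.le_add_right i j), mul_assoc]
      exact dvd_mul_of_dvd_left h _
    have := hp.dvd_factorial.mp h3
    omega
  let P : (ZMod p)[X] := Lagrange.interpolate Finset.univ id f
  have hP : ∀ x, P.eval x = f x := fun x =>
    Lagrange.eval_interpolate_at_node f (Set.injOn_id _) (Finset.mem_univ x)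
  have hPdeg : P.natDegree ≤ p - 1 := by
    have h := Lagrange.degree_interpolate_le (s := (Finset.univ : Finset (ZMod p))) (v := id) f (Set.injOn_id _)
    rw [Finset.card_univ, ZMod.card] at h
    exact natDegree_le_iff_degree_le.mpr h
  by_cases hn : P.natDegree ≤ 1
  · refine ⟨P.coeff 1, P.coeff 0, fun x => ?_⟩
    rw [← hP]
    conv_lhs => rw [eq_X_add_C_of_natDegree_le_one hn]
    simp
  exfalso
  set n := P.natDegree with hndef
  have hP0 : P ≠ 0 := fun e => hn (by rw [hndef, e, natDegree_zero]; omega)
  have key : ∀ i j : ℕ, i + j * n = p - 1 → (∑ x : ZMod p, x ^ i * f x ^ j) ≠ 0 := by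
    intro i j he h0
    have hdeg : (X ^ i * P ^ j).natDegree = p - 1 := by
      rw [natDegree_mul (pow_ne_zero _ X_ne_zero) (pow_ne_zero _ hP0), natDegree_X_pow, natDegree_pow]
      exact he
    have h1 := sum_eval_eq_neg_coeff (X ^ i * P ^ j) hdeg.le
    simp_rw [eval_mul, eval_pow, eval_X, hP] at h1
    rw [h0, ← hdeg, coeff_natDegree, leadingCoeff_mul, leadingCoeff_X_pow, one_mul, leadingCoeff_pow,
      eq_comm, neg_eq_zero] at h1
    exact pow_ne_zero _ (leadingCoeff_ne_zero.mpr hP0) h1
  rcases eq_or_lt_of_le hPdeg with he | hlt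
  · exact key 0 1 (by omega) (hmom 0 1 (by omega))
  · have hdiv := Nat.div_add_mod (p - 1) n
    have hmod := Nat.mod_lt (p - 1) (show n > 0 by omega)
    refine key ((p - 1) % n) ((p - 1) / n) (by rw [mul_comm]; omega) (hmom _ _ ?_)
    set q := (p - 1) / n
    set r := (p - 1) % n
    rcases Nat.lt_or_ge q 2 with hq | hq
    · interval_cases q <;> omega
    · rcases Nat.lt_or_ge n 3 with h3 | h3
      · interval_cases n <;> omega
      · have : 2 * (n - 2) ≤ q * (n - 2) := Nat.mul_le_mul_right _ hq
        have : q * n = q * (n - 2) + q * 2 := by rw [← mul_add]; congr 1; omega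
        rw [mul_comm] at hdiv
        omega

end Cfsg.Agent.RecogB
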