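import Cfsg.Agent.Lib.Perm.Basic

/-! The point stabiliser of an extremely primitive group is faithful on each suborbit. -/

set_option autoImplicit false

namespace Cfsg.Agent.RecogB

open MulAction
open scoped Pointwise

variable {G Ω : Type*} [Group G] [MulAction G Ω]

lemma card_suborbit_swap [Finite G] [IsPretransitive G Ω] (a b : Ω) :
    Nat.card (orbit (stabilizer G b) a) = Nat.card (orbit (stabilizer G a) b) := by
  have e : stabilizer (stabilizer G b) a ≃ stabilizer (stabilizer G a) b :=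
    { toFun := fun x => ⟨⟨x.1.1, x.2⟩, x.1.2⟩
      invFun := fun x => ⟨⟨x.1.1, x.2⟩, x.1.2⟩
      left_inv := fun x => rfl
      right_inv := fun x => rfl }
  obtain ⟨g, hg⟩ := exists_smul_eq G a b
  have hst : Nat.card (stabilizer G b) = Nat.card (stabilizer G a) :=
    Nat.card_congr (stabilizerEquivStabilizer hg.symm).toEquiv.symm
  have h1 := Cfsg.Agent.Perm.card_orbit_mul_card_stabilizer (G := stabilizer G b) a
  have h2 := Cfsg.Agent.Perm.card_orbit_mul_card_stabilizer (G := stabilizer G a) b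
  rw [Nat.card_congr e, hst, ← h2] at h1
  exact Nat.eq_of_mul_eq_mul_right Nat.card_pos h1

/-- A normal subgroup of the point stabiliser fixes a suborbit pointwise or is transitive on it. -/
lemma normal_trichotomy {a : Ω} (K : Subgroup G) (hK : K ≤ stabilizer G a)
    (hn : ∀ h ∈ stabilizer G a, ∀ k ∈ K, h * k * h⁻¹ ∈ K) {b : Ω}
    (hp : IsPreprimitive (stabilizer G a) (orbit (stabilizer G a) b)) :
    (∀ k ∈ K, ∀ x ∈ orbit (stabilizer G a) b, k • x = x) ∨
    (∀ x ∈ orbit (stabilizer G a) b, ∀ y ∈ orbit (stabilizer G a) b, ∃ k ∈ K, k • x = y) := by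
  have hnorm : (K.subgroupOf (stabilizer G a)).Normal := ⟨fun k hk h => hn h h.2 k hk⟩
  by_cases hfix : fixedPoints (K.subgroupOf (stabilizer G a)) (orbit (stabilizer G a) b) = Set.univ
  · left
    intro k hk x hx
    have : (⟨x, hx⟩ : orbit (stabilizer G a) b) ∈
        fixedPoints (K.subgroupOf (stabilizer G a)) (orbit (stabilizer G a) b) := hfix ▸ Set.mem_univ _
    exact congrArg Subtype.val (this ⟨⟨k, hK hk⟩, hk⟩)
  · right
    have := IsQuasiPreprimitive.isPretransitive_of_normal (G := stabilizer G a) hfix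
    intro x hx y hy
    obtain ⟨k, hk⟩ := exists_smul_eq (K.subgroupOf (stabilizer G a))
      (⟨x, hx⟩ : orbit (stabilizer G a) b) ⟨y, hy⟩
    exact ⟨((k : stabilizer G a) : G), k.2, congrArg Subtype.val hk⟩

lemma normalizer_eq_top_of_primitive [Finite G] [IsPreprimitive G Ω] [Nontrivial Ω] {a : Ω}
    (K : Subgroup G) (hn : ∀ h ∈ stabilizer G a, ∀ k ∈ K, h * k * h⁻¹ ∈ K)
    {g : G} (hg : g • a ≠ a) (hgK : ∀ k ∈ K, g * k * g⁻¹ ∈ K) : K.Normal := by
  have hmem : ∀ h : G, (∀ k ∈ K, h * k * h⁻¹ ∈ K) → h ∈ Subgroup.normalizer (K : Set G) := by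
    intro h hh
    exact (Subgroup.mem_normalizer_fintype (fun k hk => hh k hk) : _)
  have hlt : stabilizer G a < Subgroup.normalizer (K : Set G) := by
    refine lt_of_le_of_ne (fun h hh => hmem h (hn h hh)) (fun e => hg ?_)
    have : g ∈ stabilizer G a := e ▸ hmem g hgK
    exact this
  have := (IsPreprimitive.isCoatom_stabilizer_of_isPreprimitive G a).2 _ hlt
  exact Subgroup.normalizer_eq_top_iff.mp this

variable [FaithfulSMul G Ω] [Finite G] [Finite Ω]

/-- The point stabiliser of an extremely primitive group is faithful on each suborbit. -/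
theorem suborbit_faithful [IsPreprimitive G Ω] (hH : ∀ a : Ω, stabilizer G a ≠ ⊥)
    (hep : ∀ a b : Ω, IsPreprimitive (stabilizer G a) (orbit (stabilizer G a) b))
    {α ω : Ω} (hω : ω ≠ α) {h : G} (hh : h ∈ stabilizer G α)
    (hfix : ∀ x ∈ orbit (stabilizer G α) ω, h • x = x) : h = 1 := by
  classical
  have : Nontrivial Ω := ⟨⟨ω, α, hω⟩⟩
  by_contra h1
  set O := orbit (stabilizer G α) ω with hO
  have hOinv : ∀ u ∈ stabilizer G α, ∀ x ∈ O, u • x ∈ O := by
    rintro u hu _ ⟨v, rfl⟩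
    exact ⟨⟨u, hu⟩ * v, mul_smul u (v : G) ω⟩
  let K : Subgroup G := stabilizer G α ⊓ fixingSubgroup G O
  have hKn : ∀ u ∈ stabilizer G α, ∀ k ∈ K, u * k * u⁻¹ ∈ K := by
    intro u hu k hk
    refine Subgroup.mem_inf.mpr ⟨mul_mem (mul_mem hu hk.1) (Subgroup.inv_mem _ hu), ?_⟩
    rw [mem_fixingSubgroup_iff]
    intro x hx
    have := (mem_fixingSubgroup_iff G).mp hk.2 _ (hOinv u⁻¹ (inv_mem hu) x hx)
    rw [mul_smul, mul_smul, this, smul_inv_smul]
  have hK1 : K ≠ ⊥ := fun e => by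
    have : h ∈ K := ⟨hh, (mem_fixingSubgroup_iff G).mpr hfix⟩
    rw [e, Subgroup.mem_bot] at this
    exact h1 this
  obtain ⟨g, hgO, β₀, hβ₀, k₀, hk₀, hmove⟩ :
      ∃ g : G, g • α ∈ O ∧ ∃ β ∈ g • O, ∃ k ∈ K, k • β ≠ β := by
    by_contra hc
    push Not at hc
    obtain ⟨g, hg⟩ := exists_smul_eq G α ω
    have hgO : g • α ∈ O := hg ▸ mem_orbit_self ω
    let K' : Subgroup G := K.map (MulAut.conj g).toMonoidHom
    have hle : K ≤ K' := by
      intro k hk
      refine ⟨g⁻¹ * k * g, Subgroup.mem_inf.mpr ⟨?_, ?_⟩, by simp [mul_assoc]⟩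
      · rw [mem_stabilizer_iff, mul_smul, mul_smul, inv_smul_eq_iff]
        exact (mem_fixingSubgroup_iff G).mp hk.2 _ hgO
      · rw [mem_fixingSubgroup_iff]
        intro x hx
        rw [mul_smul, mul_smul, inv_smul_eq_iff]
        exact hc g hgO _ (Set.smul_mem_smul_set hx) k hk
    have heq : K = K' := Subgroup.eq_of_le_of_card_ge hle
      (by rw [Subgroup.card_map_of_injective (MulAut.conj g).injective])
    have hn := normalizer_eq_top_of_primitive K hKn (g := g) (hg ▸ hω) (fun k hk => by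
      rw [heq]; exact ⟨k, hk, by simp⟩)
    refine hK1 ?_
    by_contra hne
    have := Cfsg.Agent.Perm.isPretransitive_of_normal_ne_bot (X := Ω) K hne
    obtain ⟨k, hk, e⟩ := Cfsg.Agent.Perm.subgroup_exists_smul_eq (N := K) α ω
    have hkα : k • α = α := hk.1
    exact hω (e.symm.trans hkα)
  set Δ := orbit (stabilizer G α) β₀ with hΔ
  have htr := (normal_trichotomy K inf_le_left hKn (hep α β₀)).resolve_left
    (fun h => hmove (h k₀ hk₀ β₀ (mem_orbit_self β₀)))
  have hΔg : ∀ β ∈ Δ, β ∈ g • O := by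
    intro β hβ
    obtain ⟨k, hk, rfl⟩ := htr β₀ (mem_orbit_self β₀) β hβ
    have hc : g⁻¹ * k * g ∈ stabilizer G α := by
      rw [mem_stabilizer_iff, mul_smul, mul_smul, inv_smul_eq_iff]
      exact (mem_fixingSubgroup_iff G).mp hk.2 _ hgO
    obtain ⟨x, hx, rfl⟩ := hβ₀
    exact ⟨(g⁻¹ * k * g) • x, hOinv _ hc x hx, by simp [mul_smul]⟩
  let R : Ω → Set Ω := fun x => {y | ∃ u : G, u • α = y ∧ u • ω = x}
  have hRsmul : ∀ (u : G) (x : Ω), R (u • x) = u • R x := by
    intro u x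
    ext y
    constructor
    · rintro ⟨v, hv, hv'⟩
      exact ⟨u⁻¹ • y, ⟨u⁻¹ * v, by rw [mul_smul, hv], by rw [mul_smul, hv', inv_smul_smul]⟩, smul_inv_smul u y⟩
    · rintro ⟨z, ⟨v, rfl, rfl⟩, rfl⟩
      exact ⟨u * v, mul_smul u v α, mul_smul u v ω⟩
  have hRω : R ω = orbit (stabilizer G ω) α := by
    ext y
    constructor
    · rintro ⟨u, rfl, hu⟩; exact ⟨⟨u, hu⟩, rfl⟩
    · rintro ⟨u, rfl⟩; exact ⟨u, rfl, u.2⟩
  have hRcard : ∀ x, (R x).ncard = O.ncard := by
    intro x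
    obtain ⟨u, rfl⟩ := exists_smul_eq G ω x
    rw [hRsmul, Set.ncard_smul_set, hRω, ← Nat.card_coe_set_eq, card_suborbit_swap, Nat.card_coe_set_eq]
  have hRΔ : ∀ β ∈ Δ, R β = O := by
    intro β hβ
    refine (Set.eq_of_subset_of_ncard_le ?_ (hRcard β).le (Set.toFinite _)).symm
    intro ω'' hω''
    obtain ⟨⟨u₁, hu₁⟩, e₁⟩ := hω''
    obtain ⟨⟨u₂, hu₂⟩, e₂⟩ := hgO
    have e₁' : u₁ • ω = ω'' := e₁
    have e₂' : u₂ • ω = g • α := e₂
    let u := u₁ * u₂⁻¹
    have hu : u ∈ stabilizer G α := mul_mem hu₁ (inv_mem hu₂)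
    have huω : u • g • α = ω'' := by rw [← e₂', ← mul_smul, inv_mul_cancel_right, e₁']
    obtain ⟨v, hv⟩ := hβ
    have hmem : u⁻¹ • β ∈ Δ := by
      refine ⟨⟨u⁻¹, inv_mem hu⟩ * v, ?_⟩
      show (u⁻¹ * (v : G)) • β₀ = u⁻¹ • β
      rw [mul_smul, ← hv]; rfl
    obtain ⟨z, ⟨⟨w, hw⟩, rfl⟩, hz⟩ := hΔg _ hmem
    refine ⟨u * g * w, ?_, ?_⟩
    · rw [mul_smul, mul_smul, mem_stabilizer_iff.mp hw, huω]
    · have hz' : g • w • ω = u⁻¹ • β := hz
      rw [mul_smul, mul_smul, hz', smul_inv_smul]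
  have hblock : IsBlock G {x | R x = O} := by
    refine isBlock_iff_smul_eq_of_nonempty.mpr (fun u => ?_)
    rintro ⟨y, ⟨x, hx, rfl⟩, hy⟩
    have huO : u • O = O := by
      have hy' : R (u • x) = O := hy
      rw [hRsmul, (show R x = O from hx)] at hy'
      exact hy'
    ext z
    constructor
    · rintro ⟨w, hw, rfl⟩
      show R (u • w) = O
      rw [hRsmul, (show R w = O from hw), huO]
    · intro hz
      refine ⟨u⁻¹ • z, ?_, smul_inv_smul u z⟩
      show R (u⁻¹ • z) = O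
      rw [hRsmul, (show R z = O from hz), inv_smul_eq_iff, huO]
  rcases IsPreprimitive.isTrivialBlock_of_isBlock hblock with hb | hb
  · refine hmove (hb (?_ : k₀ • β₀ ∈ _) (hRΔ β₀ (mem_orbit_self β₀)))
    exact hRΔ _ ⟨⟨k₀, hk₀.1⟩, rfl⟩
  · have hωO : R ω = O := (Set.eq_univ_iff_forall.mp hb ω)
    have : α ∈ O := hωO ▸ hRω.symm ▸ mem_orbit_self α
    obtain ⟨⟨u, hu⟩, e⟩ := this
    have e' : u • ω = α := e
    exact hω (MulAction.injective u (e'.trans (mem_stabilizer_iff.mp hu).symm))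

end Cfsg.Agent.RecogB
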