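import Cfsg.Agent.RecogB.PrimCases
import Cfsg.Agent.RecogB.Suborbit
import Cfsg.Agent.RecogB.CentCount

/-! Extremely primitive groups are affine or almost simple. -/

set_option autoImplicit false

namespace Cfsg.Agent.RecogB

open MulAction

variable {G Ω : Type*} [Group G] [MulAction G Ω] [FaithfulSMul G Ω] [Finite G] [Finite Ω]

omit [FaithfulSMul G Ω] [Finite Ω] in
/-- No regular simple subgroup whose conjugation is realised inside the point stabiliser. -/
lemma false_of_regular_simple (hep : ∀ a b : Ω, IsPreprimitive (stabilizer G a) (orbit (stabilizer G a) b))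
    (a : Ω) (T : Subgroup G) (hTs : IsSimpleGroup T) (hTna : ¬ IsMulCommutative T)
    (hTreg : stabilizer T a = ⊥) (ι : T →* stabilizer G a) (hιn : ι.range.Normal)
    (hι : ∀ c t : T, (ι c : G) • (t : G) • a = ((c * t * c⁻¹ : T) : G) • a)
    (hpow : ∀ h ∈ stabilizer G a, ∀ t : T, h • (t : G) • a = (t : G) • a →
      ∀ i : ℤ, h • ((t ^ i : T) : G) • a = ((t ^ i : T) : G) • a) : False := by
  classical
  let S : T → Subgroup (stabilizer G a) := fun t => stabilizer (stabilizer G a) ((t : G) • a)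
  have hC : ∀ t : T, (S t).comap ι = Subgroup.centralizer ({t} : Set T) := by
    intro t
    ext c
    rw [Subgroup.mem_comap, Subgroup.mem_centralizer_singleton_iff]
    show (ι c : G) • (t : G) • a = (t : G) • a ↔ _
    rw [hι]
    constructor
    · intro e
      have h1 : (c * t * c⁻¹ : T) = t := Subtype.ext
        (Cfsg.Agent.Perm.regular_unique hTreg (c * t * c⁻¹).2 t.2 e)
      calc c * t = (c * t * c⁻¹) * c := by group
        _ = t * c := by rw [h1]
    · intro e
      rw [e, mul_inv_cancel_right]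
  have hctop : ∀ t : T, t ≠ 1 → Subgroup.centralizer ({t} : Set T) ≠ ⊤ := by
    intro t ht e
    rcases (inferInstance : (Subgroup.center T).Normal).eq_bot_or_eq_top with h3 | h3
    · have hm : t ∈ Subgroup.center T := Subgroup.mem_center_iff.mpr (fun u => by
        have : u ∈ Subgroup.centralizer ({t} : Set T) := e ▸ Subgroup.mem_top u
        exact Subgroup.mem_centralizer_singleton_iff.mp this)
      rw [h3, Subgroup.mem_bot] at hm
      exact ht hm
    · exact hTna ⟨⟨fun u v => (Subgroup.mem_center_iff.mp (h3 ▸ Subgroup.mem_top u) v).symm⟩⟩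
  have hSne : ∀ t : T, t ≠ 1 → S t ≠ ⊤ := by
    intro t ht e
    apply hctop t ht
    rw [← hC, e, Subgroup.comap_top]
  have hco : ∀ t : T, t ≠ 1 → IsCoatom (S t) := by
    intro t ht
    let b : orbit (stabilizer G a) ((t : G) • a) := ⟨(t : G) • a, mem_orbit_self _⟩
    have hst : S t = stabilizer (stabilizer G a) b := by
      ext h
      rw [mem_stabilizer_iff, mem_stabilizer_iff, Subtype.ext_iff]
      rfl
    have := hep a ((t : G) • a)
    have : Nontrivial (orbit (stabilizer G a) ((t : G) • a)) := by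
      rw [← not_subsingleton_iff_nontrivial]
      intro hs
      apply hSne t ht
      rw [eq_top_iff]
      intro h _
      rw [hst]
      exact Subsingleton.elim _ _
    rw [hst]
    exact IsPreprimitive.isCoatom_stabilizer_of_isPreprimitive _ b
  refine false_of_centralizers (X := T) hTna ?_ ?_
  · intro x hx y hy hy1
    obtain ⟨i, rfl⟩ := hy
    have hle : S x ≤ S (x ^ i) := fun h hh => hpow h h.2 x hh i
    rcases eq_or_lt_of_le hle with h | h
    · show Subgroup.centralizer ({x ^ i} : Set T) = _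
      rw [← hC, ← hC, h]
    · exact absurd ((hco x hx).2 _ h) (hSne _ hy1)
  · intro x hx n hn
    let D : Subgroup (stabilizer G a) := (Subgroup.centralizer ({x} : Set T)).map ι
    have hle : S x ≤ Subgroup.normalizer (D : Set (stabilizer G a)) := by
      intro s hs
      refine Subgroup.mem_normalizer_fintype (S := (D : Set (stabilizer G a))) (fun d hd => ?_)
      obtain ⟨c, hc, rfl⟩ := hd
      obtain ⟨c', hc'⟩ := hιn.conj_mem (ι c) ⟨c, rfl⟩ s
      refine ⟨c', ?_, hc'⟩
      rw [SetLike.mem_coe, ← hC, Subgroup.mem_comap, hc']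
      have : ι c ∈ S x := by rw [← Subgroup.mem_comap, hC]; exact hc
      exact mul_mem (mul_mem hs this) (inv_mem hs)
    have hinj : Function.Injective ι := by
      rw [← MonoidHom.ker_eq_bot_iff]
      refine ((MonoidHom.normal_ker ι).eq_bot_or_eq_top).resolve_right (fun e => hctop x hx ?_)
      rw [eq_top_iff]
      intro c _
      rw [← hC, Subgroup.mem_comap, show ι c = 1 from MonoidHom.mem_ker.mp (by rw [e]; exact Subgroup.mem_top c)]
      exact one_mem _
    have hne : Subgroup.normalizer (D : Set (stabilizer G a)) ≠ ⊤ := by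
      intro e
      have hDn : D.Normal := Subgroup.normalizer_eq_top_iff.mp e
      have hCn : (Subgroup.centralizer ({x} : Set T)).Normal := by
        have := hDn.comap ι
        rwa [Subgroup.comap_map_eq_self_of_injective hinj] at this
      rcases hCn.eq_bot_or_eq_top with h | h
      · have : x ∈ Subgroup.centralizer ({x} : Set T) := Subgroup.mem_centralizer_singleton_iff.mpr rfl
        rw [h, Subgroup.mem_bot] at this
        exact hx this
      · exact hctop x hx h
    have heq : Subgroup.normalizer (D : Set (stabilizer G a)) = S x := by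
      rcases eq_or_lt_of_le hle with h | h
      · exact h.symm
      · exact absurd ((hco x hx).2 _ h) hne
    rw [← hC, Subgroup.mem_comap, ← heq]
    refine Subgroup.mem_normalizer_fintype (S := (D : Set (stabilizer G a))) (fun d hd => ?_)
    obtain ⟨c, hc, rfl⟩ := hd
    exact ⟨n * c * n⁻¹, hn c hc, by simp⟩

/-- The case of a regular simple minimal normal subgroup with nontrivial centraliser. -/
lemma false_of_simple_regular [IsPreprimitive G Ω]
    (hep : ∀ a b : Ω, IsPreprimitive (stabilizer G a) (orbit (stabilizer G a) b)) (a : Ω)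
    (N : Subgroup G) [hNn : N.Normal] (hNs : IsSimpleGroup N) (hNna : ¬ IsMulCommutative N)
    (hC : Subgroup.centralizer (N : Set G) ≠ ⊥) : False := by
  classical
  have hNne : N ≠ ⊥ := by rintro rfl; exact hNna inferInstance
  have := Cfsg.Agent.Perm.isPretransitive_of_normal_ne_bot (X := Ω) N hNne
  set K := Subgroup.centralizer (N : Set G)
  have hKn : K.Normal := inferInstanceAs (Subgroup.centralizer (N : Set G)).Normal
  have := Cfsg.Agent.Perm.isPretransitive_of_normal_ne_bot (X := Ω) K hC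
  have hreg : stabilizer N a = ⊥ := semiregular_of_centralizer_ne_bot hC a
  have hKreg : stabilizer K a = ⊥ :=
    Cfsg.Agent.Perm.stabilizer_eq_bot_of_commute (M := N)
      (fun m hm n hn => (Subgroup.mem_centralizer_iff.mp hn m hm).symm) a
  choose m hm hma using fun c : N => Cfsg.Agent.Perm.subgroup_exists_smul_eq (N := K) a ((c : G)⁻¹ • a)
  have hcm : ∀ (n : N) (c : N), (n : G) * m c = m c * (n : G) :=
    fun n c => Subgroup.mem_centralizer_iff.mp (hm c) n n.2
  have hfix : ∀ c : N, ((c : G) * m c) • a = a := fun c => by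
    rw [mul_smul, hma, smul_inv_smul]
  let ι : N →* stabilizer G a := MonoidHom.mk' (fun c => ⟨(c : G) * m c, hfix c⟩) (fun c d => by
    apply Subtype.ext
    have e : m (c * d) = m c * m d := by
      refine Cfsg.Agent.Perm.regular_unique hKreg (hm _) (mul_mem (hm c) (hm d)) ?_
      have hc2 : m c * (d : G)⁻¹ = (d : G)⁻¹ * m c := by
        have := hcm d⁻¹ c
        rw [Subgroup.coe_inv] at this
        exact this.symm
      rw [hma, mul_smul, hma d, ← mul_smul (m c), hc2, mul_smul, hma, ← mul_smul, Subgroup.coe_mul,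
        mul_inv_rev]
    show ((c * d : N) : G) * m (c * d) = ((c : G) * m c) * ((d : G) * m d)
    rw [e, Subgroup.coe_mul, mul_assoc (c : G) (m c), ← mul_assoc (m c) (d : G), ← hcm d c]
    group)
  have hrange : ι.range.Normal := by
    refine ⟨?_⟩
    rintro _ ⟨c, rfl⟩ ⟨u, hu⟩
    let c' : N := ⟨u * (c : G) * u⁻¹, hNn.conj_mem c c.2 u⟩
    refine ⟨c', Subtype.ext ?_⟩
    show (c' : G) * m c' = u * ((c : G) * m c) * u⁻¹
    have : u * m c * u⁻¹ = m c' := by
      refine Cfsg.Agent.Perm.regular_unique hKreg (hKn.conj_mem _ (hm c) u) (hm c') ?_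
      rw [hma, Cfsg.Agent.Perm.conj_smul_base hu, hma]
      show u • (c : G)⁻¹ • a = (u * (c : G) * u⁻¹)⁻¹ • a
      rw [← Cfsg.Agent.Perm.conj_smul_base hu]
      congr 1; group
    rw [← this]
    show u * (c : G) * u⁻¹ * (u * m c * u⁻¹) = _
    group
  refine false_of_regular_simple hep a N hNs hNna hreg ι hrange ?_ ?_
  · intro c t
    show ((c : G) * m c) • (t : G) • a = ((c * t * c⁻¹ : N) : G) • a
    rw [← mul_smul, mul_assoc, ← hcm t c, ← mul_assoc, mul_smul, hma c, ← mul_smul]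
    simp [mul_assoc]
  · intro h hh t ht i
    have e : h * (t : G) * h⁻¹ = (t : G) := by
      refine Cfsg.Agent.Perm.regular_unique hreg (hNn.conj_mem t t.2 h) t.2 ?_
      rw [Cfsg.Agent.Perm.conj_smul_base hh]; exact ht
    rw [← Cfsg.Agent.Perm.conj_smul_base hh, SubgroupClass.coe_zpow, ← conj_zpow, e]

lemma conj_noncommProd_eq {K : Type*} [Group K] [DecidableEq K] (s : Finset K) (h : K)
    (hh : s.image (fun y => h * y * h⁻¹) = s) (comm : (s : Set K).Pairwise (fun a b => Commute a b)) :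
    h * s.noncommProd id comm * h⁻¹ = s.noncommProd id comm := by
  refine (Finset.map_noncommProd s id comm (MulAut.conj h)).trans ?_
  have key : ∀ (t : Finset K) (ht : t = s) (c : (t : Set K).Pairwise (fun a b => Commute a b)),
      t.noncommProd id c = s.noncommProd id comm := by
    rintro t rfl c; rfl
  have himg := key (s.image (fun y => h * y * h⁻¹)) hh (by rw [hh]; exact comm)
  rw [← himg]
  simp only [Finset.noncommProd]
  congr 1
  rw [Finset.image_val_of_injOn (fun x _ y _ e => mul_left_cancel (mul_right_cancel e)), Multiset.map_map]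
  rfl

/-- The case of a regular non-simple minimal normal subgroup. -/
lemma false_of_regular_product [IsPreprimitive G Ω]
    (hep : ∀ a b : Ω, IsPreprimitive (stabilizer G a) (orbit (stabilizer G a) b)) (a : Ω)
    (N T : Subgroup G) [hNn : N.Normal] (hmin : ∀ M : Subgroup G, M.Normal → M ≤ N → M = ⊥ ∨ M = N)
    [hNt : IsPretransitive N Ω] (hT : IsFactor N T) (hTN : T ≠ N) (hreg : stabilizer N a = ⊥) : False := by
  classical
  have : Nontrivial T := (Subgroup.nontrivial_iff_ne_bot T).mpr hT.ne_bot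
  have hconjN : ∀ h ∈ stabilizer G a, ∀ x ∈ N, (h * x * h⁻¹) • a = h • x • a :=
    fun h hh x _ => Cfsg.Agent.Perm.conj_smul_base hh x
  -- elements of the stabiliser normalising `T` centralise it
  have hcent : ∀ h ∈ stabilizer G a, RecogB.cj h T = T → ∀ x ∈ T, h * x * h⁻¹ = x := by
    intro h hh hhT x hx
    by_cases hx1 : x = 1
    · simp [hx1]
    let O := orbit (stabilizer G a) (x • a)
    let B : Set O := {p | ∃ t ∈ T, t • a = (p : Ω)}
    have hB : IsBlock (stabilizer G a) B := by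
      refine isBlock_iff_smul_eq_of_nonempty.mpr (fun u => ?_)
      rintro ⟨p, ⟨q, ⟨t, ht, htq⟩, rfl⟩, t', ht', htp⟩
      have e : (u : G) * t * (u : G)⁻¹ = t' := by
        refine Cfsg.Agent.Perm.regular_unique hreg (hNn.conj_mem t (hT.le ht) _) (hT.le ht') ?_
        rw [hconjN _ u.2 t (hT.le ht), htq, htp]
        rfl
      have ht1 : t ≠ 1 := by
        rintro rfl
        obtain ⟨v, hv⟩ := q.2
        have h2 : (v : G) • x • a = (q : Ω) := hv
        rw [← htq, one_smul] at h2
        have h3 : x • a = a := MulAction.injective (v : G) (h2.trans v.2.symm)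
        exact hx1 (Cfsg.Agent.Perm.stabilizer_subgroup_eq_bot_iff.mp hreg x (hT.le hx) h3)
      have hT' : RecogB.cj (u : G) T = T := by
        rcases hT.eq_or_commute (hT.cj (u : G)) with h1 | h1
        · exact h1
        · exfalso
          have ht'1 : t' = 1 := hT.eq_one_of_central ht'
            (fun s hs => (h1 s hs t' (e ▸ conj_mem_cj ht)).symm)
          rw [ht'1, conj_eq_one_iff] at e
          exact ht1 e
      ext r
      constructor
      · rintro ⟨w, ⟨s, hs, hsw⟩, rfl⟩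
        refine ⟨(u : G) * s * (u : G)⁻¹, hT' ▸ conj_mem_cj hs, ?_⟩
        rw [hconjN _ u.2 s (hT.le hs), hsw]
        rfl
      · rintro ⟨s, hs, hsr⟩
        refine ⟨u⁻¹ • r, ⟨(u : G)⁻¹ * s * (u : G), mem_cj.mp (hT'.symm ▸ hs), ?_⟩, smul_inv_smul u r⟩
        show ((u : G)⁻¹ * s * (u : G)) • a = (u : G)⁻¹ • (r : Ω)
        rw [mul_smul, mul_smul, mem_stabilizer_iff.mp u.2, hsr]
    have := hep a (x • a)
    rcases IsPreprimitive.isTrivialBlock_of_isBlock hB with hb | hb
    · have hxB : (⟨x • a, mem_orbit_self _⟩ : O) ∈ B := ⟨x, hx, rfl⟩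
      have hhx : (⟨(h * x * h⁻¹) • a, ⟨⟨h, hh⟩, (hconjN h hh x (hT.le hx)).symm⟩⟩ : O) ∈ B :=
        ⟨h * x * h⁻¹, hhT ▸ conj_mem_cj hx, rfl⟩
      exact Cfsg.Agent.Perm.regular_unique hreg (hNn.conj_mem x (hT.le hx) h) (hT.le hx)
        (congrArg Subtype.val (hb hhx hxB))
    · exfalso
      obtain ⟨g, hg⟩ := hT.exists_other hmin hTN
      apply hg
      obtain ⟨n, hn, u, hu, rfl⟩ := Cfsg.Agent.Perm.exists_mul_stabilizer (N := N) a g
      obtain ⟨s, hs, hsu⟩ : (⟨(u * x * u⁻¹) • a, ⟨⟨u, hu⟩, (hconjN u hu x (hT.le hx)).symm⟩⟩ : O) ∈ B :=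
        hb ▸ Set.mem_univ _
      have e : u * x * u⁻¹ = s :=
        (Cfsg.Agent.Perm.regular_unique hreg (hT.le hs) (hNn.conj_mem x (hT.le hx) u) hsu).symm
      have huT : RecogB.cj u T = T := by
        rcases hT.eq_or_commute (hT.cj u) with h1 | h1
        · exact h1
        · exfalso
          have : s = 1 := hT.eq_one_of_central hs (fun w hw => (h1 w hw s (e ▸ conj_mem_cj hx)).symm)
          rw [this, conj_eq_one_iff] at e
          exact hx1 e
      ext y
      rw [mem_cj]
      constructor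
      · intro hy
        have h1 : n⁻¹ * y * n ∈ T := by
          rw [← huT, mem_cj]; simpa [mul_assoc] using hy
        have := hT.nrm n hn _ h1
        simpa [mul_assoc] using this
      · intro hy
        have h1 : n⁻¹ * y * n ∈ T := by simpa using hT.nrm n⁻¹ (inv_mem hn) y hy
        rw [← huT, mem_cj] at h1
        simpa [mul_assoc] using h1
  -- a nontrivial element of `N` centralised by the stabiliser
  obtain ⟨⟨x, hx⟩, hxne⟩ := exists_ne (1 : T)
  have hx1 : x ≠ 1 := fun e => hxne (Subtype.ext e)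
  have := Fintype.ofFinite G
  let s : Finset G := Finset.univ.filter (fun y => ∃ h ∈ stabilizer G a, h * x * h⁻¹ = y)
  have hsmem : ∀ y ∈ s, y ≠ x → y ∈ Subgroup.centralizer (T : Set G) := by
    intro y hy hyx
    obtain ⟨h, hh, rfl⟩ := (Finset.mem_filter.mp hy).2
    by_cases hhT : RecogB.cj h T = T
    · exact absurd (hcent h hh hhT x hx) hyx
    · exact hT.le_centralizer_of_ne (hT.cj h) hhT (conj_mem_cj hx)
  have hxs : x ∈ s := Finset.mem_filter.mpr ⟨Finset.mem_univ _, 1, one_mem _, by simp⟩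
  have comm : (s : Set G).Pairwise (fun u v => Commute u v) := by
    intro u hu v hv huv
    obtain ⟨h, hh, rfl⟩ := (Finset.mem_filter.mp hu).2
    obtain ⟨k, hk, rfl⟩ := (Finset.mem_filter.mp hv).2
    have hm : h⁻¹ * k * x * (h⁻¹ * k)⁻¹ ∈ s :=
      Finset.mem_filter.mpr ⟨Finset.mem_univ _, h⁻¹ * k, mul_mem (inv_mem hh) hk, rfl⟩
    have hne : h⁻¹ * k * x * (h⁻¹ * k)⁻¹ ≠ x := fun e => huv (by
      calc h * x * h⁻¹ = h * (h⁻¹ * k * x * (h⁻¹ * k)⁻¹) * h⁻¹ := by rw [e]
        _ = k * x * k⁻¹ := by group)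
    have h1 : Commute x (h⁻¹ * k * x * (h⁻¹ * k)⁻¹) := Subgroup.mem_centralizer_iff.mp (hsmem _ hm hne) x hx
    have h2 := h1.map (MulAut.conj h)
    simpa [mul_assoc] using h2
  set d := s.noncommProd id comm with hd
  have hdN : d ∈ N := Subgroup.noncommProd_mem N _ (fun y hy => by
    obtain ⟨h, hh, rfl⟩ := (Finset.mem_filter.mp hy).2
    exact hNn.conj_mem x (hT.le hx) h)
  have hdH : ∀ h ∈ stabilizer G a, h * d * h⁻¹ = d := by
    intro h hh
    refine conj_noncommProd_eq s h ?_ comm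
    ext y
    simp only [Finset.mem_image]
    constructor
    · rintro ⟨z, hz, rfl⟩
      obtain ⟨k, hk, rfl⟩ := (Finset.mem_filter.mp hz).2
      exact Finset.mem_filter.mpr ⟨Finset.mem_univ _, h * k, mul_mem hh hk, by group⟩
    · intro hy
      obtain ⟨k, hk, rfl⟩ := (Finset.mem_filter.mp hy).2
      exact ⟨h⁻¹ * k * x * (h⁻¹ * k)⁻¹,
        Finset.mem_filter.mpr ⟨Finset.mem_univ _, _, mul_mem (inv_mem hh) hk, rfl⟩, by group⟩
  have hd1 : d ≠ 1 := by
    intro e
    have hsub : ((s.erase x : Finset G) : Set G).Pairwise (fun u v => Commute u v) :=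
      comm.mono (fun y hy => (Finset.mem_erase.mp hy).2)
    have h2 : d = (s.erase x).noncommProd id hsub * x := by
      rw [hd, ← Finset.noncommProd_erase_mul s hxs id comm hsub]; rfl
    have hmem : (s.erase x).noncommProd id hsub ∈ Subgroup.centralizer (T : Set G) :=
      Subgroup.noncommProd_mem _ _ (fun y hy => hsmem y (Finset.mem_erase.mp hy).2 (Finset.mem_erase.mp hy).1)
    refine hx1 (hT.eq_one_of_mem_centralizer hx ?_)
    rw [h2] at e
    rw [eq_inv_of_mul_eq_one_right e]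
    exact inv_mem hmem
  -- maximality of the stabiliser
  have hda : d • a ≠ a := fun e => hd1 (Cfsg.Agent.Perm.stabilizer_subgroup_eq_bot_iff.mp hreg d hdN e)
  have hNne : N ≠ ⊥ := fun e => hT.ne_bot (eq_bot_iff.mpr (e ▸ hT.le))
  have : Nontrivial Ω := ⟨⟨d • a, a, hda⟩⟩
  have hdHle : stabilizer G a ≤ Subgroup.centralizer ({d} : Set G) := fun h hh => by
    rw [Subgroup.mem_centralizer_singleton_iff]
    calc h * d = (h * d * h⁻¹) * h := by group
      _ = d * h := by rw [hdH h hh]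
  have hlt : stabilizer G a < Subgroup.centralizer ({d} : Set G) :=
    lt_of_le_of_ne hdHle (fun e => hda (by
      have : d ∈ stabilizer G a := e ▸ Subgroup.mem_centralizer_singleton_iff.mpr rfl
      exact this))
  have htop := (IsPreprimitive.isCoatom_stabilizer_of_isPreprimitive G a).2 _ hlt
  -- `d` is central
  have hcen : d ∈ Subgroup.centralizer (N : Set G) := Subgroup.mem_centralizer_iff.mpr (fun n hn => by
    have : n ∈ Subgroup.centralizer ({d} : Set G) := htop ▸ Subgroup.mem_top n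
    exact Subgroup.mem_centralizer_singleton_iff.mp this)
  have hz : N ⊓ Subgroup.centralizer (N : Set G) = N :=
    (hmin _ inferInstance inf_le_left).resolve_left (fun e => hd1 (by
      have : d ∈ N ⊓ Subgroup.centralizer (N : Set G) := ⟨hdN, hcen⟩
      rwa [e, Subgroup.mem_bot] at this))
  refine hT.nonab ⟨⟨fun u v => Subtype.ext ?_⟩⟩
  have : (v : G) ∈ N ⊓ Subgroup.centralizer (N : Set G) := hz.symm ▸ hT.le v.2
  exact Subgroup.mem_centralizer_iff.mp this.2 u (hT.le u.2)

/-- The case of a non-regular non-simple minimal normal subgroup. -/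
lemma false_of_nonregular_product [IsPreprimitive G Ω]
    (hep : ∀ a b : Ω, IsPreprimitive (stabilizer G a) (orbit (stabilizer G a) b)) (a : Ω)
    (N T : Subgroup G) [hNn : N.Normal] (hmin : ∀ M : Subgroup G, M.Normal → M ≤ N → M = ⊥ ∨ M = N)
    [hNt : IsPretransitive N Ω] (hT : IsFactor N T) (hTN : T ≠ N) (hreg : stabilizer N a ≠ ⊥) : False := by
  classical
  set S := N ⊓ stabilizer G a with hS
  have hS1 : S ≠ ⊥ := by
    intro e
    apply hreg
    rw [Cfsg.Agent.Perm.stabilizer_subgroup_eq_bot_iff]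
    intro n hn hna
    have : n ∈ S := ⟨hn, hna⟩
    rwa [e, Subgroup.mem_bot] at this
  have hSn : ∀ h ∈ stabilizer G a, ∀ k ∈ S, h * k * h⁻¹ ∈ S := fun h hh k hk =>
    Subgroup.mem_inf.mpr ⟨hNn.conj_mem k hk.1 h, mul_mem (mul_mem hh hk.2) (Subgroup.inv_mem _ hh)⟩
  -- suborbits are orbits of `S`
  have horb : ∀ h ∈ stabilizer G a, ∀ b : Ω, ∃ n ∈ S, n • b = h • b := by
    intro h hh b
    by_cases hb : b = a
    · exact ⟨1, one_mem _, by rw [one_smul, hb, mem_stabilizer_iff.mp hh]⟩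
    rcases normal_trichotomy S inf_le_right hSn (hep a b) with hfix | htr
    · exfalso
      obtain ⟨g, hg, hga⟩ := Cfsg.Agent.Perm.subgroup_exists_smul_eq (N := N) a b
      have hle : S ≤ S.map (MulAut.conj g).toMonoidHom := by
        intro k hk
        refine ⟨g⁻¹ * k * g, Subgroup.mem_inf.mpr ⟨?_, ?_⟩, by simp [mul_assoc]⟩
        · exact mul_mem (mul_mem (inv_mem hg) hk.1) hg
        · rw [mem_stabilizer_iff, mul_smul, mul_smul, inv_smul_eq_iff, hga]
          exact hfix k hk b (mem_orbit_self b)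
      have heq : S = S.map (MulAut.conj g).toMonoidHom := Subgroup.eq_of_le_of_card_ge hle
        (by rw [Subgroup.card_map_of_injective (MulAut.conj g).injective])
      have : Nontrivial Ω := ⟨⟨b, a, hb⟩⟩
      have hn := normalizer_eq_top_of_primitive S hSn (g := g) (hga ▸ hb) (fun k hk => by
        rw [heq]; exact ⟨k, hk, by simp⟩)
      have := Cfsg.Agent.Perm.isPretransitive_of_normal_ne_bot (X := Ω) S hS1
      obtain ⟨k, hk, e⟩ := Cfsg.Agent.Perm.subgroup_exists_smul_eq (N := S) a b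
      have hka : k • a = a := hk.2
      exact hb (e.symm.trans hka)
    · exact htr b (mem_orbit_self b) (h • b) ⟨⟨h, hh⟩, rfl⟩
  -- conjugates of `T` are conjugates by the stabiliser
  have hcjH : ∀ g : G, ∃ h ∈ stabilizer G a, RecogB.cj g T = RecogB.cj h T := by
    intro g
    obtain ⟨n, hn, h, hh, rfl⟩ := Cfsg.Agent.Perm.exists_mul_stabilizer (N := N) a g
    refine ⟨h, hh, ?_⟩
    have hF := hT.cj h
    ext y
    constructor
    · intro hy
      rw [mem_cj] at hy
      have h1 : n⁻¹ * y * n ∈ RecogB.cj h T := by rw [mem_cj]; simpa [mul_assoc] using hy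
      have := hF.nrm n hn _ h1
      simpa [mul_assoc] using this
    · intro hy
      have h1 : n⁻¹ * y * n ∈ RecogB.cj h T := by simpa using hF.nrm n⁻¹ (inv_mem hn) y hy
      rw [mem_cj] at h1 ⊢
      simpa [mul_assoc] using h1
  -- projections and intersections for a moved factor
  have step : ∀ (T₁ : Subgroup G), IsFactor N T₁ → ∀ h ∈ stabilizer G a, RecogB.cj h T₁ ≠ T₁ →
      T₁ ⊓ S = ⊥ ∧ ∀ u ∈ T₁, ∃ v ∈ RecogB.cj h T₁, u * v ∈ S := by
    intro T₁ hT₁ h hh hne
    set T₂ := RecogB.cj h T₁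
    have hT₂ : IsFactor N T₂ := hT₁.cj h
    have hcomm : ∀ u ∈ T₁, ∀ v ∈ T₂, u * v = v * u := (hT₁.eq_or_commute hT₂).resolve_left hne
    have hproj : ∀ t ∈ T₁, ∃ b ∈ N ⊓ Subgroup.centralizer (T₁ : Set G), t * b ∈ S := by
      intro t ht
      have ht' : h * t * h⁻¹ ∈ T₂ := conj_mem_cj ht
      obtain ⟨n, hn, e⟩ := horb h hh (t • a)
      have hz : (h * t * h⁻¹)⁻¹ * n * t ∈ S := by
        refine Subgroup.mem_inf.mpr ⟨mul_mem (mul_mem (inv_mem (hT₂.le ht')) hn.1) (hT₁.le ht), ?_⟩
        rw [mem_stabilizer_iff, mul_smul, mul_smul, e, inv_smul_eq_iff,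
          Cfsg.Agent.Perm.conj_smul_base hh]
      have hgen : ∀ m : G, m ∈ N → ∃ t1 ∈ T₁, ∃ b ∈ N ⊓ Subgroup.centralizer (T₁ : Set G), m = t1 * b :=
        fun m hm => hT₁.decomp hmin hm
      obtain ⟨n1, hn1, b1, hb1, rfl⟩ := hgen n hn.1
      have ht'C : h * t * h⁻¹ ∈ Subgroup.centralizer (T₁ : Set G) :=
        hT₁.le_centralizer_of_ne hT₂ hne ht'
      refine ⟨b1⁻¹ * ((h * t * h⁻¹)⁻¹ * b1), ?_, ?_⟩
      · exact mul_mem (inv_mem hb1) (mul_mem (inv_mem ⟨hT₂.le ht', ht'C⟩) hb1)
      have c1 : Commute (h * t * h⁻¹)⁻¹ n1 := (Subgroup.mem_centralizer_iff.mp (inv_mem ht'C) n1 hn1).symm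
      have c2 : Commute b1 t := (Subgroup.mem_centralizer_iff.mp hb1.2 t ht).symm
      have c3 : Commute t ((h * t * h⁻¹)⁻¹ * b1) :=
        Subgroup.mem_centralizer_iff.mp (mul_mem (inv_mem ht'C) hb1.2) t ht
      have e1 : (h * t * h⁻¹)⁻¹ * (n1 * b1) * t = n1 * (t * ((h * t * h⁻¹)⁻¹ * b1)) := by
        calc (h * t * h⁻¹)⁻¹ * (n1 * b1) * t = ((h * t * h⁻¹)⁻¹ * n1) * (b1 * t) := by simp only [mul_assoc]
          _ = (n1 * (h * t * h⁻¹)⁻¹) * (b1 * t) := by rw [c1.eq]
          _ = n1 * (((h * t * h⁻¹)⁻¹ * b1) * t) := by simp only [mul_assoc]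
          _ = n1 * (t * ((h * t * h⁻¹)⁻¹ * b1)) := by rw [c3.eq]
      have hn' : n1 * b1 ∈ S := hn
      have h2 := mul_mem (inv_mem hn') (e1 ▸ hz)
      have e2 : (n1 * b1)⁻¹ * (n1 * (t * ((h * t * h⁻¹)⁻¹ * b1))) =
          t * (b1⁻¹ * ((h * t * h⁻¹)⁻¹ * b1)) := by
        calc _ = b1⁻¹ * t * ((h * t * h⁻¹)⁻¹ * b1) := by group
          _ = t * b1⁻¹ * ((h * t * h⁻¹)⁻¹ * b1) := by rw [c2.inv_left.eq]
          _ = _ := by group
      rwa [e2] at h2
    have hnorm : ∀ (K : Subgroup G), K ≤ T₁ →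
        (∀ s ∈ S, ∀ k ∈ K, s * k * s⁻¹ ∈ K) → K = ⊥ ∨ K = T₁ := by
      intro K hK hKS
      refine hT₁.eq_bot_or_eq hK (fun x hx k hk => ?_)
      obtain ⟨b, hb, hs⟩ := hproj x hx
      have := hKS _ hs k hk
      have c : b * k * b⁻¹ = k := by
        rw [← Subgroup.mem_centralizer_iff.mp hb.2 k (hK hk), mul_inv_cancel_right]
      have e : x * b * k * (x * b)⁻¹ = x * (b * k * b⁻¹) * x⁻¹ := by group
      rwa [e, c] at this
    have hbot : T₁ ⊓ S = ⊥ := by
      refine (hnorm _ inf_le_left (fun s hs k hk => Subgroup.mem_inf.mpr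
        ⟨hT₁.nrm s hs.1 k hk.1, mul_mem (mul_mem hs hk.2) (Subgroup.inv_mem _ hs)⟩)).resolve_right (fun e => ?_)
      apply hT₁.ne_bot
      rw [Subgroup.eq_bot_iff_forall]
      intro t ht
      refine FaithfulSMul.eq_of_smul_eq_smul (fun η : Ω => ?_)
      rw [one_smul]
      obtain ⟨k, hk, rfl⟩ := Cfsg.Agent.Perm.subgroup_exists_smul_eq (N := N) a η
      have hm : k⁻¹ * t * k ∈ T₁ ⊓ S := e.symm ▸ (by simpa using hT₁.nrm k⁻¹ (inv_mem hk) t ht)
      have hfix : (k⁻¹ * t * k) • a = a := hm.2.2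
      rw [mul_smul, mul_smul, inv_smul_eq_iff] at hfix
      exact hfix
    refine ⟨hbot, fun u hu => ?_⟩
    let D : Subgroup G :=
      { carrier := {u | u ∈ T₁ ∧ ∃ v ∈ T₂, u * v ∈ S}
        one_mem' := ⟨one_mem _, 1, one_mem _, by simp⟩
        mul_mem' := by
          rintro x y ⟨hx, v, hv, h1⟩ ⟨hy, w, hw, h2⟩
          refine ⟨mul_mem hx hy, v * w, mul_mem hv hw, ?_⟩
          have : x * y * (v * w) = x * v * (y * w) := by
            simp only [mul_assoc]; rw [← mul_assoc y v, hcomm y hy v hv, mul_assoc]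
          rw [this]; exact mul_mem h1 h2
        inv_mem' := by
          rintro x ⟨hx, v, hv, h1⟩
          refine ⟨inv_mem hx, v⁻¹, inv_mem hv, ?_⟩
          rw [← mul_inv_rev, ← hcomm x hx v hv]
          exact inv_mem h1 }
    have hDS : ∀ s ∈ S, ∀ k ∈ D, s * k * s⁻¹ ∈ D := by
      rintro s hs k ⟨hk, v, hv, hkv⟩
      refine ⟨hT₁.nrm s hs.1 k hk, s * v * s⁻¹, hT₂.nrm s hs.1 v hv, ?_⟩
      have : s * k * s⁻¹ * (s * v * s⁻¹) = s * (k * v) * s⁻¹ := by group
      rw [this]; exact mul_mem (mul_mem hs hkv) (inv_mem hs)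
    rcases hnorm D (fun x hx => hx.1) hDS with hD | hD
    · exfalso
      apply hT₁.ne_bot
      rw [Subgroup.eq_bot_iff_forall]
      intro t ht
      obtain ⟨n, hn, e⟩ := horb h hh (t • a)
      have hz : (h * t * h⁻¹)⁻¹ * n * t ∈ S := by
        refine Subgroup.mem_inf.mpr
          ⟨mul_mem (mul_mem (inv_mem (hNn.conj_mem t (hT₁.le ht) h)) hn.1) (hT₁.le ht), ?_⟩
        rw [mem_stabilizer_iff, mul_smul, mul_smul, e, inv_smul_eq_iff, Cfsg.Agent.Perm.conj_smul_base hh]
      have hu : n * t * n⁻¹ ∈ T₁ := hT₁.nrm n hn.1 t ht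
      have hmem : n * t * n⁻¹ ∈ D := by
        refine ⟨hu, (h * t * h⁻¹)⁻¹, inv_mem (conj_mem_cj ht), ?_⟩
        rw [hcomm _ hu _ (inv_mem (conj_mem_cj ht))]
        have := mul_mem hz (inv_mem hn)
        simpa [mul_assoc] using this
      rw [hD, Subgroup.mem_bot, conj_eq_one_iff] at hmem
      exact hmem
    · exact (hD.symm ▸ hu : u ∈ D).2
  obtain ⟨g, hg⟩ := hT.exists_other hmin hTN
  obtain ⟨h, hh, hgh⟩ := hcjH g
  rw [hgh] at hg
  set T' := RecogB.cj h T with hT'def
  have hT' : IsFactor N T' := hT.cj h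
  obtain ⟨hTS, hproj⟩ := step T hT h hh hg
  have hcomm : ∀ u ∈ T, ∀ v ∈ T', u * v = v * u := (hT.eq_or_commute hT').resolve_left hg
  -- only two factors
  have htwo : ∀ k : G, RecogB.cj k T = T ∨ RecogB.cj k T = T' := by
    intro k
    by_contra hc
    push Not at hc
    obtain ⟨k', hk', hkk⟩ := hcjH k
    rw [hkk] at hc
    obtain ⟨-, hproj'⟩ := step T hT k' hk' hc.1
    refine hT.nonab ⟨⟨fun x y => Subtype.ext ?_⟩⟩
    obtain ⟨v, hv, hxv⟩ := hproj x x.2
    obtain ⟨w, hw, hyw⟩ := hproj' y y.2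
    have c1 : Commute (x : G) v := hcomm x x.2 v hv
    have c2 : Commute (y : G) v := hcomm y y.2 v hv
    have c3 : Commute (x : G) w := Subgroup.mem_centralizer_iff.mp (hT.le_centralizer_of_ne (hT.cj k') hc.1 hw) x x.2
    have c4 : Commute (y : G) w := Subgroup.mem_centralizer_iff.mp (hT.le_centralizer_of_ne (hT.cj k') hc.1 hw) y y.2
    have c5 : Commute v w :=
      Subgroup.mem_centralizer_iff.mp (hT'.le_centralizer_of_ne (hT.cj k') hc.2 hw) v hv
    have e : ((x : G) * v) * ((y : G) * w) * (((y : G) * w) * ((x : G) * v))⁻¹ = (x : G) * y * (y * x : G)⁻¹ := by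
      have e1 : ((x : G) * v) * ((y : G) * w) = (x : G) * y * (v * w) := by
        simp only [mul_assoc]; rw [← mul_assoc v (y : G), ← c2.eq, mul_assoc]
      have e2 : ((y : G) * w) * ((x : G) * v) = (y : G) * x * (v * w) := by
        simp only [mul_assoc]; rw [← mul_assoc w (x : G), ← c3.eq, mul_assoc, c5.eq]
      rw [e1, e2]; group
    have hm : (x : G) * y * (y * x : G)⁻¹ ∈ T ⊓ S :=
      Subgroup.mem_inf.mpr ⟨mul_mem (mul_mem x.2 y.2) (Subgroup.inv_mem _ (mul_mem y.2 x.2)),
        e ▸ mul_mem (mul_mem hxv hyw) (Subgroup.inv_mem _ (mul_mem hyw hxv))⟩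
    rw [hTS, Subgroup.mem_bot, mul_inv_eq_one] at hm
    exact hm
  -- back from `T'`
  have hback : RecogB.cj h⁻¹ T' = T := by
    ext y
    rw [mem_cj, mem_cj]
    simp [mul_assoc]
  obtain ⟨hT'S, hproj'⟩ := step T' hT' h⁻¹ (inv_mem hh) (by rw [hback]; exact Ne.symm hg)
  rw [hback] at hproj'
  -- every element of `N` is a product
  have hdec : ∀ n ∈ N, ∃ t ∈ T, ∃ v ∈ T', n = t * v := by
    intro n hn
    have hle : N ≤ T ⊔ T' := by
      nth_rw 1 [← hT.generate hmin]
      refine iSup_le (fun k => ?_)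
      rcases htwo k with e | e <;> rw [e]
      exacts [le_sup_left, le_sup_right]
    have hnrm : T' ≤ Subgroup.normalizer (T : Set G) := fun v hv =>
      (Subgroup.mem_normalizer_fintype (fun k hk => hT.nrm v (hT'.le hv) k hk) : _)
    have h2 := hle hn
    rw [← SetLike.mem_coe, Subgroup.coe_mul_of_right_le_normalizer_left _ _ hnrm] at h2
    obtain ⟨t, ht, v, hv, e⟩ := Set.mem_mul.mp h2
    exact ⟨t, ht, v, hv, e.symm⟩
  have hTreg : stabilizer T a = ⊥ := by
    rw [Cfsg.Agent.Perm.stabilizer_subgroup_eq_bot_iff]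
    intro t ht e
    have : t ∈ T ⊓ S := ⟨ht, hT.le ht, e⟩
    rwa [hTS, Subgroup.mem_bot] at this
  choose φ hφ hφS using fun c : T => hproj c c.2
  have huniq : ∀ (c : T) (v : G), v ∈ T' → (c : G) * v ∈ S → v = φ c := by
    intro c v hv hcv
    have h1 : v⁻¹ * φ c ∈ T' ⊓ S := Subgroup.mem_inf.mpr ⟨mul_mem (inv_mem hv) (hφ c), by
      have := mul_mem (inv_mem hcv) (hφS c)
      simpa [mul_assoc] using this⟩
    rw [hT'S, Subgroup.mem_bot, inv_mul_eq_one] at h1
    exact h1
  let ι : T →* stabilizer G a := MonoidHom.mk' (fun c => ⟨(c : G) * φ c, (hφS c).2⟩) (fun c d => by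
    apply Subtype.ext
    have he : ((c : G) * d) * (φ c * φ d) = ((c : G) * φ c) * ((d : G) * φ d) := by
      simp only [mul_assoc]; rw [← mul_assoc (d : G) (φ c), hcomm d d.2 _ (hφ c), mul_assoc]
    show ((c * d : T) : G) * φ (c * d) = ((c : G) * φ c) * ((d : G) * φ d)
    rw [← he, ← huniq (c * d) (φ c * φ d) (mul_mem (hφ c) (hφ d))
      (by rw [Subgroup.coe_mul, he]; exact mul_mem (hφS c) (hφS d)), Subgroup.coe_mul])
  have hrange : ι.range.Normal := by
    refine ⟨?_⟩
    rintro _ ⟨c, rfl⟩ ⟨u, hu⟩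
    have hm : u * ((c : G) * φ c) * u⁻¹ ∈ S := hSn u hu _ (hφS c)
    obtain ⟨t, ht, v, hv, e⟩ := hdec _ hm.1
    refine ⟨⟨t, ht⟩, Subtype.ext ?_⟩
    show t * φ ⟨t, ht⟩ = u * ((c : G) * φ c) * u⁻¹
    rw [e, huniq ⟨t, ht⟩ v hv (e ▸ hm)]
  refine false_of_regular_simple hep a T hT.simple hT.nonab hTreg ι hrange ?_ ?_
  · intro c t
    show ((c : G) * φ c) • (t : G) • a = ((c * t * c⁻¹ : T) : G) • a
    have hv : φ c • a = (c : G)⁻¹ • a := by
      rw [eq_inv_smul_iff, ← mul_smul]; exact (hφS c).2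
    rw [← mul_smul, mul_assoc, ← hcomm t t.2 _ (hφ c), ← mul_assoc, mul_smul, hv, ← mul_smul]
    simp [mul_assoc]
  · intro k hk t ht i
    have hc : Commute (t : G)⁻¹ (k * (t : G) * k⁻¹) := by
      rcases htwo k with e | e
      · have hm : k * (t : G) * k⁻¹ ∈ T := by
          have h3 : k * (t : G) * k⁻¹ ∈ RecogB.cj k T := conj_mem_cj t.2
          rwa [e] at h3
        have : k * (t : G) * k⁻¹ = t := Cfsg.Agent.Perm.regular_unique hTreg hm t.2
          (by rw [Cfsg.Agent.Perm.conj_smul_base hk]; exact ht)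
        rw [this]; exact (Commute.refl _).inv_left
      · have h3 : k * (t : G) * k⁻¹ ∈ RecogB.cj k T := conj_mem_cj t.2
        rw [e] at h3
        exact hcomm _ (inv_mem t.2) _ h3
    have hfix : (t : G)⁻¹ * (k * (t : G) * k⁻¹) ∈ stabilizer G a := by
      rw [mem_stabilizer_iff, mul_smul, Cfsg.Agent.Perm.conj_smul_base hk, ht, inv_smul_smul]
    have h2 := zpow_mem hfix i
    rw [hc.mul_zpow, inv_zpow, conj_zpow, mem_stabilizer_iff, mul_smul, inv_smul_eq_iff,
      Cfsg.Agent.Perm.conj_smul_base hk] at h2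
    simpa using h2

end Cfsg.Agent.RecogB
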