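import Mathlib

/-! An abelian normal subgroup acting irreducibly: the semilinear structure of the group. -/

set_option autoImplicit false

namespace Cfsg.Agent.RecogB

open scoped IsMulCommutative

lemma card_le_of_pow_eq_self {K : Type*} [CommRing K] [IsDomain K] [Finite K] {q : ℕ} (hq : 1 < q)
    (h : ∀ f : K, f ^ q = f) : Nat.card K ≤ q := by
  classical
  have := Fintype.ofFinite K
  let P : Polynomial K := Polynomial.X ^ q - Polynomial.X
  have hlt : (Polynomial.X : Polynomial K).natDegree < (Polynomial.X ^ q : Polynomial K).natDegree := by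
    rw [Polynomial.natDegree_X, Polynomial.natDegree_X_pow]; exact hq
  have hdeg : P.natDegree = q :=
    (Polynomial.natDegree_sub_eq_left_of_natDegree_lt hlt).trans (Polynomial.natDegree_X_pow q)
  have hP : P ≠ 0 := fun e => by
    rw [e, Polynomial.natDegree_zero] at hdeg
    omega
  have h1 : (Finset.univ : Finset K).val ≤ P.roots := by
    rw [Multiset.le_iff_subset Finset.univ.nodup]
    intro f _
    rw [Polynomial.mem_roots hP]
    simp [P, h f, Polynomial.IsRoot]
  have h2 := (Multiset.card_le_card h1).trans P.card_roots'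
  rwa [Finset.card_val, Finset.card_univ, ← Nat.card_eq_fintype_card, hdeg] at h2

/-- A group acting on a finite field of order `p ^ d` by automorphisms: the image is cyclic of order
dividing `d`. -/
lemma exists_generator_of_fieldAut {X K : Type*} [Group X] [CommRing K] [IsDomain K] [Finite K]
    {p d : ℕ} [Fact p.Prime] [CharP K p] (hK : Nat.card K = p ^ d) (c : X →* RingAut K) :
    (∃ h : X, c.ker ⊔ Subgroup.zpowers h = ⊤) ∧ c.ker.index ∣ d := by
  classical
  let : Algebra (ZMod p) K := ZMod.algebra K p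
  let : Field K := (Finite.isField_of_domain K).toField
  let ψ : X →* Gal(K/ZMod p) := MonoidHom.mk'
    (fun x => AlgEquiv.ofRingEquiv (f := c x) (fun z => congrArg (fun φ : ZMod p →+* K => φ z)
      (Subsingleton.elim ((c x).toRingHom.comp (algebraMap (ZMod p) K)) (algebraMap (ZMod p) K))))
    (fun x y => AlgEquiv.ext fun f => congrArg (fun σ : RingAut K => σ f) (map_mul c x y))
  have hψ : ψ.ker = c.ker := by
    ext x
    rw [MonoidHom.mem_ker, MonoidHom.mem_ker]
    exact ⟨fun e => RingEquiv.ext fun f => congrArg (fun σ : Gal(K/ZMod p) => σ f) e,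
      fun e => AlgEquiv.ext fun f => congrArg (fun σ : RingAut K => σ f) e⟩
  have hgal : Nat.card Gal(K/ZMod p) = d := by
    rw [IsGalois.card_aut_eq_finrank]
    have h1 := Module.natCard_eq_pow_finrank (K := ZMod p) (V := K)
    rw [Nat.card_zmod, hK] at h1
    exact (Nat.pow_right_injective (Fact.out (p := p.Prime)).two_le h1).symm
  refine ⟨?_, ?_⟩
  · obtain ⟨σ, hσ⟩ := IsCyclic.exists_generator (α := ψ.range)
    obtain ⟨h, hh⟩ := σ.2
    refine ⟨h, eq_top_iff.mpr fun x _ => ?_⟩
    obtain ⟨k, hk⟩ := hσ ⟨ψ x, x, rfl⟩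
    have hk' : ψ h ^ k = ψ x := by
      rw [hh]; exact congrArg Subtype.val hk
    rw [show x = (x * (h ^ k)⁻¹) * h ^ k from (inv_mul_cancel_right x (h ^ k)).symm]
    refine Subgroup.mul_mem_sup ?_ ⟨k, rfl⟩
    rw [← hψ, MonoidHom.mem_ker, map_mul, map_inv, map_zpow, hk', mul_inv_cancel]
  · rw [← hψ, Subgroup.index_ker]
    exact hgal ▸ Subgroup.card_subgroup_dvd_card _

/-- If an abelian normal subgroup `M` of `X` acts faithfully and irreducibly on an elementary abelian
group `A` of order `p ^ d`, then `M` is cyclic, its order divides no `p ^ i - 1` with `0 < i < d`, and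
`X` is generated by the centraliser of `M` and one element, with index of the centraliser dividing `d`. -/
theorem irreducible_abelian_structure {X A : Type*} [Group X] [Finite X] [AddCommGroup A] [Finite A]
    {p d : ℕ} [Fact p.Prime] (hA : ∀ v : A, p • v = 0) (hcard : Nat.card A = p ^ d) (hd : 0 < d)
    (ρ : X →* AddMonoid.End A) (M : Subgroup X) [hMn : M.Normal] [hMc : IsMulCommutative M]
    (hinj : ∀ m ∈ M, ρ m = 1 → m = 1)
    (hirr : ∀ L : AddSubgroup A, (∀ m ∈ M, ∀ v ∈ L, ρ m v ∈ L) → L = ⊥ ∨ L = ⊤) :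
    IsCyclic M ∧ (∀ i, 0 < i → i < d → ¬ Nat.card M ∣ p ^ i - 1) ∧
      (∃ h : X, Subgroup.centralizer (M : Set X) ⊔ Subgroup.zpowers h = ⊤) ∧
      (Subgroup.centralizer (M : Set X)).index ∣ d := by
  classical
  have hp : p.Prime := Fact.out
  have : Finite (AddMonoid.End A) := Finite.of_injective _ DFunLike.coe_injective
  let S : Set (AddMonoid.End A) := Set.range (fun m : M => ρ (m : X))
  have hS : ∀ x ∈ S, ∀ y ∈ S, x * y = y * x := by
    rintro _ ⟨a, rfl⟩ _ ⟨b, rfl⟩
    simp only [← map_mul]
    exact congrArg ρ (congrArg Subtype.val (hMc.is_comm.comm a b))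
  let K := Subring.closure S
  have hKcomm : IsMulCommutative K := Subring.isMulCommutative_closure hS
  have hcomm : ∀ f ∈ K, ∀ m ∈ M, ρ m * f = f * ρ m := fun f hf m hm =>
    congrArg Subtype.val
      (hKcomm.is_comm.comm (⟨ρ m, Subring.subset_closure ⟨⟨m, hm⟩, rfl⟩⟩ : K) ⟨f, hf⟩)
  have hker : ∀ f ∈ K, f ≠ 0 → ∀ v : A, f v = 0 → v = 0 := by
    intro f hf hf0 v hv
    let L : AddSubgroup A :=
      { carrier := {w | f w = 0}
        add_mem' := fun {x y} hx hy => by
          show f (x + y) = 0
          rw [map_add, show f x = 0 from hx, show f y = 0 from hy, add_zero]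
        zero_mem' := map_zero f
        neg_mem' := fun {x} hx => by
          show f (-x) = 0
          rw [map_neg, show f x = 0 from hx, neg_zero] }
    rcases hirr L (fun m hm w hw => by
      have h1 : ρ m (f w) = f (ρ m w) := congrArg (fun g : AddMonoid.End A => g w) (hcomm f hf m hm)
      show f (ρ m w) = 0
      rw [← h1, show f w = 0 from hw, map_zero]) with h | h
    · have : v ∈ L := hv
      rwa [h, AddSubgroup.mem_bot] at this
    · exact absurd (AddMonoidHom.ext (fun w => (by
        have : w ∈ L := by rw [h]; exact AddSubgroup.mem_top w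
        exact this) : ∀ w, f w = (0 : AddMonoid.End A) w)) hf0
  obtain ⟨v0, hv0⟩ : ∃ v : A, v ≠ 0 := by
    by_contra hc
    push Not at hc
    have : Subsingleton A := ⟨fun a b => (hc a).trans (hc b).symm⟩
    rw [Nat.card_unique] at hcard
    exact (Nat.one_lt_pow hd.ne' hp.one_lt).ne hcard
  have hKd : IsDomain K := by
    have : Nontrivial K := ⟨⟨0, 1, fun e => hv0
      (congrArg (fun g : AddMonoid.End A => g v0) (congrArg Subtype.val e)).symm⟩⟩
    have : NoZeroDivisors K := ⟨fun {f g} hfg => by
      by_contra hc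
      push Not at hc
      have e : (f : AddMonoid.End A) ((g : AddMonoid.End A) v0) = 0 :=
        congrArg (fun u : AddMonoid.End A => u v0) (congrArg Subtype.val hfg)
      exact hv0 (hker g g.2 (fun e' => hc.2 (Subtype.ext e')) v0
        (hker f f.2 (fun e' => hc.1 (Subtype.ext e')) _ e))⟩
    exact NoZeroDivisors.to_isDomain K
  -- the field `K` has order `p ^ d`
  let ev : K →+ A := AddMonoidHom.mk' (fun f => (f : AddMonoid.End A) v0) (fun f g => rfl)
  have hev : Function.Bijective ev := by
    refine ⟨(injective_iff_map_eq_zero ev).mpr (fun f hf => ?_), ?_⟩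
    · by_contra hne
      exact hv0 (hker f f.2 (fun e => hne (Subtype.ext e)) v0 hf)
    · have h1 : ev.range = ⊤ := by
        refine (hirr ev.range (fun m hm v hv => ?_)).resolve_left (fun e => hv0 ?_)
        · obtain ⟨f, rfl⟩ := hv
          exact ⟨⟨ρ m, Subring.subset_closure ⟨⟨m, hm⟩, rfl⟩⟩ * f, rfl⟩
        · have : v0 ∈ ev.range := ⟨1, rfl⟩
          rwa [e, AddSubgroup.mem_bot] at this
      exact AddMonoidHom.range_eq_top.mp h1
  have hKcard : Nat.card K = p ^ d := (Nat.card_eq_of_bijective ev hev).trans hcard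
  have hchar : CharP K p := (CharP.charP_iff_prime_eq_zero hp).mpr (by
    apply hev.1
    rw [map_zero, ← mul_one (p : K), ← nsmul_eq_mul, map_nsmul]
    exact hA _)
  let emb : M →* K :=
    { toFun := fun m => ⟨ρ (m : X), Subring.subset_closure ⟨m, rfl⟩⟩
      map_one' := Subtype.ext (map_one ρ)
      map_mul' := fun a b => Subtype.ext (map_mul ρ _ _) }
  have hemb : Function.Injective emb := by
    intro a b e
    have e' : ρ (a : X) = ρ (b : X) := congrArg Subtype.val e
    have h1 : ((b : X))⁻¹ * (a : X) = 1 := hinj _ (mul_mem (inv_mem b.2) a.2) (by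
      rw [map_mul, e', ← map_mul, inv_mul_cancel, map_one])
    exact Subtype.ext (inv_mul_eq_one.mp h1).symm
  refine ⟨isCyclic_of_subgroup_isDomain emb hemb, ?_, ?_⟩
  · intro i hi0 hid hdvd
    have hfix : ∀ f : K, f ^ p ^ i = f := by
      have key : ∀ g (hg : g ∈ K), (⟨g, hg⟩ : K) ^ p ^ i = ⟨g, hg⟩ := by
        intro g hg
        induction hg using Subring.closure_induction with
        | mem x hx =>
          obtain ⟨m, rfl⟩ := hx
          have : m ^ p ^ i = m := by
            rw [show p ^ i = p ^ i - 1 + 1 from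
              (Nat.sub_add_cancel (Nat.one_le_pow _ _ hp.pos)).symm, pow_succ,
              orderOf_dvd_iff_pow_eq_one.mp (orderOf_dvd_natCard m |>.trans hdvd), one_mul]
          exact (map_pow emb m (p ^ i)).symm.trans (congrArg emb this)
        | zero => exact zero_pow (pow_ne_zero _ hp.ne_zero)
        | one => exact one_pow _
        | add x y hx hy hx' hy' =>
          show (⟨x, hx⟩ + ⟨y, hy⟩ : K) ^ p ^ i = ⟨x, hx⟩ + ⟨y, hy⟩
          rw [add_pow_char_pow, hx', hy']
        | neg x hx hx' =>
          show (-⟨x, hx⟩ : K) ^ p ^ i = -⟨x, hx⟩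
          have h0 := add_pow_char_pow (⟨x, hx⟩ : K) (-⟨x, hx⟩) (p := p) (n := i)
          rw [add_neg_cancel, zero_pow (pow_ne_zero _ hp.ne_zero), hx'] at h0
          exact eq_neg_of_add_eq_zero_right h0.symm
        | mul x y hx hy hx' hy' =>
          show (⟨x, hx⟩ * ⟨y, hy⟩ : K) ^ p ^ i = ⟨x, hx⟩ * ⟨y, hy⟩
          rw [mul_pow, hx', hy']
      exact fun f => key f f.2
    have h2 := card_le_of_pow_eq_self (Nat.one_lt_pow hi0.ne' hp.one_lt) hfix
    rw [hKcard] at h2
    exact absurd h2 (not_le.mpr (Nat.pow_lt_pow_right hp.one_lt hid))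
  · -- conjugation gives field automorphisms
    have hcj : ∀ (x : X), ∀ f ∈ K, ρ x * f * ρ x⁻¹ ∈ K := by
      intro x f hf
      induction hf using Subring.closure_induction with
      | mem g hg =>
        obtain ⟨m, rfl⟩ := hg
        refine Subring.subset_closure ⟨⟨x * (m : X) * x⁻¹, hMn.conj_mem m m.2 x⟩, ?_⟩
        simp only [map_mul]
      | zero => simp
      | one => simp [← map_mul]
      | add g g' _ _ hg hg' => rw [mul_add, add_mul]; exact add_mem hg hg'
      | neg g _ hg => rw [mul_neg, neg_mul]; exact neg_mem hg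
      | mul g g' _ _ hg hg' =>
        have e : ρ x * (g * g') * ρ x⁻¹ = (ρ x * g * ρ x⁻¹) * (ρ x * g' * ρ x⁻¹) := by
          have : ρ x⁻¹ * ρ x = 1 := by rw [← map_mul, inv_mul_cancel, map_one]
          calc ρ x * (g * g') * ρ x⁻¹ = ρ x * g * 1 * g' * ρ x⁻¹ := by simp [mul_assoc]
            _ = ρ x * g * (ρ x⁻¹ * ρ x) * g' * ρ x⁻¹ := by rw [this]
            _ = _ := by simp only [mul_assoc]
        rw [e]; exact mul_mem hg hg'
    let c : X → K →+* K := fun x =>
      { toFun := fun f => ⟨ρ x * f * ρ x⁻¹, hcj x f f.2⟩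
        map_one' := Subtype.ext (by
          show ρ x * 1 * ρ x⁻¹ = 1
          rw [mul_one, ← map_mul, mul_inv_cancel, map_one])
        map_zero' := Subtype.ext (by show ρ x * 0 * ρ x⁻¹ = 0; simp)
        map_add' := fun f g => Subtype.ext (by
          show ρ x * (f + g : AddMonoid.End A) * ρ x⁻¹ = ρ x * f * ρ x⁻¹ + ρ x * g * ρ x⁻¹
          rw [mul_add, add_mul])
        map_mul' := fun f g => Subtype.ext (by
          show ρ x * (f * g : AddMonoid.End A) * ρ x⁻¹ = (ρ x * f * ρ x⁻¹) * (ρ x * g * ρ x⁻¹)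
          have : ρ x⁻¹ * ρ x = 1 := by rw [← map_mul, inv_mul_cancel, map_one]
          calc ρ x * (f * g : AddMonoid.End A) * ρ x⁻¹ = ρ x * f * 1 * g * ρ x⁻¹ := by simp [mul_assoc]
            _ = ρ x * f * (ρ x⁻¹ * ρ x) * g * ρ x⁻¹ := by rw [this]
            _ = _ := by simp only [mul_assoc]) }
    have hc1 : c 1 = RingHom.id K := RingHom.ext fun f => Subtype.ext (by
      show ρ 1 * (f : AddMonoid.End A) * ρ 1⁻¹ = f
      simp)
    have hc2 : ∀ x y, (c x).comp (c y) = c (x * y) := fun x y => RingHom.ext fun f => Subtype.ext (by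
      show ρ x * (ρ y * (f : AddMonoid.End A) * ρ y⁻¹) * ρ x⁻¹ = ρ (x * y) * f * ρ (x * y)⁻¹
      rw [mul_inv_rev, map_mul, map_mul]
      simp only [mul_assoc])
    let cR : X →* RingAut K := MonoidHom.mk'
      (fun x => RingEquiv.ofRingHom (c x) (c x⁻¹)
        ((hc2 x x⁻¹).trans (by rw [mul_inv_cancel, hc1]))
        ((hc2 x⁻¹ x).trans (by rw [inv_mul_cancel, hc1])))
      (fun x y => RingEquiv.ext fun f => (congrArg (fun φ : K →+* K => φ f) (hc2 x y)).symm)
    have hψ : cR.ker = Subgroup.centralizer (M : Set X) := by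
      ext x
      rw [MonoidHom.mem_ker, Subgroup.mem_centralizer_iff]
      constructor
      · intro hx m hm
        have h1 : ρ x * ρ m * ρ x⁻¹ = ρ m :=
          congrArg Subtype.val (congrArg (fun σ : RingAut K => σ (emb ⟨m, hm⟩)) hx)
        have h2 : x * m * x⁻¹ = m := by
          refine inv_mul_eq_one.mp ?_
          exact hinj _ (mul_mem (inv_mem (hMn.conj_mem m hm x)) hm) (by
            rw [map_mul, ← h1, ← map_mul, ← map_mul, ← map_mul, inv_mul_cancel, map_one])
        calc m * x = (x * m * x⁻¹) * x := by rw [h2]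
          _ = x * m := by group
      · intro hx
        refine RingEquiv.ext fun f => Subtype.ext ?_
        show ρ x * (f : AddMonoid.End A) * ρ x⁻¹ = f
        have hfx : ∀ g ∈ K, ρ x * g = g * ρ x := by
          intro g hg
          induction hg using Subring.closure_induction with
          | mem g hg =>
            obtain ⟨m, rfl⟩ := hg
            simp only [← map_mul]
            exact congrArg ρ (hx m m.2).symm
          | zero => simp
          | one => simp
          | add g g' _ _ hg hg' => rw [mul_add, add_mul, hg, hg']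
          | neg g _ hg => rw [mul_neg, neg_mul, hg]
          | mul g g' _ _ hg hg' => rw [← mul_assoc, hg, mul_assoc, hg', ← mul_assoc]
        rw [hfx f f.2, mul_assoc, ← map_mul, mul_inv_cancel, map_one, mul_one]
    exact hψ ▸ exists_generator_of_fieldAut hKcard cR

end Cfsg.Agent.RecogB
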