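import Cfsg.Agent.RecogB.Socle

/-! The elementary case division for primitive groups. -/

set_option autoImplicit false

namespace Cfsg.Agent.RecogB

open MulAction

variable {G Ω : Type*} [Group G] [MulAction G Ω] [FaithfulSMul G Ω] [Finite G]

lemma exists_minNormal [IsPretransitive G Ω] (h2 : 2 ≤ Nat.card Ω) :
    ∃ N : Subgroup G, N.Normal ∧ N ≠ ⊥ ∧ ∀ M : Subgroup G, M.Normal → M ≤ N → M = ⊥ ∨ M = N := by
  have : Finite Ω := Nat.finite_of_card_ne_zero (by omega)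
  have : Nontrivial Ω := Finite.one_lt_card_iff_nontrivial.mp (by omega)
  obtain ⟨x, y, hxy⟩ := exists_pair_ne Ω
  obtain ⟨g, hg⟩ := exists_smul_eq G x y
  have htop : (⊤ : Subgroup G) ≠ ⊥ := fun e => hxy (by
    have : g ∈ (⊥ : Subgroup G) := e ▸ Subgroup.mem_top g
    rw [Subgroup.mem_bot] at this
    rw [← hg, this, one_smul])
  obtain ⟨M, -, hM⟩ :=
    exists_minimal_le_of_wellFoundedLT (fun K : Subgroup G => K.Normal ∧ K ≠ ⊥) ⊤ ⟨inferInstance, htop⟩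
  refine ⟨M, hM.1.1, hM.1.2, fun K hK hKM => ?_⟩
  by_cases h : K = ⊥
  · exact .inl h
  · exact .inr (le_antisymm hKM (hM.2 ⟨hK, h⟩ hKM))

/-- A primitive group is affine, or almost simple, or the nonabelian minimal normal subgroup `N` with
factor `T` is not simple, or is simple and regular. -/
lemma primitive_cases [IsPreprimitive G Ω] (h2 : 2 ≤ Nat.card Ω) :
    (∃ (N : Subgroup G) (p : ℕ), p.Prime ∧ N.Normal ∧ N ≠ ⊥ ∧ IsMulCommutative N ∧
      (∀ x ∈ N, x ^ p = 1) ∧ IsPretransitive N Ω ∧ ∀ ω : Ω, stabilizer N ω = ⊥) ∨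
    (∃ T : Subgroup G, T.Normal ∧ IsSimpleGroup T ∧ ¬ IsMulCommutative T ∧
      Subgroup.centralizer (T : Set G) = ⊥) ∨
    (∃ N T : Subgroup G, N.Normal ∧ (∀ M : Subgroup G, M.Normal → M ≤ N → M = ⊥ ∨ M = N) ∧
      IsPretransitive N Ω ∧ IsFactor N T ∧ (T ≠ N ∨ ∀ x ∈ T, x ≠ 1 → ∀ ω : Ω, x • ω ≠ ω)) := by
  obtain ⟨N, hNn, hN, hmin⟩ := exists_minNormal (G := G) h2
  have hNt := Cfsg.Agent.Perm.isPretransitive_of_normal_ne_bot (X := Ω) N hN
  by_cases hab : IsMulCommutative N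
  · obtain ⟨p, hp, hpw⟩ := Cfsg.Agent.Perm.exists_prime_exponent N hN hmin hab
    exact Or.inl ⟨N, p, hp, hNn, hN, hab, hpw, hNt,
      fun ω => Cfsg.Agent.Perm.stabilizer_eq_bot_of_isMulCommutative hab ω⟩
  · right
    obtain ⟨T, hT⟩ := exists_isFactor hN hmin hab
    by_cases hTN : T = N
    · subst hTN
      by_cases hC : Subgroup.centralizer (T : Set G) = ⊥
      · exact Or.inl ⟨T, hNn, hT.simple, hT.nonab, hC⟩
      · refine Or.inr ⟨T, T, hNn, hmin, hNt, hT, Or.inr fun x hx hx1 ω hω => hx1 ?_⟩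
        exact Cfsg.Agent.Perm.stabilizer_subgroup_eq_bot_iff.mp
          (semiregular_of_centralizer_ne_bot hC ω) x hx hω
    · exact Or.inr ⟨N, T, hNn, hmin, hNt, hT, Or.inl hTN⟩

end Cfsg.Agent.RecogB
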