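import Cfsg.Agent.RecogB.SL34Roots

/-!
Central extensions of exponent two of `PSL₃(4)`: the commutator relations of the positive root
subgroups hold up to a central subgroup of order at most four.
-/

set_option autoImplicit false

namespace Cfsg.Agent.RecogB.SL34

open Matrix
open scoped commutatorElement

/-- A central extension of exponent two of a quotient of `SL₃(4)`. -/
structure Setup (F L Q : Type*) [Field F] [Group L] [Group Q] where
  φ : Matrix.SpecialLinearGroup (Fin 3) F →* Q
  π : L →* Q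
  surj : Function.Surjective π
  central : ∀ z, π z = 1 → ∀ y, Commute z y
  sq : ∀ z, π z = 1 → z * z = 1
  w : F
  w3 : w ^ 3 = 1
  wsum : w ^ 2 + w + 1 = 0
  two : (2 : F) = 0
  four : ∀ s : F, s = 0 ∨ s = 1 ∨ s = w ∨ s = w ^ 2

namespace Setup

variable {F L Q : Type*} [Field F] [Group L] [Group Q] (S : Setup F L Q)

/-- A chosen preimage. -/
noncomputable def lft (g : Matrix.SpecialLinearGroup (Fin 3) F) : L := Function.surjInv S.surj (S.φ g)

theorem π_lft (g : Matrix.SpecialLinearGroup (Fin 3) F) : S.π (S.lft g) = S.φ g :=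
  Function.surjInv_eq S.surj _

/-- The lifted commutator. -/
noncomputable def cl (g g' : Matrix.SpecialLinearGroup (Fin 3) F) : L := ⁅S.lft g, S.lft g'⁆

theorem comm_eq {A A' B B' : L} (hA : S.π A = S.π A') (hB : S.π B = S.π B') : ⁅A, B⁆ = ⁅A', B'⁆ := by
  have h1 : S.π (A * A'⁻¹) = 1 := by rw [map_mul, map_inv, hA, mul_inv_cancel]
  have h2 : S.π (B * B'⁻¹) = 1 := by rw [map_mul, map_inv, hB, mul_inv_cancel]
  obtain ⟨z, hz, rfl⟩ : ∃ z, S.π z = 1 ∧ A = z * A' := ⟨_, h1, by group⟩
  obtain ⟨y, hy, rfl⟩ : ∃ y, S.π y = 1 ∧ B = y * B' := ⟨_, h2, by group⟩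
  have cz := S.central z hz
  have cy := S.central y hy
  rw [commutatorElement_def, commutatorElement_def]
  calc z * A' * (y * B') * (z * A')⁻¹ * (y * B')⁻¹
      = z * (A' * y) * B' * A'⁻¹ * z⁻¹ * B'⁻¹ * y⁻¹ := by group
    _ = z * (y * (A' * B' * A'⁻¹)) * z⁻¹ * B'⁻¹ * y⁻¹ := by rw [← (cy A').eq]; group
    _ = y * (A' * B' * A'⁻¹) * B'⁻¹ * y⁻¹ := by rw [(cz _).eq, mul_inv_cancel_right]
    _ = y * (A' * B' * A'⁻¹ * B'⁻¹) * y⁻¹ := by group
    _ = _ := by rw [(cy _).eq, mul_inv_cancel_right]

theorem cl_eq {A B : L} {g g' : Matrix.SpecialLinearGroup (Fin 3) F} (hA : S.π A = S.φ g)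
    (hB : S.π B = S.φ g') : ⁅A, B⁆ = S.cl g g' :=
  S.comm_eq (hA.trans (S.π_lft g).symm) (hB.trans (S.π_lft g').symm)

theorem π_cl (g g' : Matrix.SpecialLinearGroup (Fin 3) F) : S.π (S.cl g g') = S.φ ⁅g, g'⁆ := by
  rw [cl, map_commutatorElement, map_commutatorElement, π_lft, π_lft]

theorem conj_cl {M : L} {m : Matrix.SpecialLinearGroup (Fin 3) F} (hM : S.π M = S.φ m)
    (g g' : Matrix.SpecialLinearGroup (Fin 3) F) :
    M * S.cl g g' * M⁻¹ = S.cl (m * g * m⁻¹) (m * g' * m⁻¹) := by
  rw [show M * S.cl g g' * M⁻¹ = ⁅M * S.lft g * M⁻¹, M * S.lft g' * M⁻¹⁆ by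
    rw [cl, commutatorElement_def, commutatorElement_def]; group]
  exact S.cl_eq (by simp [hM, S.π_lft]) (by simp [hM, S.π_lft])

/-- The diagonal element at a root. -/
abbrev D {i j : Fin 3} (h : i ≠ j) : Matrix.SpecialLinearGroup (Fin 3) F := d S.w3 h

/-- The lifted root element. -/
noncomputable def x {i j : Fin 3} (h : i ≠ j) (s : F) : L := S.cl (S.D h) (u h (S.w * s))

theorem w_ne_zero : S.w ≠ 0 := fun h => by have := S.w3; simp [h] at this

theorem third (i j : Fin 3) : ∃ k : Fin 3, i ≠ k ∧ k ≠ j := by revert i j; decide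

theorem dg_fst {i j : Fin 3} : dg (w := S.w) i j i = S.w ^ 2 := by simp [dg]

theorem dg_snd {i j : Fin 3} (h : i ≠ j) : dg (w := S.w) i j j = S.w := by simp [dg, h.symm]

theorem dg_oth {i j k : Fin 3} (hi : k ≠ i) (hj : k ≠ j) : dg (w := S.w) i j k = 1 := by simp [dg, hi, hj]

include S in
theorem u_inv {i j : Fin 3} (h : i ≠ j) (s : F) : (u h s)⁻¹ = u h s := by
  rw [inv_eq_iff_mul_eq_one, u_add, ← two_mul, S.two, zero_mul, u_zero]

theorem π_x {i j : Fin 3} (h : i ≠ j) (s : F) : S.π (S.x h s) = S.φ (u h s) := by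
  rw [x, π_cl, commutatorElement_def,
    d_conj_u S.w3 h h (S.w * s) (S.w ^ 2 * s) (by rw [S.dg_fst, S.dg_snd h]; ring), S.u_inv, u_add]
  congr 2
  linear_combination s * S.wsum - s * S.two

theorem root_commute {i j : Fin 3} (h : i ≠ j) {a b : F} {A B : L} (hA : S.π A = S.φ (u h a))
    (hB : S.π B = S.φ (u h b)) : Commute B A := by
  obtain ⟨k, hik, hkj⟩ := third i j
  have hu : ⁅u hik a, u hkj (1 : F)⁆ = u h a := by
    rw [commutatorElement_def, u_commutator hik hkj h, mul_one]
    group
  have hC : S.π (S.cl (u hik a) (u hkj 1)) = S.π A := by rw [π_cl, hu, hA]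
  have hfix : B * S.cl (u hik a) (u hkj 1) * B⁻¹ = S.cl (u hik a) (u hkj 1) := by
    rw [S.conj_cl hB]
    congr 1
    · rw [mul_inv_eq_iff_eq_mul]
      exact u_comm h hik h.symm hik.symm.symm.symm b a
    · rw [mul_inv_eq_iff_eq_mul]
      exact u_comm h hkj hkj.symm h.symm b 1
  have hz : S.π (A * (S.cl (u hik a) (u hkj 1))⁻¹) = 1 := by rw [map_mul, map_inv, hC, mul_inv_cancel]
  have h1 : Commute B (A * (S.cl (u hik a) (u hkj 1))⁻¹) := (S.central _ hz B).symm
  have h2 : Commute B (S.cl (u hik a) (u hkj 1)) := mul_inv_eq_iff_eq_mul.1 hfix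
  simpa using h1.mul_right h2

theorem x_add {i j : Fin 3} (h : i ≠ j) (s t : F) : S.x h s * S.x h t = S.x h (s + t) := by
  have hc : Commute (S.lft (u h (S.w * s))) (S.x h t) := S.root_commute h (S.π_x h t) (S.π_lft _)
  have hp : S.π (S.lft (u h (S.w * s)) * S.lft (u h (S.w * t))) = S.φ (u h (S.w * (s + t))) := by
    rw [map_mul, π_lft, π_lft, ← map_mul, u_add, mul_add]
  show _ = S.cl _ _
  rw [← S.cl_eq (S.π_lft _) hp]
  show S.x h s * S.x h t = _
  have e : ∀ a b c : L, ⁅a, b * c⁆ = ⁅a, b⁆ * (b * ⁅a, c⁆ * b⁻¹) := fun a b c => by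
    simp only [commutatorElement_def]; group
  rw [e]
  congr 1
  exact (mul_inv_eq_iff_eq_mul.2 hc.eq).symm

theorem x_zero {i j : Fin 3} (h : i ≠ j) : S.x h 0 = 1 := by
  have := S.x_add h 0 0
  rw [add_zero] at this
  exact left_eq_mul.1 this.symm

theorem x_sq {i j : Fin 3} (h : i ≠ j) (s : F) : S.x h s * S.x h s = 1 := by
  rw [x_add, ← two_mul, S.two, zero_mul, x_zero]

theorem x_inv {i j : Fin 3} (h : i ≠ j) (s : F) : (S.x h s)⁻¹ = S.x h s :=
  inv_eq_of_mul_eq_one_right (S.x_sq h s)

/-- The central correction of a commutator along a path. -/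
noncomputable def corr {i j k : Fin 3} (hij : i ≠ j) (hjk : j ≠ k) (hik : i ≠ k) (s t : F) : L :=
  S.x hik (s * t) * ⁅S.x hij s, S.x hjk t⁆

theorem π_corr {i j k : Fin 3} (hij : i ≠ j) (hjk : j ≠ k) (hik : i ≠ k) (s t : F) :
    S.π (S.corr hij hjk hik s t) = 1 := by
  rw [corr, map_mul, map_commutatorElement, π_x, π_x, π_x, ← map_commutatorElement, ← map_mul,
    commutatorElement_def, u_commutator hij hjk hik, mul_inv_cancel_right, mul_inv_cancel_right, u_add,
    ← two_mul, S.two, zero_mul, u_zero, map_one]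

theorem comm_path {i j k : Fin 3} (hij : i ≠ j) (hjk : j ≠ k) (hik : i ≠ k) (s t : F) :
    ⁅S.x hij s, S.x hjk t⁆ = S.x hik (s * t) * S.corr hij hjk hik s t := by
  rw [corr, ← mul_assoc, x_sq, one_mul]

/-- An involution times an involution which is an involution. -/
theorem commute_of_invol {a b : L} (ha : a * a = 1) (hb : b * b = 1) (h : a * b * (a * b) = 1) :
    Commute a b := by
  calc a * b = a * b * ((a * b * (a * b))⁻¹) * 1 := by rw [h]; group
    _ = b⁻¹ * a⁻¹ := by group
    _ = b * a := by rw [inv_eq_of_mul_eq_one_right ha, inv_eq_of_mul_eq_one_right hb]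

/-- Roots in the same column commute. -/
theorem col {i j k : Fin 3} (hik : i ≠ k) (hjk : j ≠ k) (hij : i ≠ j) (s t : F) :
    Commute (S.x hjk s) (S.x hik t) := by
  by_cases ht : t = 0
  · rw [ht, x_zero]; exact Commute.one_right _
  set b := S.x hij.symm (s / t) with hb
  set z := S.corr hij.symm hik hjk (s / t) t with hz
  have e : b * S.x hik t * b⁻¹ = S.x hjk s * z * S.x hik t := by
    have := S.comm_path hij.symm hik hjk (s / t) t
    rw [div_mul_cancel₀ s ht, commutatorElement_def] at this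
    rw [hz, ← this, inv_mul_cancel_right]
  have hz1 := S.central z (S.π_corr _ _ _ _ _)
  have hinv : (S.x hjk s * z * S.x hik t) * (S.x hjk s * z * S.x hik t) = 1 := by
    rw [← e, show b * S.x hik t * b⁻¹ * (b * S.x hik t * b⁻¹) = b * (S.x hik t * S.x hik t) * b⁻¹ by group,
      x_sq, mul_one, mul_inv_cancel]
  refine commute_of_invol (S.x_sq _ _) (S.x_sq _ _) ?_
  have e2 : S.x hjk s * z * S.x hik t = z * (S.x hjk s * S.x hik t) := by
    rw [← (hz1 _).eq, mul_assoc]
  rw [e2, show z * (S.x hjk s * S.x hik t) * (z * (S.x hjk s * S.x hik t))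
      = z * ((S.x hjk s * S.x hik t) * z) * (S.x hjk s * S.x hik t) by group, ← (hz1 _).eq, ← mul_assoc z z,
    S.sq z (S.π_corr _ _ _ _ _), one_mul] at hinv
  exact hinv

/-- Roots in the same row commute. -/
theorem row {i j k : Fin 3} (hij : i ≠ j) (hik : i ≠ k) (hjk : j ≠ k) (t s : F) :
    Commute (S.x hik s) (S.x hij t) := by
  by_cases ht : t = 0
  · rw [ht, x_zero]; exact Commute.one_right _
  set c := S.x hjk (s / t) with hc
  set z := S.corr hij hjk hik t (s / t) with hz
  have hz1 := S.central z (S.π_corr _ _ _ _ _)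
  have hz2 : z * z = 1 := S.sq z (S.π_corr _ _ _ _ _)
  have e : c * S.x hij t * c⁻¹ = z * (S.x hik s * S.x hij t) := by
    have := congrArg (·⁻¹) (S.comm_path hij hjk hik t (s / t))
    simp only [mul_div_cancel₀ s ht, ← hz, ← hc, commutatorElement_inv, _root_.mul_inv_rev, x_inv,
      inv_eq_of_mul_eq_one_right hz2] at this
    rw [← mul_assoc, ← this, commutatorElement_def, inv_mul_cancel_right]
  refine commute_of_invol (S.x_sq _ _) (S.x_sq _ _) ?_
  have hinv : z * (S.x hik s * S.x hij t) * (z * (S.x hik s * S.x hij t)) = 1 := by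
    rw [← e, show c * S.x hij t * c⁻¹ * (c * S.x hij t * c⁻¹) = c * (S.x hij t * S.x hij t) * c⁻¹ by group,
      x_sq, mul_one, mul_inv_cancel]
  rw [show z * (S.x hik s * S.x hij t) * (z * (S.x hik s * S.x hij t))
      = z * ((S.x hik s * S.x hij t) * z) * (S.x hik s * S.x hij t) by group, ← (hz1 _).eq, ← mul_assoc z z,
    hz2, one_mul] at hinv
  exact hinv

theorem conj_x {a b i j : Fin 3} (hab : a ≠ b) (h : i ≠ j) (s c : F)
    (hc : dg (w := S.w) a b i * s = c * dg (w := S.w) a b j) :
    S.lft (S.D hab) * S.x h s * (S.lft (S.D hab))⁻¹ = S.x h c := by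
  rw [x, S.conj_cl (S.π_lft _), x]
  congr 1
  · exact d_comm S.w3 hab h
  · exact d_conj_u S.w3 hab h _ _ (by linear_combination S.w * hc)

theorem corr_inv {i j k : Fin 3} (hij : i ≠ j) (hjk : j ≠ k) (hik : i ≠ k) (s t : F) :
    S.corr hij hjk hik (S.w * s) (S.w * t) = S.corr hij hjk hik s t := by
  have h1 := S.conj_x hij hij s (S.w * s) (by rw [S.dg_fst, S.dg_snd hij]; ring)
  have h2 := S.conj_x hij hjk t (S.w * t) (by rw [S.dg_snd hij, S.dg_oth hik.symm hjk.symm, mul_one])
  have h3 := S.conj_x hij hik (s * t) (S.w * s * (S.w * t))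
    (by rw [S.dg_fst, S.dg_oth hik.symm hjk.symm]; ring)
  set M := S.lft (S.D hij)
  calc S.corr hij hjk hik (S.w * s) (S.w * t) = M * S.corr hij hjk hik s t * M⁻¹ := by
        rw [corr, corr, ← h1, ← h2, ← h3, commutatorElement_def, commutatorElement_def]
        group
    _ = _ := by rw [← (S.central _ (S.π_corr hij hjk hik s t) M).eq, mul_inv_cancel_right]

theorem corr_add {i j k : Fin 3} (hij : i ≠ j) (hjk : j ≠ k) (hik : i ≠ k) (s t t' : F) :
    S.corr hij hjk hik s (t + t') = S.corr hij hjk hik s t * S.corr hij hjk hik s t' := by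
  have e : ∀ a b c : L, ⁅a, b * c⁆ = ⁅a, b⁆ * (b * ⁅a, c⁆ * b⁻¹) := fun a b c => by
    simp only [commutatorElement_def]; group
  have hz' := S.central _ (S.π_corr hij hjk hik s t')
  have hz := S.central _ (S.π_corr hij hjk hik s t)
  have hcc : Commute (S.x hjk t) (S.x hik (s * t') * S.corr hij hjk hik s t') :=
    (S.col hik hjk hij t (s * t')).mul_right (hz' _).symm
  conv_lhs => rw [corr, ← x_add S hjk, e, comm_path S hij hjk hik, comm_path S hij hjk hik,
    mul_inv_eq_iff_eq_mul.2 hcc.eq, mul_add, ← x_add S hik]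
  rw [show S.x hik (s * t) * S.x hik (s * t') * (S.x hik (s * t) * S.corr hij hjk hik s t *
      (S.x hik (s * t') * S.corr hij hjk hik s t')) = S.x hik (s * t) * S.x hik (s * t') * S.x hik (s * t) *
      (S.corr hij hjk hik s t * S.x hik (s * t')) * S.corr hij hjk hik s t' by group, (hz _).eq,
    x_add, x_add, show S.x hik (s * t + s * t' + s * t) * (S.x hik (s * t') * S.corr hij hjk hik s t) =
      S.x hik (s * t + s * t' + s * t) * S.x hik (s * t') * S.corr hij hjk hik s t by group, x_add,
    show s * t + s * t' + s * t + s * t' = 0 by linear_combination (s * t + s * t') * S.two, x_zero, one_mul]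

theorem corr_zero {i j k : Fin 3} (hij : i ≠ j) (hjk : j ≠ k) (hik : i ≠ k) (t : F) :
    S.corr hij hjk hik 0 t = 1 := by
  rw [corr, zero_mul, x_zero, x_zero, commutatorElement_one_left, mul_one]

/-- The corrections form a group of order at most four. -/
noncomputable def corrHom {i j k : Fin 3} (hij : i ≠ j) (hjk : j ≠ k) (hik : i ≠ k) :
    Multiplicative F →* L :=
  MonoidHom.mk' (fun t => S.corr hij hjk hik 1 t.toAdd) fun a b => S.corr_add hij hjk hik 1 _ _

theorem corr_mem {i j k : Fin 3} (hij : i ≠ j) (hjk : j ≠ k) (hik : i ≠ k) (s t : F) :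
    S.corr hij hjk hik s t ∈ (S.corrHom hij hjk hik).range := by
  have h1 : ∀ t, S.corr hij hjk hik 1 t ∈ (S.corrHom hij hjk hik).range := fun t =>
    ⟨Multiplicative.ofAdd t, rfl⟩
  have hw : ∀ t, S.corr hij hjk hik S.w t ∈ (S.corrHom hij hjk hik).range := fun t => by
    have := S.corr_inv hij hjk hik 1 (S.w ^ 2 * t)
    rw [mul_one, ← mul_assoc, ← pow_succ', S.w3, one_mul] at this
    rw [this]; exact h1 _
  rcases S.four s with rfl | rfl | rfl | rfl
  · rw [corr_zero]; exact one_mem _
  · exact h1 t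
  · exact hw t
  · have := S.corr_inv hij hjk hik S.w (S.w ^ 2 * t)
    rw [← pow_two, ← mul_assoc, ← pow_succ', S.w3, one_mul] at this
    rw [this]; exact hw _

theorem path01 : (0 : Fin 3) ≠ 1 := by decide

theorem path12 : (1 : Fin 3) ≠ 2 := by decide

theorem path02 : (0 : Fin 3) ≠ 2 := by decide

/-- The unitriangular element with given coordinates. -/
def uni (a b c : F) : Matrix.SpecialLinearGroup (Fin 3) F := u path01 a * u path02 b * u path12 c

/-- Its lift. -/
noncomputable def liftUni (a b c : F) : L := S.x path01 a * S.x path02 b * S.x path12 c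

theorem π_liftUni (a b c : F) : S.π (S.liftUni a b c) = S.φ (uni a b c) := by
  rw [liftUni, uni, map_mul, map_mul, map_mul, map_mul, π_x, π_x, π_x]

/-- The group generated by the lifted positive root elements. -/
noncomputable def posGroup : Submonoid L where
  carrier := {g | ∃ z ∈ (S.corrHom path01 path12 path02).range, ∃ a b c, g = z * S.liftUni a b c}
  one_mem' := ⟨1, one_mem _, 0, 0, 0, by simp [liftUni, x_zero]⟩
  mul_mem' := by
    rintro _ _ ⟨z, hz, a, b, c, rfl⟩ ⟨z', hz', a', b', c', rfl⟩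
    have hcen : ∀ z ∈ (S.corrHom path01 path12 path02).range, ∀ y, Commute z y := by
      rintro _ ⟨t, rfl⟩ y
      exact S.central _ (S.π_corr _ _ _ _ _) y
    set k := S.corr path01 path12 path02 a' c with hk
    have hkc := S.central k (S.π_corr _ _ _ _ _)
    have hkm : k ∈ (S.corrHom path01 path12 path02).range := S.corr_mem _ _ _ a' c
    have hk2 : k * k = 1 := S.sq k (S.π_corr _ _ _ _ _)
    refine ⟨z * z' * k, mul_mem (mul_mem hz hz') hkm, a + a', b + b' + a' * c, c + c', ?_⟩
    have hswap : S.x path12 c * S.x path01 a' = k * (S.x path01 a' * S.x path02 (a' * c) * S.x path12 c) := by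
      have := congrArg (·⁻¹) (S.comm_path path01 path12 path02 a' c)
      simp only [commutatorElement_inv, _root_.mul_inv_rev, x_inv, ← hk, inv_eq_of_mul_eq_one_right hk2] at this
      calc S.x path12 c * S.x path01 a' = ⁅S.x path12 c, S.x path01 a'⁆ * S.x path01 a' * S.x path12 c := by
            rw [commutatorElement_def]; group
        _ = k * (S.x path02 (a' * c) * S.x path01 a') * S.x path12 c := by rw [this]; group
        _ = _ := by rw [(S.row path01 path02 path12 a' (a' * c)).eq]; group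
    have hca : Commute (S.x path02 b) (S.x path01 a') := S.row path01 path02 path12 a' b
    have hcc : Commute (S.x path12 c) (S.x path02 b') := S.col path02 path12 path01 c b'
    simp only [liftUni]
    calc z * (S.x path01 a * S.x path02 b * S.x path12 c) * (z' * (S.x path01 a' * S.x path02 b' * S.x path12 c'))
        = z * ((S.x path01 a * S.x path02 b * S.x path12 c) * z') * (S.x path01 a' * S.x path02 b' * S.x path12 c') := by
          group
      _ = z * z' * (S.x path01 a * S.x path02 b * (S.x path12 c * S.x path01 a') * S.x path02 b' * S.x path12 c') := by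
          rw [← (hcen z' hz' _).eq]; group
      _ = z * z' * (S.x path01 a * S.x path02 b * k) * (S.x path01 a' * S.x path02 (a' * c)) *
            (S.x path12 c * S.x path02 b') * S.x path12 c' := by rw [hswap]; group
      _ = z * z' * k * S.x path01 a * (S.x path02 b * S.x path01 a') * S.x path02 (a' * c) * S.x path02 b' *
            (S.x path12 c * S.x path12 c') := by
          rw [← (hkc (S.x path01 a * S.x path02 b)).eq, hcc.eq]; group
      _ = z * z' * k * (S.x path01 a * S.x path01 a') * (S.x path02 b * S.x path02 (a' * c) * S.x path02 b') *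
            (S.x path12 c * S.x path12 c') := by rw [hca.eq]; group
      _ = _ := by
          rw [x_add, x_add, x_add, x_add, show b + a' * c + b' = b + b' + a' * c by ring]
          group

/-- In a perfect finite group the kernel has order at most four. -/
theorem card_ker_le [Finite L] [Fintype F] (hF : Fintype.card F = 4) (hperf : commutator L = ⊤)
    (hinj : ∀ a b c a' b' c' : F, S.φ (uni a b c) = S.φ (uni a' b' c') → a = a' ∧ b = b' ∧ c = c')
    (hcard : Nat.card Q = 20160) : Nat.card S.π.ker ≤ 4 := by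
  classical
  let K : Subgroup L := { S.posGroup with
    inv_mem' := fun {g} hg => by
      rw [show g⁻¹ = g ^ (orderOf g - 1) from inv_eq_of_mul_eq_one_right (by
        rw [← pow_succ', Nat.sub_add_cancel (orderOf_pos g), pow_orderOf_eq_one])]
      exact pow_mem (show g ∈ S.posGroup from hg) _ }
  have hKmem : ∀ g, g ∈ K ↔ ∃ z ∈ (S.corrHom path01 path12 path02).range, ∃ a b c, g = z * S.liftUni a b c :=
    fun g => Iff.rfl
  have hzπ : ∀ z ∈ (S.corrHom path01 path12 path02).range, S.π z = 1 := by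
    rintro _ ⟨t, rfl⟩
    exact S.π_corr _ _ _ _ _
  have hUcard : Nat.card (K.map S.π) = 64 := by
    let f : F × F × F → K.map S.π := fun v => ⟨S.π (S.liftUni v.1 v.2.1 v.2.2),
      Subgroup.mem_map_of_mem _ ((hKmem _).2 ⟨1, one_mem _, _, _, _, (one_mul _).symm⟩)⟩
    have hb : Function.Bijective f := by
      constructor
      · intro v v' h
        have := congrArg Subtype.val h
        rw [show (f v).1 = _ from S.π_liftUni _ _ _, show (f v').1 = _ from S.π_liftUni _ _ _] at this
        obtain ⟨e1, e2, e3⟩ := hinj _ _ _ _ _ _ this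
        exact Prod.ext e1 (Prod.ext e2 e3)
      · rintro ⟨_, g, hg, rfl⟩
        obtain ⟨z, hz, a, b, c, rfl⟩ := (hKmem _).1 hg
        exact ⟨(a, b, c), Subtype.ext ((by rw [map_mul, hzπ z hz, one_mul] : S.π (S.liftUni a b c) = S.π (z * S.liftUni a b c)))⟩
    rw [← Nat.card_congr (Equiv.ofBijective f hb), Nat.card_prod, Nat.card_prod, Nat.card_eq_fintype_card, hF]
  set P := (K.map S.π).comap S.π with hP
  have hidx : P.index = 315 := by
    have := Subgroup.index_comap_of_surjective (K.map S.π) S.surj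
    rw [← hP] at this
    rw [this]
    have h2 := (K.map S.π).card_mul_index
    rw [hUcard, hcard] at h2
    omega
  have hPK : ⁅P, P⁆ ≤ K := by
    rw [Subgroup.commutator_le]
    rintro p ⟨k, hk, hkp⟩ p' ⟨k', hk', hkp'⟩
    rw [← S.comm_eq hkp hkp', commutatorElement_def]
    exact mul_mem (mul_mem (mul_mem hk hk') (inv_mem hk)) (inv_mem hk')
  have key : ∀ z, S.π z = 1 → z ∈ (S.corrHom path01 path12 path02).range := by
    intro z hz
    have hzP : z ∈ P := by rw [hP, Subgroup.mem_comap, hz]; exact one_mem _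
    have hzc := S.central z hz
    set ϕ : P →* Abelianization P := Abelianization.of
    have ht : MonoidHom.transfer ϕ = 1 := by
      refine MonoidHom.ext fun g => ?_
      have : commutator L ≤ (MonoidHom.transfer ϕ).ker := Abelianization.commutator_subset_ker _
      exact this (hperf ▸ Subgroup.mem_top g)
    have h1 := MonoidHom.transfer_eq_pow ϕ z fun m g₀ _ => by
      rw [mul_assoc, ((hzc g₀).pow_left m).eq, inv_mul_cancel_left]
    rw [ht, MonoidHom.one_apply] at h1
    have h2 : (⟨z ^ P.index, Subgroup.pow_mem _ hzP _⟩ : P) ∈ commutator P := by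
      rw [← Abelianization.ker_of, MonoidHom.mem_ker]
      exact h1.symm
    have h3 := Subgroup.mem_map_of_mem P.subtype h2
    rw [commutator_def, Subgroup.map_commutator, ← MonoidHom.range_eq_map, Subgroup.range_subtype] at h3
    have hzK : z ∈ K := by
      have h4 := hPK h3
      simp only [Subgroup.coe_subtype, hidx] at h4
      rwa [show (315 : ℕ) = 2 * 157 + 1 from rfl, pow_succ, pow_mul, pow_two, S.sq z hz, one_pow, one_mul] at h4
    obtain ⟨z0, hz0, a, b, c, e⟩ := (hKmem z).1 hzK
    have h5 : S.φ (uni a b c) = S.φ (uni 0 0 0) := by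
      rw [← S.π_liftUni, ← S.π_liftUni]
      have : S.π (S.liftUni 0 0 0) = 1 := by simp [liftUni, x_zero]
      rw [this, ← hz, e, map_mul, hzπ z0 hz0, one_mul]
    obtain ⟨rfl, rfl, rfl⟩ := hinj _ _ _ _ _ _ h5
    rw [e]
    simpa [liftUni, x_zero] using hz0
  calc Nat.card S.π.ker ≤ Nat.card (S.corrHom path01 path12 path02).range :=
        Subgroup.card_le_of_le fun z hz => key z hz
    _ ≤ Nat.card (Multiplicative F) :=
        Nat.card_le_card_of_surjective _ (S.corrHom path01 path12 path02).rangeRestrict_surjective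
    _ = 4 := by rw [Nat.card_congr Multiplicative.toAdd, Nat.card_eq_fintype_card, hF]

end Setup

end Cfsg.Agent.RecogB.SL34
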