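import Mathlib

/-!
Root elements and diagonal matrices in the special linear group of degree three over a
field.
-/

set_option autoImplicit false

namespace Cfsg.Agent.RecogB.SL34

open Matrix

variable {F : Type*} [Field F]

local notation "SL3" F:max => Matrix.SpecialLinearGroup (Fin 3) F

theorem sl_ext {A B : SL3 F} (h : A.1 = B.1) : A = B := Subtype.ext h

theorem mul_coe (A B : SL3 F) : (A * B).1 = A.1 * B.1 := rfl

/-- The root element. -/
abbrev u {i j : Fin 3} (h : i ≠ j) (s : F) : SL3 F := SpecialLinearGroup.transvection h s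

theorem u_coe {i j : Fin 3} (h : i ≠ j) (s : F) : (u h s).1 = 1 + single i j s :=
  SpecialLinearGroup.transvection_coe h s

theorem sm {a b c e : Fin 3} (x y : F) (h : b ≠ c) :
    (single a b x : Matrix (Fin 3) (Fin 3) F) * single c e y = 0 := by
  rw [Matrix.single_mul_single_of_ne _ _ _ _ h]

theorem u_add {i j : Fin 3} (h : i ≠ j) (s t : F) : u h s * u h t = u h (s + t) := by
  apply sl_ext
  simp only [mul_coe]; simp only [u_coe, Matrix.single_add, mul_add, add_mul, one_mul, mul_one,
    sm _ _ h.symm, add_zero]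
  abel

theorem u_zero {i j : Fin 3} (h : i ≠ j) : u h (0 : F) = 1 := SpecialLinearGroup.transvection_coeff_zero h

theorem u_comm {i j k l : Fin 3} (h : i ≠ j) (h' : k ≠ l) (hjk : j ≠ k) (hli : l ≠ i) (s t : F) :
    u h s * u h' t = u h' t * u h s := by
  apply sl_ext
  simp only [mul_coe]; simp only [u_coe, mul_add, add_mul, one_mul, mul_one,
    sm _ _ hjk, sm _ _ hli, add_zero]
  abel

theorem u_commutator {i j k : Fin 3} (hij : i ≠ j) (hjk : j ≠ k) (hik : i ≠ k) (s t : F) :
    u hij s * u hjk t = u hik (s * t) * u hjk t * u hij s := by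
  apply sl_ext
  simp only [mul_coe]; simp only [u_coe, mul_add, add_mul, one_mul, mul_one,
    sm _ _ hij.symm, single_mul_single_same, sm _ _ hik.symm,
    sm _ _ hjk.symm, zero_mul, add_zero]
  abel

variable {w : F} (hw : w ^ 3 = 1)

/-- A diagonal matrix with ratios chosen at the positions `i`, `j`. -/
def dg (i j : Fin 3) : Fin 3 → F := fun m => if m = i then w ^ 2 else if m = j then w else 1

include hw in
theorem det_dg {i j : Fin 3} (h : i ≠ j) : (Matrix.diagonal (dg (w := w) i j)).det = 1 := by
  rw [Matrix.det_diagonal, Fin.prod_univ_three]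
  fin_cases i <;> fin_cases j <;> first | exact absurd rfl h | (simp [dg]; linear_combination hw)

/-- The diagonal element. -/
def d {i j : Fin 3} (h : i ≠ j) : SL3 F := ⟨Matrix.diagonal (dg (w := w) i j), det_dg hw h⟩

theorem d_coe {i j : Fin 3} (h : i ≠ j) :
    (d hw h).1 = Matrix.diagonal (dg (w := w) i j) := rfl

theorem d_conj_u {a b i j : Fin 3} (hab : a ≠ b) (h : i ≠ j) (s c : F)
    (hc : dg (w := w) a b i * s = c * dg (w := w) a b j) : d hw hab * u h s * (d hw hab)⁻¹ = u h c := by
  rw [mul_inv_eq_iff_eq_mul]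
  apply sl_ext
  simp only [mul_coe]; simp only [u_coe, d_coe, mul_add, add_mul, one_mul, mul_one]
  congr 1
  ext p q
  rw [Matrix.diagonal_mul, Matrix.mul_diagonal, Matrix.single_apply, Matrix.single_apply]
  split_ifs with hpq
  · obtain ⟨rfl, rfl⟩ := hpq; exact hc
  · simp

theorem d_comm {a b i j : Fin 3} (hab : a ≠ b) (h : i ≠ j) : d hw hab * d hw h * (d hw hab)⁻¹ = d hw h := by
  rw [mul_inv_eq_iff_eq_mul]
  apply sl_ext
  simp only [mul_coe]
  simp only [d_coe, Matrix.diagonal_mul_diagonal, mul_comm]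

end Cfsg.Agent.RecogB.SL34
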