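import Cfsg.Agent.RecogB.SL34Cover
import Cfsg.Agent.S0243

/-!
Perfect central extensions of exponent two of `PSL₃(4)` with centre of order four are unique.
-/

set_option autoImplicit false

namespace Cfsg.Agent.RecogB.SL34

open Matrix
open scoped commutatorElement

theorem card_eq_ker_mul {H K : Type*} [Group H] [Group K] (f : H →* K) (hf : Function.Surjective f) :
    Nat.card H = Nat.card f.ker * Nat.card K := by
  rw [Subgroup.card_eq_card_quotient_mul_card_subgroup f.ker, mul_comm,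
    Nat.card_congr (QuotientGroup.quotientKerEquivOfSurjective f hf).toEquiv]

theorem exists_commutator_preimage {M H : Type*} [Group M] [Group H] (f : M →* H) (hf : Function.Surjective f)
    (hH : commutator H = ⊤) (y : H) : ∃ a ∈ commutator M, f a = y := by
  have : (commutator M).map f = ⊤ := by
    rw [commutator_def, Subgroup.map_commutator, Subgroup.map_top_of_surjective f hf, ← commutator_def, hH]
  exact Subgroup.mem_map.1 (this ▸ Subgroup.mem_top y)

theorem bijective_commutator {M H : Type*} [Group M] [Finite M] [Group H] [Finite H] (f : M →* H)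
    (hf : Function.Surjective f) (hH : commutator H = ⊤) (hc : Nat.card (commutator M) ≤ Nat.card H) :
    Function.Bijective (f.comp (commutator M).subtype) := by
  have hs : Function.Surjective (f.comp (commutator M).subtype) := fun y => by
    obtain ⟨a, ha, e⟩ := exists_commutator_preimage f hf hH y
    exact ⟨⟨a, ha⟩, e⟩
  exact hs.bijective_of_nat_card_le hc

variable {F : Type} [Field F] [Fintype F] (hF : Fintype.card F = 4)

include hF

theorem field_facts : ∃ w : F, w ^ 3 = 1 ∧ w ^ 2 + w + 1 = 0 ∧ (2 : F) = 0 ∧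
    ∀ s : F, s = 0 ∨ s = 1 ∨ s = w ∨ s = w ^ 2 := by
  classical
  have h3 : ∀ a : F, a ≠ 0 → a ^ 3 = 1 := fun a ha => by
    have := FiniteField.pow_card_sub_one_eq_one a ha
    rwa [hF] at this
  obtain ⟨w, hw0, hw1⟩ : ∃ w : F, w ≠ 0 ∧ w ≠ 1 := by
    by_contra hc
    push Not at hc
    have : (Finset.univ : Finset F) ⊆ {0, 1} := fun x _ => by
      by_cases h : x = 0
      · simp [h]
      · simp [hc x h]
    have h2 := (Finset.card_le_card this).trans Finset.card_le_two
    rw [Finset.card_univ, hF] at h2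
    norm_num at h2
  have hsum : w ^ 2 + w + 1 = 0 := by
    have : (w - 1) * (w ^ 2 + w + 1) = 0 := by linear_combination h3 w hw0
    exact (mul_eq_zero.1 this).resolve_left (sub_ne_zero.2 hw1)
  have htwo : (2 : F) = 0 := by
    have h := FiniteField.cast_card_eq_zero F
    rw [hF] at h
    have : (2 : F) * 2 = 0 := by norm_num; simpa using h
    rcases mul_eq_zero.1 this with e | e <;> exact e
  refine ⟨w, h3 w hw0, hsum, htwo, fun s => ?_⟩
  by_cases hs : s = 0
  · exact Or.inl hs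
  have : (s - 1) * ((s - w) * (s - w ^ 2)) = 0 := by
    linear_combination h3 s hs - h3 w hw0 - (s ^ 2 - w * s) * hsum + (s - s) * hsum
  rcases mul_eq_zero.1 this with e | e
  · exact Or.inr (Or.inl (sub_eq_zero.1 e))
  rcases mul_eq_zero.1 e with e | e
  · exact Or.inr (Or.inr (Or.inl (sub_eq_zero.1 e)))
  · exact Or.inr (Or.inr (Or.inr (sub_eq_zero.1 e)))

theorem card_psl : Nat.card (Matrix.ProjectiveSpecialLinearGroup (Fin 3) F) = 20160 := by
  have h := Cfsg.Agent.S0243.result hF 3 (by norm_num)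
  rw [show Nat.gcd 3 (4 - 1) = 3 by norm_num, Fin.prod_univ_three] at h
  norm_num at h
  omega

omit hF [Fintype F] in
theorem uni_inj (a b c a' b' c' : F)
    (h : (QuotientGroup.mk' (Subgroup.center (Matrix.SpecialLinearGroup (Fin 3) F))) (Setup.uni a b c) =
      QuotientGroup.mk' _ (Setup.uni a' b' c')) : a = a' ∧ b = b' ∧ c = c' := by
  have hm := QuotientGroup.eq.1 h
  obtain ⟨r, -, hr⟩ := Matrix.SpecialLinearGroup.mem_center_iff.1 hm
  have e : (Setup.uni a' b' c').1 = (Setup.uni a b c).1 * ((Setup.uni a b c)⁻¹ * Setup.uni a' b' c').1 := by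
    rw [← mul_coe, mul_inv_cancel_left]
  rw [← hr] at e
  simp only [Setup.uni, mul_coe, u_coe] at e
  have e00 := congrFun (congrFun e 0) 0
  have e01 := congrFun (congrFun e 0) 1
  have e02 := congrFun (congrFun e 0) 2
  have e12 := congrFun (congrFun e 1) 2
  simp [Matrix.mul_apply, Fin.sum_univ_three, Matrix.one_apply, Matrix.single_apply,
    Matrix.diagonal_apply] at e00 e01 e02 e12
  subst e00
  simp at e01 e02 e12
  subst e01 e12
  exact ⟨rfl, by linear_combination -e02, rfl⟩

theorem unique {L₁ L₂ : Type*} [Group L₁] [Finite L₁] [Group L₂] [Finite L₂]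
    (h₁ : commutator L₁ = ⊤) (h₂ : commutator L₂ = ⊤)
    (ε₁ : L₁ →* Matrix.ProjectiveSpecialLinearGroup (Fin 3) F) (hε₁ : Function.Surjective ε₁)
    (ε₂ : L₂ →* Matrix.ProjectiveSpecialLinearGroup (Fin 3) F) (hε₂ : Function.Surjective ε₂)
    (k₁ : Nat.card ε₁.ker = 4) (k₂ : Nat.card ε₂.ker = 4)
    (c₁ : ∀ z, ε₁ z = 1 → (∀ y, Commute z y) ∧ z * z = 1)
    (c₂ : ∀ z, ε₂ z = 1 → (∀ y, Commute z y) ∧ z * z = 1) : Nonempty (L₁ ≃* L₂) := by
  classical
  let M : Subgroup (L₁ × L₂) :=
    (ε₁.comp (MonoidHom.fst L₁ L₂)).eqLocus (ε₂.comp (MonoidHom.snd L₁ L₂))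
  have hM : ∀ p : M, ε₁ p.1.1 = ε₂ p.1.2 := fun p => p.2
  let q : M →* Matrix.ProjectiveSpecialLinearGroup (Fin 3) F :=
    (ε₁.comp (MonoidHom.fst L₁ L₂)).comp M.subtype
  let f₁ : M →* L₁ := (MonoidHom.fst L₁ L₂).comp M.subtype
  let f₂ : M →* L₂ := (MonoidHom.snd L₁ L₂).comp M.subtype
  have hf₁ : Function.Surjective f₁ := fun a => by
    obtain ⟨b, hb⟩ := hε₂ (ε₁ a)
    exact ⟨⟨(a, b), hb.symm⟩, rfl⟩
  have hf₂ : Function.Surjective f₂ := fun b => by
    obtain ⟨a, ha⟩ := hε₁ (ε₂ b)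
    exact ⟨⟨(a, b), ha⟩, rfl⟩
  have hcen : ∀ p : M, q p = 1 → (∀ r : M, Commute p r) ∧ p * p = 1 := fun p hp => by
    obtain ⟨a1, a2⟩ := c₁ p.1.1 hp
    obtain ⟨b1, b2⟩ := c₂ p.1.2 ((hM p).symm.trans hp)
    exact ⟨fun r => Subtype.ext (Prod.ext (a1 _) (b1 _)), Subtype.ext (Prod.ext a2 b2)⟩
  have himg₁ := exists_commutator_preimage f₁ hf₁ h₁
  have hperf : commutator (commutator M) = ⊤ := by
    apply Subgroup.map_injective (commutator M).subtype_injective
    rw [commutator_def (G := commutator M), Subgroup.map_commutator, ← MonoidHom.range_eq_map,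
      Subgroup.range_subtype]
    refine le_antisymm (Subgroup.commutator_le_right _ _) ?_
    conv_lhs => rw [commutator_def]
    rw [Subgroup.commutator_le]
    intro g _ g' _
    obtain ⟨a, ha, hga⟩ := himg₁ (f₁ g)
    obtain ⟨a', ha', hga'⟩ := himg₁ (f₁ g')
    have hz : ∀ {g a : M}, f₁ a = f₁ g → ∀ r, Commute (g * a⁻¹) r := fun {g a} e =>
      (hcen _ (by show ε₁ (f₁ (g * a⁻¹)) = 1; rw [map_mul, map_inv, e, mul_inv_cancel, map_one])).1
    have key : ∀ {g a g' : M}, f₁ a = f₁ g → ⁅g, g'⁆ = ⁅a, g'⁆ := fun {g a g'} e => by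
      have c := hz e (a * g' * a⁻¹)
      calc ⁅g, g'⁆ = (g * a⁻¹) * (a * g' * a⁻¹) * (g * a⁻¹)⁻¹ * g'⁻¹ := by rw [commutatorElement_def]; group
        _ = _ := by rw [c.eq, mul_inv_cancel_right, commutatorElement_def]
    rw [key hga, ← commutatorElement_inv, key hga', commutatorElement_inv]
    exact Subgroup.commutator_mem_commutator ha ha'
  have hπs : Function.Surjective (q.comp (commutator M).subtype) := fun y => by
    obtain ⟨a, rfl⟩ := hε₁ y
    obtain ⟨b, hb, hba⟩ := himg₁ a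
    exact ⟨⟨b, hb⟩, congrArg ε₁ hba⟩
  obtain ⟨w, w3, wsum, two, four⟩ := field_facts hF
  let S : Setup F (commutator M) (Matrix.ProjectiveSpecialLinearGroup (Fin 3) F) :=
    { φ := QuotientGroup.mk' _
      π := q.comp (commutator M).subtype
      surj := hπs
      central := fun z hz y => Subtype.ext ((hcen z.1 hz).1 y.1)
      sq := fun z hz => Subtype.ext (hcen z.1 hz).2
      w := w
      w3 := w3
      wsum := wsum
      two := two
      four := four }
  have hker : Nat.card (q.comp (commutator M).subtype).ker ≤ 4 :=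
    S.card_ker_le hF hperf uni_inj (card_psl hF)
  have hL : Nat.card (commutator M) ≤ 4 * 20160 := by
    rw [card_eq_ker_mul _ hπs, card_psl hF]
    exact Nat.mul_le_mul_right _ hker
  have n₁ : Nat.card L₁ = 4 * 20160 := by rw [card_eq_ker_mul ε₁ hε₁, k₁, card_psl hF]
  have n₂ : Nat.card L₂ = 4 * 20160 := by rw [card_eq_ker_mul ε₂ hε₂, k₂, card_psl hF]
  exact ⟨(MulEquiv.ofBijective _ (bijective_commutator f₁ hf₁ h₁ (n₁ ▸ hL))).symm.trans (MulEquiv.ofBijective _ (bijective_commutator f₂ hf₂ h₂ (n₂ ▸ hL)))⟩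

end Cfsg.Agent.RecogB.SL34
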