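import Cfsg.Agent.RecogB.DerClasses
import Cfsg.Agent.Lib.CharClifford.Burnside

/-! Groups with exactly two classes of derangements. -/

set_option autoImplicit false

namespace Cfsg.Agent.RecogB

open MulAction

variable {G Ω : Type*} [Group G] [MulAction G Ω]

lemma IsFactor.exists_three_orders [Finite G] {N T : Subgroup G} (h : IsFactor N T) :
    ∃ x ∈ T, ∃ y ∈ T, ∃ z ∈ T, (orderOf x).Prime ∧ (orderOf y).Prime ∧ (orderOf z).Prime ∧
      orderOf x ≠ orderOf y ∧ orderOf x ≠ orderOf z ∧ orderOf y ≠ orderOf z := by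
  obtain ⟨q, r, hq, hr, hqr, ⟨x, hx, hxq⟩, y, hy, hyr⟩ := h.exists_two_primes
  obtain ⟨s, hs, hsd, hsq, hsr⟩ : ∃ s : ℕ, s.Prime ∧ s ∣ Nat.card T ∧ s ≠ q ∧ s ≠ r := by
    by_contra hc
    push Not at hc
    have := h.simple
    have h0 : Nat.card T ≠ 0 := Nat.card_pos.ne'
    set m := Nat.card T / q ^ (Nat.card T).factorization q with hm
    have hmr : m = r ^ m.primeFactorsList.length := by
      refine Nat.eq_prime_pow_of_unique_prime_dvd (Nat.ordCompl_pos q h0).ne' (fun {d} hd hdd => ?_)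
      by_contra hne
      have h1 := hc d hd (hdd.trans (Nat.ordCompl_dvd _ _))
      by_cases hdq : d = q
      · subst hdq; exact Nat.not_dvd_ordCompl hd h0 hdd
      · exact hne (h1 hdq)
    have hcard : Nat.card T = q ^ (Nat.card T).factorization q * r ^ m.primeFactorsList.length := by
      rw [← hmr, hm, Nat.ordProj_mul_ordCompl_eq_self]
    exact h.nonab ⟨⟨Cfsg.Agent.CharClifford.isSolvable_of_two_prime_divisors_simple hq hr hcard⟩⟩
  have : Fact s.Prime := ⟨hs⟩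
  obtain ⟨z, hz⟩ := exists_prime_orderOf_dvd_card' s hsd
  have hzs : orderOf (z : G) = s := by rw [Subgroup.orderOf_coe, hz]
  exact ⟨x, hx, y, hy, z, z.2, hxq ▸ hq, hyr ▸ hr, hzs ▸ hs, by rw [hxq, hyr]; exact hqr,
    by rw [hxq, hzs]; exact hsq.symm, by rw [hyr, hzs]; exact hsr.symm⟩

variable [FaithfulSMul G Ω] [Finite G]

lemma false_of_factor [IsPretransitive G Ω] {N T : Subgroup G} [N.Normal]
    (hmin : ∀ M : Subgroup G, M.Normal → M ≤ N → M = ⊥ ∨ M = N) (hNt : IsPretransitive N Ω)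
    (hT : IsFactor N T) (hcase : T ≠ N ∨ ∀ x ∈ T, x ≠ 1 → ∀ ω : Ω, x • ω ≠ ω)
    (hκ : Nat.card (DerClass G Ω) = 2) : False := by
  have hne1 : ∀ u : G, (orderOf u).Prime → u ≠ 1 := fun u h e => by
    rw [e, orderOf_one] at h; exact Nat.not_prime_one h
  have hsemi : ∀ (_ : ∀ x ∈ T, x ≠ 1 → ∀ ω : Ω, x • ω ≠ ω), False := by
    intro hsr
    obtain ⟨x, hx, y, hy, z, hz, hxp, hyp, hzp, hxy, hxz, hyz⟩ := hT.exists_three_orders
    have := three_le_card (hsr x hx (hne1 x hxp)) (hsr y hy (hne1 y hyp)) (hsr z hz (hne1 z hzp))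
      (not_isConj_of_orderOf_ne hxy) (not_isConj_of_orderOf_ne hxz) (not_isConj_of_orderOf_ne hyz)
    omega
  rcases hcase with hTN | hsr
  swap
  · exact hsemi hsr
  rcases hT.derangement_cases hmin hNt with hsr | ⟨x, hx, hx1, hxy⟩
  · exact hsemi hsr
  obtain ⟨g, hg⟩ := hT.exists_other hmin hTN
  obtain ⟨q, r, hq, hr, hqr, ⟨y, hy, hyq⟩, y', hy', hyr⟩ := (hT.cj g).exists_two_primes
  have hB : ∀ u ∈ RecogB.cj g T, u ∈ N ⊓ Subgroup.centralizer (T : Set G) := fun u hu =>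
    ⟨(hT.cj g).le hu, hT.le_centralizer_of_ne (hT.cj g) hg hu⟩
  have hdx : ∀ ω : Ω, x • ω ≠ ω := fun ω => by simpa using hxy 1 (one_mem _) ω
  have := three_le_card hdx (hxy y (hB y hy)) (hxy y' (hB y' hy'))
    (hT.not_isConj_mul (hT.cj g) hg hx hx1 hy (hne1 y (hyq ▸ hq)))
    (hT.not_isConj_mul (hT.cj g) hg hx hx1 hy' (hne1 y' (hyr ▸ hr)))
    (hT.not_isConj_mul_mul (hT.cj g) hg hx hx1 hy hy' (by rw [hyq, hyr]; exact hqr))
  omega

lemma affine_two_classes [Finite Ω] [IsPretransitive G Ω] (h2 : 2 ≤ Nat.card Ω) {N : Subgroup G}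
    [hNn : N.Normal] (hab : IsMulCommutative N) (hNt : IsPretransitive N Ω)
    (hreg : ∀ ω : Ω, stabilizer N ω = ⊥) (hκ : Nat.card (DerClass G Ω) = 2) (α : Ω) :
    ((∀ g : G, g ≠ 1 → Nat.card (fixedBy Ω g) ≤ 1) ∧ ¬ 2 ∣ Nat.card Ω ∧
      2 * Nat.card (stabilizer G α) = Nat.card Ω - 1) ∨
    (IsMultiplyPretransitive G Ω 2 ∧ ∃ g : G, g ≠ 1 ∧ 2 ≤ Nat.card (fixedBy Ω g)) := by
  classical
  have hder : ∀ x ∈ N, x ≠ 1 → ∀ ω : Ω, x • ω ≠ ω := fun x hx hx1 ω e =>
    hx1 (Cfsg.Agent.Perm.stabilizer_subgroup_eq_bot_iff.mp (hreg ω) x hx e)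
  by_cases hA : ∀ g : G, (∀ ω : Ω, g • ω ≠ ω) → g ∈ N
  · left
    have hfix := fixedBy_le_one_of_le hreg ((Subgroup.closure_le N).mpr hA)
    have hcardN : Nat.card N = Nat.card Ω := Cfsg.Agent.Perm.card_eq_of_regular (hreg α)
    let H := stabilizer G α
    choose rep hrep hrepd using fun c : DerClass G Ω => c.2
    have hfree : ∀ h ∈ H, ∀ x ∈ N, x ≠ 1 → h * x * h⁻¹ = x → h = 1 := by
      intro h hh x hx hx1 e
      by_contra h1
      have h2 := hfix h h1
      rw [Nat.card_coe_set_eq, Set.ncard_le_one (Set.toFinite _)] at h2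
      refine hder x hx hx1 α (h2 (x • α) ?_ α hh)
      show h • x • α = x • α
      rw [← Cfsg.Agent.Perm.conj_smul_base hh x, e]
    let f : DerClass G Ω × H → ({1}ᶜ : Set N) := fun p =>
      ⟨⟨(p.2 : G) * rep p.1 * (p.2 : G)⁻¹, hNn.conj_mem _ (hA _ (hrepd p.1)) _⟩, fun e => by
        have e' : (p.2 : G) * rep p.1 * (p.2 : G)⁻¹ = 1 := congrArg Subtype.val e
        rw [conj_eq_one_iff] at e'
        exact hrepd p.1 α (by rw [e', one_smul])⟩
    have hf : Function.Bijective f := by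
      constructor
      · rintro ⟨c, h⟩ ⟨c', h'⟩ e
        have e' : (h : G) * rep c * (h : G)⁻¹ = (h' : G) * rep c' * (h' : G)⁻¹ :=
          congrArg (fun z : ({1}ᶜ : Set N) => ((z : N) : G)) e
        have hcc : c = c' := Subtype.ext (by
          rw [← hrep c, ← hrep c']
          exact ConjClasses.mk_eq_mk_iff_isConj.mpr
            ((isConj_iff.mpr ⟨_, e'⟩).trans (isConj_iff.mpr ⟨_, rfl⟩).symm))
        subst hcc
        have h1 : ((h' : G)⁻¹ * h) * rep c * ((h' : G)⁻¹ * h)⁻¹ = rep c := by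
          calc _ = (h' : G)⁻¹ * ((h : G) * rep c * (h : G)⁻¹) * h' := by group
            _ = rep c := by rw [e']; group
        have := hfree _ (h'⁻¹ * h).2 _ (hA _ (hrepd c))
          (fun e1 => hrepd c α (by rw [e1, one_smul])) h1
        have h3 : h'⁻¹ * h = 1 := Subtype.ext this
        rw [inv_mul_eq_one] at h3
        rw [h3]
      · rintro ⟨⟨x, hx⟩, hx1⟩
        have hxd := hder x hx (fun e => hx1 (Subtype.ext e))
        let c : DerClass G Ω := ⟨_, x, rfl, hxd⟩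
        obtain ⟨h, hh, e⟩ := affine_isConj_iff hab hNt α (hA _ (hrepd c)) hx
          (ConjClasses.mk_eq_mk_iff_isConj.mp (hrep c))
        exact ⟨(c, ⟨h, hh⟩), Subtype.ext (Subtype.ext e)⟩
    have hc := Nat.card_eq_of_bijective f hf
    rw [Nat.card_prod, hκ, Nat.card_coe_set_eq, Set.ncard_compl, Set.ncard_singleton, hcardN] at hc
    refine ⟨hfix, ?_, hc⟩
    intro h
    obtain ⟨k, hk⟩ := h
    omega
  · right
    push Not at hA
    obtain ⟨d, hd, hdN⟩ := hA
    have hnc : ∀ x ∈ N, ¬ IsConj x d := fun x hx hc => by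
      obtain ⟨c, rfl⟩ := isConj_iff.mp hc
      exact hdN (hNn.conj_mem x hx c)
    have h2t : IsMultiplyPretransitive G Ω 2 := two_transitive_of_conj hab hNt α
      (fun x hx y hy hx1 hy1 => by
        by_contra hxy
        have := three_le_card (hder x hx hx1) (hder y hy hy1) hd hxy (hnc x hx) (hnc y hy)
        omega)
    refine ⟨h2t, ?_⟩
    by_contra hc
    push Not at hc
    have := card_one_of_sharp h2 h2t (fun g hg u hu v hv => by
      have h3 := hc g hg
      rw [Nat.card_coe_set_eq] at h3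
      exact (Set.ncard_le_one (Set.toFinite _)).mp (by omega) u hu v hv)
    omega

end Cfsg.Agent.RecogB
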