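import Mathlib

/-! Certificate for the group `2.S₅` of order 240 inside `GL₄(7)` (no element of even order has a fixed vector). -/

set_option autoImplicit false

namespace Cfsg.Agent.RecogB.TwoSFive

/-- A 4×4 matrix of residues. -/
structure M4 where
  a00 : ℕ
  a01 : ℕ
  a02 : ℕ
  a03 : ℕ
  a10 : ℕ
  a11 : ℕ
  a12 : ℕ
  a13 : ℕ
  a20 : ℕ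
  a21 : ℕ
  a22 : ℕ
  a23 : ℕ
  a30 : ℕ
  a31 : ℕ
  a32 : ℕ
  a33 : ℕ
deriving DecidableEq

/-- Product modulo 7. -/
def M4.mul (x y : M4) : M4 :=
  ⟨(x.a00 * y.a00 + x.a01 * y.a10 + x.a02 * y.a20 + x.a03 * y.a30) % 7,
    (x.a00 * y.a01 + x.a01 * y.a11 + x.a02 * y.a21 + x.a03 * y.a31) % 7,
    (x.a00 * y.a02 + x.a01 * y.a12 + x.a02 * y.a22 + x.a03 * y.a32) % 7,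
    (x.a00 * y.a03 + x.a01 * y.a13 + x.a02 * y.a23 + x.a03 * y.a33) % 7,
    (x.a10 * y.a00 + x.a11 * y.a10 + x.a12 * y.a20 + x.a13 * y.a30) % 7,
    (x.a10 * y.a01 + x.a11 * y.a11 + x.a12 * y.a21 + x.a13 * y.a31) % 7,
    (x.a10 * y.a02 + x.a11 * y.a12 + x.a12 * y.a22 + x.a13 * y.a32) % 7,
    (x.a10 * y.a03 + x.a11 * y.a13 + x.a12 * y.a23 + x.a13 * y.a33) % 7,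
    (x.a20 * y.a00 + x.a21 * y.a10 + x.a22 * y.a20 + x.a23 * y.a30) % 7,
    (x.a20 * y.a01 + x.a21 * y.a11 + x.a22 * y.a21 + x.a23 * y.a31) % 7,
    (x.a20 * y.a02 + x.a21 * y.a12 + x.a22 * y.a22 + x.a23 * y.a32) % 7,
    (x.a20 * y.a03 + x.a21 * y.a13 + x.a22 * y.a23 + x.a23 * y.a33) % 7,
    (x.a30 * y.a00 + x.a31 * y.a10 + x.a32 * y.a20 + x.a33 * y.a30) % 7,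
    (x.a30 * y.a01 + x.a31 * y.a11 + x.a32 * y.a21 + x.a33 * y.a31) % 7,
    (x.a30 * y.a02 + x.a31 * y.a12 + x.a32 * y.a22 + x.a33 * y.a32) % 7,
    (x.a30 * y.a03 + x.a31 * y.a13 + x.a32 * y.a23 + x.a33 * y.a33) % 7⟩

/-- Sum modulo 7. -/
def M4.add (x y : M4) : M4 :=
  ⟨(x.a00 + y.a00) % 7, (x.a01 + y.a01) % 7, (x.a02 + y.a02) % 7, (x.a03 + y.a03) % 7, (x.a10 + y.a10) % 7, (x.a11 + y.a11) % 7, (x.a12 + y.a12) % 7, (x.a13 + y.a13) % 7, (x.a20 + y.a20) % 7, (x.a21 + y.a21) % 7, (x.a22 + y.a22) % 7, (x.a23 + y.a23) % 7, (x.a30 + y.a30) % 7, (x.a31 + y.a31) % 7, (x.a32 + y.a32) % 7, (x.a33 + y.a33) % 7⟩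

/-- Powers modulo 7. -/
def M4.pow (x : M4) : ℕ → M4
  | 0 => ⟨1, 0, 0, 0, 0, 1, 0, 0, 0, 0, 1, 0, 0, 0, 0, 1⟩
  | n + 1 => (M4.pow x n).mul x

def one : M4 := ⟨1, 0, 0, 0, 0, 1, 0, 0, 0, 0, 1, 0, 0, 0, 0, 1⟩
def negOne : M4 := ⟨6, 0, 0, 0, 0, 6, 0, 0, 0, 0, 6, 0, 0, 0, 0, 6⟩
def zero : M4 := ⟨0, 0, 0, 0, 0, 0, 0, 0, 0, 0, 0, 0, 0, 0, 0, 0⟩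

def genA : M4 := ⟨0, 0, 1, 0, 0, 0, 0, 1, 6, 0, 0, 0, 0, 6, 0, 0⟩
def genA' : M4 := ⟨0, 0, 6, 0, 0, 0, 0, 6, 1, 0, 0, 0, 0, 1, 0, 0⟩
def genB : M4 := ⟨1, 4, 2, 3, 5, 4, 3, 5, 3, 1, 2, 1, 1, 4, 3, 1⟩
def genB' : M4 := ⟨1, 6, 5, 4, 4, 2, 4, 2, 4, 6, 4, 3, 6, 3, 2, 1⟩

/-- The 240 elements. -/
def elems : List M4 := [
  ⟨1, 0, 0, 0, 0, 1, 0, 0, 0, 0, 1, 0, 0, 0, 0, 1⟩,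
  ⟨0, 0, 1, 0, 0, 0, 0, 1, 6, 0, 0, 0, 0, 6, 0, 0⟩,
  ⟨1, 4, 2, 3, 5, 4, 3, 5, 3, 1, 2, 1, 1, 4, 3, 1⟩,
  ⟨6, 0, 0, 0, 0, 6, 0, 0, 0, 0, 6, 0, 0, 0, 0, 6⟩,
  ⟨3, 1, 2, 1, 1, 4, 3, 1, 6, 3, 5, 4, 2, 3, 4, 2⟩,
  ⟨5, 4, 1, 4, 4, 2, 5, 4, 5, 6, 3, 1, 4, 6, 1, 4⟩,
  ⟨2, 6, 6, 0, 4, 3, 1, 1, 1, 1, 2, 3, 3, 6, 2, 6⟩,
  ⟨0, 0, 6, 0, 0, 0, 0, 6, 1, 0, 0, 0, 0, 1, 0, 0⟩,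
  ⟨6, 3, 5, 4, 2, 3, 4, 2, 4, 6, 5, 6, 6, 3, 4, 6⟩,
  ⟨5, 6, 3, 1, 4, 6, 1, 4, 2, 3, 6, 3, 3, 5, 2, 3⟩,
  ⟨1, 1, 2, 3, 3, 6, 2, 6, 5, 1, 1, 0, 3, 4, 6, 6⟩,
  ⟨4, 4, 1, 5, 5, 3, 1, 3, 3, 2, 2, 0, 6, 1, 5, 5⟩,
  ⟨1, 0, 2, 6, 6, 6, 4, 3, 5, 4, 1, 1, 5, 1, 3, 6⟩,
  ⟨1, 3, 6, 0, 2, 5, 1, 1, 1, 1, 4, 6, 3, 6, 4, 5⟩,
  ⟨4, 6, 5, 6, 6, 3, 4, 6, 1, 4, 2, 3, 5, 4, 3, 5⟩,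
  ⟨2, 3, 6, 3, 3, 5, 2, 3, 2, 1, 4, 6, 3, 1, 6, 3⟩,
  ⟨5, 1, 1, 0, 3, 4, 6, 6, 6, 6, 5, 4, 4, 1, 5, 1⟩,
  ⟨3, 2, 2, 0, 6, 1, 5, 5, 3, 3, 6, 2, 2, 4, 6, 4⟩,
  ⟨5, 4, 1, 1, 5, 1, 3, 6, 6, 0, 5, 1, 1, 1, 3, 4⟩,
  ⟨1, 1, 4, 6, 3, 6, 4, 5, 6, 4, 1, 0, 5, 2, 6, 6⟩,
  ⟨6, 2, 4, 4, 6, 4, 5, 3, 5, 0, 3, 2, 2, 2, 6, 1⟩,
  ⟨4, 4, 2, 3, 5, 3, 2, 6, 5, 1, 2, 0, 3, 4, 5, 5⟩,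
  ⟨6, 2, 3, 4, 2, 1, 5, 6, 1, 6, 6, 2, 4, 2, 2, 1⟩,
  ⟨1, 0, 1, 3, 6, 6, 2, 5, 3, 1, 1, 1, 3, 2, 3, 6⟩,
  ⟨6, 1, 2, 3, 3, 5, 3, 5, 3, 1, 3, 4, 1, 4, 5, 6⟩,
  ⟨2, 1, 4, 6, 3, 1, 6, 3, 5, 4, 1, 4, 4, 2, 5, 4⟩,
  ⟨6, 6, 5, 4, 4, 1, 5, 1, 2, 6, 6, 0, 4, 3, 1, 1⟩,
  ⟨3, 3, 6, 2, 2, 4, 6, 4, 4, 5, 5, 0, 1, 6, 2, 2⟩,
  ⟨6, 0, 5, 1, 1, 1, 3, 4, 2, 3, 6, 6, 2, 6, 4, 1⟩,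
  ⟨6, 4, 1, 0, 5, 2, 6, 6, 6, 6, 3, 1, 4, 1, 3, 2⟩,
  ⟨5, 0, 3, 2, 2, 2, 6, 1, 1, 5, 3, 3, 1, 3, 2, 4⟩,
  ⟨5, 1, 2, 0, 3, 4, 5, 5, 3, 3, 5, 4, 2, 4, 5, 1⟩,
  ⟨1, 6, 6, 2, 4, 2, 2, 1, 1, 5, 4, 3, 5, 6, 2, 1⟩,
  ⟨3, 1, 1, 1, 3, 2, 3, 6, 6, 0, 6, 4, 1, 1, 5, 2⟩,
  ⟨3, 1, 3, 4, 1, 4, 5, 6, 1, 6, 5, 4, 4, 2, 4, 2⟩,
  ⟨4, 3, 3, 1, 2, 1, 1, 4, 2, 3, 1, 6, 3, 5, 4, 2⟩,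
  ⟨5, 4, 4, 4, 5, 1, 5, 3, 5, 0, 5, 1, 2, 2, 3, 4⟩,
  ⟨5, 4, 5, 2, 4, 2, 6, 3, 2, 5, 3, 1, 1, 4, 1, 4⟩,
  ⟨4, 3, 6, 2, 2, 1, 2, 1, 1, 5, 1, 6, 5, 6, 4, 2⟩,
  ⟨1, 2, 1, 0, 0, 6, 0, 1, 2, 0, 3, 6, 0, 2, 0, 4⟩,
  ⟨0, 3, 6, 0, 5, 0, 0, 6, 5, 0, 0, 2, 0, 5, 1, 0⟩,
  ⟨5, 4, 6, 1, 4, 2, 3, 5, 4, 3, 3, 1, 2, 1, 1, 4⟩,
  ⟨4, 5, 5, 0, 1, 6, 2, 2, 4, 4, 1, 5, 5, 3, 1, 3⟩,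
  ⟨2, 3, 6, 6, 2, 6, 4, 1, 1, 0, 2, 6, 6, 6, 4, 3⟩,
  ⟨6, 6, 3, 1, 4, 1, 3, 2, 1, 3, 6, 0, 2, 5, 1, 1⟩,
  ⟨1, 5, 3, 3, 1, 3, 2, 4, 2, 0, 4, 5, 5, 5, 1, 6⟩,
  ⟨3, 3, 5, 4, 2, 4, 5, 1, 2, 6, 5, 0, 4, 3, 2, 2⟩,
  ⟨1, 5, 4, 3, 5, 6, 2, 1, 6, 1, 1, 5, 3, 5, 5, 6⟩,
  ⟨6, 0, 6, 4, 1, 1, 5, 2, 4, 6, 6, 6, 4, 5, 4, 1⟩,
  ⟨1, 6, 5, 4, 4, 2, 4, 2, 4, 6, 4, 3, 6, 3, 2, 1⟩,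
  ⟨2, 3, 1, 6, 3, 5, 4, 2, 3, 4, 4, 6, 5, 6, 6, 3⟩,
  ⟨5, 0, 5, 1, 2, 2, 3, 4, 2, 3, 3, 3, 2, 6, 2, 4⟩,
  ⟨2, 5, 3, 1, 1, 4, 1, 4, 2, 3, 2, 5, 3, 5, 1, 4⟩,
  ⟨1, 5, 1, 6, 5, 6, 4, 2, 3, 4, 1, 5, 5, 6, 5, 6⟩,
  ⟨2, 0, 3, 6, 0, 2, 0, 4, 6, 5, 6, 0, 0, 1, 0, 6⟩,
  ⟨5, 0, 0, 2, 0, 5, 1, 0, 0, 4, 1, 0, 2, 0, 0, 1⟩,
  ⟨4, 6, 4, 3, 6, 3, 2, 1, 6, 1, 2, 3, 3, 5, 3, 5⟩,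
  ⟨1, 0, 5, 3, 0, 1, 0, 2, 5, 3, 5, 0, 0, 2, 0, 5⟩,
  ⟨6, 0, 0, 1, 0, 6, 4, 0, 0, 1, 2, 0, 4, 0, 0, 2⟩,
  ⟨2, 5, 5, 4, 1, 4, 4, 2, 4, 6, 2, 5, 6, 3, 1, 4⟩,
  ⟨0, 0, 3, 0, 0, 0, 0, 3, 2, 0, 0, 0, 0, 2, 0, 0⟩,
  ⟨4, 0, 0, 0, 0, 4, 0, 0, 0, 0, 2, 0, 0, 0, 0, 2⟩,
  ⟨6, 0, 1, 2, 0, 6, 0, 6, 4, 1, 2, 0, 0, 3, 0, 2⟩,
  ⟨0, 6, 3, 0, 3, 0, 0, 3, 3, 0, 0, 1, 0, 3, 4, 0⟩,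
  ⟨1, 0, 0, 3, 0, 1, 5, 0, 0, 5, 5, 0, 6, 0, 0, 5⟩,
  ⟨5, 4, 0, 0, 4, 2, 0, 0, 0, 0, 2, 3, 0, 0, 3, 5⟩,
  ⟨2, 4, 2, 0, 0, 5, 0, 2, 1, 0, 5, 3, 0, 1, 0, 2⟩,
  ⟨2, 0, 4, 5, 5, 5, 1, 6, 6, 2, 4, 4, 6, 4, 5, 3⟩,
  ⟨2, 6, 5, 0, 4, 3, 2, 2, 4, 4, 2, 3, 5, 3, 2, 6⟩,
  ⟨6, 1, 1, 5, 3, 5, 5, 6, 6, 2, 3, 4, 2, 1, 5, 6⟩,
  ⟨4, 6, 6, 6, 4, 5, 4, 1, 1, 0, 1, 3, 6, 6, 2, 5⟩,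
  ⟨3, 4, 4, 6, 5, 6, 6, 3, 5, 4, 6, 1, 4, 2, 3, 5⟩,
  ⟨2, 3, 3, 3, 2, 6, 2, 4, 2, 0, 2, 6, 5, 5, 4, 3⟩,
  ⟨2, 3, 2, 5, 3, 5, 1, 4, 5, 2, 4, 6, 6, 3, 6, 3⟩,
  ⟨3, 4, 1, 5, 5, 6, 5, 6, 6, 2, 6, 1, 2, 1, 3, 5⟩,
  ⟨6, 5, 6, 0, 0, 1, 0, 6, 5, 0, 4, 1, 0, 5, 0, 3⟩,
  ⟨0, 4, 1, 0, 2, 0, 0, 1, 2, 0, 0, 5, 0, 2, 6, 0⟩,
  ⟨5, 3, 5, 0, 0, 2, 0, 5, 6, 0, 2, 4, 0, 6, 0, 5⟩,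
  ⟨0, 1, 2, 0, 4, 0, 0, 2, 1, 0, 0, 6, 0, 1, 3, 0⟩,
  ⟨4, 6, 2, 5, 6, 3, 1, 4, 5, 2, 2, 3, 6, 3, 3, 5⟩,
  ⟨2, 0, 0, 0, 0, 2, 0, 0, 0, 0, 4, 0, 0, 0, 0, 4⟩,
  ⟨0, 0, 2, 0, 0, 0, 0, 2, 3, 0, 0, 0, 0, 3, 0, 0⟩,
  ⟨4, 1, 2, 0, 0, 3, 0, 2, 1, 0, 6, 5, 0, 1, 0, 1⟩,
  ⟨3, 0, 0, 1, 0, 3, 4, 0, 0, 1, 4, 0, 4, 0, 0, 4⟩,
  ⟨0, 5, 5, 0, 6, 0, 0, 5, 6, 0, 0, 4, 0, 6, 2, 0⟩,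
  ⟨0, 0, 2, 3, 0, 0, 3, 5, 2, 3, 0, 0, 3, 5, 0, 0⟩,
  ⟨2, 4, 1, 0, 0, 5, 0, 1, 2, 0, 5, 3, 0, 2, 0, 2⟩,
  ⟨5, 0, 0, 4, 0, 5, 2, 0, 0, 2, 1, 0, 1, 0, 0, 1⟩,
  ⟨0, 6, 6, 0, 3, 0, 0, 6, 5, 0, 0, 1, 0, 5, 4, 0⟩,
  ⟨0, 0, 1, 5, 0, 0, 5, 6, 4, 6, 0, 0, 6, 3, 0, 0⟩,
  ⟨4, 0, 6, 5, 0, 4, 0, 1, 3, 6, 3, 0, 0, 4, 0, 3⟩,
  ⟨0, 0, 4, 0, 0, 0, 0, 4, 5, 0, 0, 0, 0, 5, 0, 0⟩,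
  ⟨4, 2, 1, 5, 6, 2, 5, 6, 6, 2, 4, 2, 2, 1, 6, 2⟩,
  ⟨4, 5, 6, 0, 1, 6, 1, 1, 1, 1, 1, 5, 3, 6, 1, 3⟩,
  ⟨4, 0, 0, 6, 0, 4, 3, 0, 0, 6, 3, 0, 3, 0, 0, 3⟩,
  ⟨4, 6, 3, 5, 6, 3, 1, 5, 4, 2, 2, 3, 6, 2, 3, 5⟩,
  ⟨4, 2, 4, 6, 6, 2, 6, 3, 5, 4, 4, 2, 4, 2, 6, 2⟩,
  ⟨0, 0, 5, 4, 0, 0, 4, 2, 5, 4, 0, 0, 4, 2, 0, 0⟩,
  ⟨4, 1, 1, 0, 0, 3, 0, 1, 2, 0, 6, 5, 0, 2, 0, 1⟩,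
  ⟨5, 0, 2, 4, 0, 5, 0, 5, 2, 4, 1, 0, 0, 5, 0, 1⟩,
  ⟨0, 5, 6, 0, 6, 0, 0, 6, 5, 0, 0, 4, 0, 5, 2, 0⟩,
  ⟨2, 0, 2, 6, 5, 5, 4, 3, 5, 4, 4, 4, 5, 1, 5, 3⟩,
  ⟨5, 2, 4, 6, 6, 3, 6, 3, 5, 4, 5, 2, 4, 2, 6, 3⟩,
  ⟨6, 2, 6, 1, 2, 1, 3, 5, 4, 3, 6, 2, 2, 1, 2, 1⟩,
  ⟨5, 0, 4, 1, 0, 5, 0, 3, 1, 2, 1, 0, 0, 6, 0, 1⟩,
  ⟨2, 0, 0, 5, 0, 2, 6, 0, 0, 3, 6, 0, 5, 0, 0, 6⟩,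
  ⟨6, 0, 2, 4, 0, 6, 0, 5, 2, 4, 2, 0, 0, 5, 0, 2⟩,
  ⟨1, 0, 0, 6, 0, 1, 3, 0, 0, 6, 5, 0, 3, 0, 0, 5⟩,
  ⟨5, 2, 2, 3, 6, 3, 3, 5, 3, 1, 5, 2, 1, 4, 6, 3⟩,
  ⟨3, 0, 0, 0, 0, 3, 0, 0, 0, 0, 5, 0, 0, 0, 0, 5⟩,
  ⟨1, 0, 6, 5, 0, 1, 0, 1, 3, 6, 5, 0, 0, 4, 0, 5⟩,
  ⟨0, 1, 4, 0, 4, 0, 0, 4, 4, 0, 0, 6, 0, 4, 3, 0⟩,
  ⟨6, 0, 0, 4, 0, 6, 2, 0, 0, 2, 2, 0, 1, 0, 0, 2⟩,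
  ⟨2, 3, 0, 0, 3, 5, 0, 0, 0, 0, 5, 4, 0, 0, 4, 2⟩,
  ⟨2, 0, 5, 3, 0, 2, 0, 2, 5, 3, 6, 0, 0, 2, 0, 6⟩,
  ⟨0, 2, 1, 0, 1, 0, 0, 1, 2, 0, 0, 3, 0, 2, 5, 0⟩,
  ⟨5, 0, 0, 1, 0, 5, 4, 0, 0, 1, 1, 0, 4, 0, 0, 1⟩,
  ⟨4, 6, 0, 0, 6, 3, 0, 0, 0, 0, 6, 2, 0, 0, 2, 1⟩,
  ⟨3, 6, 3, 0, 0, 4, 0, 3, 3, 0, 1, 2, 0, 3, 0, 6⟩,
  ⟨5, 0, 0, 0, 0, 5, 0, 0, 0, 0, 3, 0, 0, 0, 0, 3⟩,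
  ⟨6, 2, 4, 2, 2, 1, 6, 2, 3, 5, 6, 2, 1, 5, 2, 1⟩,
  ⟨1, 1, 1, 5, 3, 6, 1, 3, 3, 2, 1, 0, 6, 1, 6, 6⟩,
  ⟨4, 2, 2, 3, 6, 2, 3, 5, 3, 1, 4, 2, 1, 4, 6, 2⟩,
  ⟨5, 4, 4, 2, 4, 2, 6, 2, 3, 5, 3, 1, 1, 5, 1, 4⟩,
  ⟨2, 0, 6, 5, 0, 2, 0, 1, 3, 6, 6, 0, 0, 4, 0, 6⟩,
  ⟨4, 4, 4, 6, 5, 3, 4, 5, 6, 4, 2, 0, 5, 2, 5, 5⟩,
  ⟨0, 3, 5, 0, 5, 0, 0, 5, 6, 0, 0, 2, 0, 6, 1, 0⟩,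
  ⟨2, 1, 1, 5, 3, 1, 5, 6, 6, 2, 1, 4, 2, 1, 5, 4⟩,
  ⟨6, 2, 2, 1, 2, 1, 3, 1, 6, 3, 6, 2, 2, 3, 2, 1⟩,
  ⟨6, 2, 0, 0, 2, 1, 0, 0, 0, 0, 4, 6, 0, 0, 6, 3⟩,
  ⟨1, 0, 3, 6, 0, 1, 0, 4, 6, 5, 5, 0, 0, 1, 0, 5⟩,
  ⟨1, 2, 4, 0, 0, 6, 0, 4, 4, 0, 3, 6, 0, 4, 0, 4⟩,
  ⟨6, 0, 0, 2, 0, 6, 1, 0, 0, 4, 2, 0, 2, 0, 0, 2⟩,
  ⟨1, 3, 3, 0, 2, 5, 4, 4, 2, 2, 4, 6, 6, 5, 4, 5⟩,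
  ⟨1, 0, 4, 5, 6, 6, 1, 6, 6, 2, 1, 1, 6, 4, 3, 6⟩,
  ⟨3, 5, 5, 4, 1, 5, 4, 2, 4, 6, 3, 5, 6, 3, 1, 5⟩,
  ⟨3, 1, 4, 2, 1, 4, 6, 2, 3, 5, 5, 4, 1, 5, 4, 2⟩,
  ⟨4, 3, 5, 4, 2, 1, 4, 2, 4, 6, 1, 6, 6, 3, 4, 2⟩,
  ⟨5, 0, 1, 2, 0, 5, 0, 6, 4, 1, 1, 0, 0, 3, 0, 1⟩,
  ⟨6, 0, 4, 1, 0, 6, 0, 3, 1, 2, 2, 0, 0, 6, 0, 2⟩,
  ⟨5, 0, 6, 4, 2, 2, 5, 2, 4, 6, 3, 3, 4, 5, 2, 4⟩,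
  ⟨1, 3, 5, 0, 2, 5, 2, 2, 4, 4, 4, 6, 5, 3, 4, 5⟩,
  ⟨1, 0, 0, 5, 0, 1, 6, 0, 0, 3, 5, 0, 5, 0, 0, 5⟩,
  ⟨1, 5, 6, 3, 5, 6, 2, 3, 2, 1, 1, 5, 3, 1, 5, 6⟩,
  ⟨0, 6, 5, 0, 3, 0, 0, 5, 6, 0, 0, 1, 0, 6, 4, 0⟩,
  ⟨3, 1, 5, 2, 1, 4, 6, 3, 2, 5, 5, 4, 1, 4, 4, 2⟩,
  ⟨0, 0, 5, 0, 0, 0, 0, 5, 4, 0, 0, 0, 0, 4, 0, 0⟩,
  ⟨3, 6, 5, 0, 0, 4, 0, 5, 6, 0, 1, 2, 0, 6, 0, 6⟩,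
  ⟨0, 2, 2, 0, 1, 0, 0, 2, 1, 0, 0, 3, 0, 1, 5, 0⟩,
  ⟨5, 3, 6, 0, 0, 2, 0, 6, 5, 0, 2, 4, 0, 5, 0, 5⟩,
  ⟨2, 0, 0, 3, 0, 2, 5, 0, 0, 5, 6, 0, 6, 0, 0, 6⟩,
  ⟨0, 1, 1, 0, 4, 0, 0, 1, 2, 0, 0, 6, 0, 2, 3, 0⟩,
  ⟨0, 0, 6, 2, 0, 0, 2, 1, 3, 1, 0, 0, 1, 4, 0, 0⟩,
  ⟨3, 0, 1, 2, 0, 3, 0, 6, 4, 1, 4, 0, 0, 3, 0, 4⟩,
  ⟨3, 5, 6, 2, 1, 5, 2, 1, 1, 5, 3, 5, 5, 6, 1, 5⟩,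
  ⟨3, 2, 1, 0, 6, 1, 6, 6, 6, 6, 6, 2, 4, 1, 6, 4⟩,
  ⟨3, 5, 3, 1, 1, 5, 1, 4, 2, 3, 3, 5, 3, 5, 1, 5⟩,
  ⟨3, 6, 6, 0, 0, 4, 0, 6, 5, 0, 1, 2, 0, 5, 0, 6⟩,
  ⟨6, 4, 2, 0, 5, 2, 5, 5, 3, 3, 3, 1, 2, 4, 3, 2⟩,
  ⟨6, 2, 1, 4, 2, 1, 5, 4, 5, 6, 6, 2, 4, 6, 2, 1⟩,
  ⟨6, 3, 6, 2, 2, 3, 2, 1, 1, 5, 5, 6, 5, 6, 4, 6⟩,
  ⟨0, 0, 4, 6, 0, 0, 6, 3, 1, 5, 0, 0, 5, 6, 0, 0⟩,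
  ⟨6, 5, 5, 0, 0, 1, 0, 5, 6, 0, 4, 1, 0, 6, 0, 3⟩,
  ⟨4, 0, 3, 6, 0, 4, 0, 4, 6, 5, 3, 0, 0, 1, 0, 3⟩,
  ⟨0, 4, 2, 0, 2, 0, 0, 2, 1, 0, 0, 5, 0, 1, 6, 0⟩,
  ⟨2, 2, 4, 6, 6, 5, 4, 5, 6, 4, 4, 0, 5, 2, 3, 3⟩,
  ⟨6, 2, 1, 1, 6, 4, 3, 6, 6, 0, 3, 2, 1, 1, 6, 1⟩,
  ⟨4, 6, 1, 6, 6, 3, 4, 2, 3, 4, 2, 3, 5, 6, 3, 5⟩,
  ⟨1, 2, 2, 0, 0, 6, 0, 2, 1, 0, 3, 6, 0, 1, 0, 4⟩,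
  ⟨4, 6, 3, 3, 4, 5, 2, 4, 2, 0, 1, 3, 5, 5, 2, 5⟩,
  ⟨3, 1, 4, 4, 3, 2, 5, 3, 5, 0, 6, 4, 2, 2, 5, 2⟩,
  ⟨0, 4, 4, 0, 2, 0, 0, 4, 4, 0, 0, 5, 0, 4, 6, 0⟩,
  ⟨2, 3, 5, 6, 3, 5, 4, 6, 1, 4, 4, 6, 5, 4, 6, 3⟩,
  ⟨5, 6, 6, 2, 4, 6, 2, 1, 1, 5, 6, 3, 5, 6, 2, 3⟩,
  ⟨2, 3, 4, 3, 3, 5, 2, 1, 6, 1, 4, 6, 3, 5, 6, 3⟩,
  ⟨2, 4, 4, 0, 0, 5, 0, 4, 4, 0, 5, 3, 0, 4, 0, 2⟩,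
  ⟨2, 3, 5, 5, 2, 6, 1, 2, 4, 0, 2, 6, 3, 3, 4, 3⟩,
  ⟨2, 2, 2, 3, 6, 5, 2, 6, 5, 1, 4, 0, 3, 4, 3, 3⟩,
  ⟨1, 4, 4, 6, 5, 4, 6, 3, 5, 4, 2, 1, 4, 2, 3, 1⟩,
  ⟨4, 0, 1, 3, 3, 3, 2, 5, 3, 1, 2, 2, 3, 2, 6, 5⟩,
  ⟨4, 5, 3, 0, 1, 6, 4, 4, 2, 2, 1, 5, 6, 5, 1, 3⟩,
  ⟨4, 0, 4, 5, 3, 3, 1, 6, 6, 2, 2, 2, 6, 4, 6, 5⟩,
  ⟨2, 3, 3, 5, 3, 5, 1, 5, 4, 2, 4, 6, 6, 2, 6, 3⟩,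
  ⟨3, 0, 4, 1, 0, 3, 0, 3, 1, 2, 4, 0, 0, 6, 0, 4⟩,
  ⟨5, 4, 2, 2, 5, 1, 6, 5, 3, 0, 5, 1, 4, 4, 3, 4⟩,
  ⟨2, 0, 1, 3, 5, 5, 2, 5, 3, 1, 4, 4, 3, 2, 5, 3⟩,
  ⟨3, 0, 0, 2, 0, 3, 1, 0, 0, 4, 4, 0, 2, 0, 0, 4⟩,
  ⟨6, 3, 3, 1, 2, 3, 1, 4, 2, 3, 5, 6, 3, 5, 4, 6⟩,
  ⟨1, 4, 1, 5, 5, 4, 5, 6, 6, 2, 2, 1, 2, 1, 3, 1⟩,
  ⟨2, 0, 0, 6, 0, 2, 3, 0, 0, 6, 6, 0, 3, 0, 0, 6⟩,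
  ⟨3, 1, 0, 0, 1, 4, 0, 0, 0, 0, 1, 5, 0, 0, 5, 6⟩,
  ⟨4, 1, 4, 0, 0, 3, 0, 4, 4, 0, 6, 5, 0, 4, 0, 1⟩,
  ⟨1, 5, 3, 5, 5, 6, 1, 5, 4, 2, 1, 5, 6, 2, 5, 6⟩,
  ⟨6, 6, 6, 2, 4, 1, 6, 4, 4, 5, 6, 0, 1, 6, 1, 1⟩,
  ⟨3, 3, 3, 1, 2, 4, 3, 2, 1, 3, 5, 0, 2, 5, 2, 2⟩,
  ⟨1, 5, 5, 6, 5, 6, 4, 6, 1, 4, 1, 5, 5, 4, 5, 6⟩,
  ⟨1, 5, 0, 0, 5, 6, 0, 0, 0, 0, 3, 1, 0, 0, 1, 4⟩,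
  ⟨6, 5, 3, 0, 0, 1, 0, 3, 3, 0, 4, 1, 0, 3, 0, 3⟩,
  ⟨6, 4, 4, 0, 5, 2, 3, 3, 5, 5, 3, 1, 1, 2, 3, 2⟩,
  ⟨6, 0, 3, 2, 1, 1, 6, 1, 1, 5, 6, 6, 1, 3, 4, 1⟩,
  ⟨3, 4, 2, 3, 5, 6, 3, 5, 3, 1, 6, 1, 1, 4, 3, 5⟩,
  ⟨4, 0, 0, 5, 0, 4, 6, 0, 0, 3, 3, 0, 5, 0, 0, 3⟩,
  ⟨6, 1, 4, 6, 3, 5, 6, 3, 5, 4, 3, 4, 4, 2, 5, 6⟩,
  ⟨4, 0, 5, 3, 0, 4, 0, 2, 5, 3, 3, 0, 0, 2, 0, 3⟩,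
  ⟨4, 0, 2, 6, 3, 3, 4, 3, 5, 4, 2, 2, 5, 1, 6, 5⟩,
  ⟨5, 1, 4, 0, 3, 4, 3, 3, 5, 5, 5, 4, 1, 2, 5, 1⟩,
  ⟨5, 4, 2, 1, 4, 2, 3, 1, 6, 3, 3, 1, 2, 3, 1, 4⟩,
  ⟨3, 1, 2, 2, 3, 2, 6, 5, 3, 0, 6, 4, 4, 4, 5, 2⟩,
  ⟨2, 2, 1, 5, 6, 5, 1, 3, 3, 2, 4, 0, 6, 1, 3, 3⟩,
  ⟨6, 2, 2, 2, 6, 4, 6, 5, 3, 0, 3, 2, 4, 4, 6, 1⟩,
  ⟨3, 0, 5, 1, 4, 4, 3, 4, 2, 3, 5, 5, 2, 6, 1, 2⟩,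
  ⟨3, 0, 0, 4, 0, 3, 2, 0, 0, 2, 4, 0, 1, 0, 0, 4⟩,
  ⟨4, 6, 6, 3, 6, 3, 2, 3, 2, 1, 2, 3, 3, 1, 3, 5⟩,
  ⟨2, 1, 2, 3, 3, 1, 3, 5, 3, 1, 1, 4, 1, 4, 5, 4⟩,
  ⟨3, 0, 6, 4, 4, 4, 5, 2, 4, 6, 5, 5, 4, 5, 1, 2⟩,
  ⟨3, 0, 2, 4, 0, 3, 0, 5, 2, 4, 4, 0, 0, 5, 0, 4⟩,
  ⟨3, 1, 1, 4, 1, 4, 5, 4, 5, 6, 5, 4, 4, 6, 4, 2⟩,
  ⟨4, 6, 5, 5, 4, 5, 1, 2, 4, 0, 1, 3, 3, 3, 2, 5⟩,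
  ⟨3, 2, 4, 0, 6, 1, 3, 3, 5, 5, 6, 2, 1, 2, 6, 4⟩,
  ⟨0, 5, 3, 0, 6, 0, 0, 3, 3, 0, 0, 4, 0, 3, 2, 0⟩,
  ⟨3, 1, 6, 1, 1, 4, 3, 5, 4, 3, 5, 4, 2, 1, 4, 2⟩,
  ⟨2, 6, 3, 0, 4, 3, 4, 4, 2, 2, 2, 3, 6, 5, 2, 6⟩,
  ⟨5, 5, 5, 4, 1, 2, 5, 1, 2, 6, 3, 0, 4, 3, 4, 4⟩,
  ⟨5, 6, 5, 4, 4, 6, 4, 2, 4, 6, 6, 3, 6, 3, 2, 3⟩,
  ⟨1, 6, 3, 1, 4, 2, 1, 4, 2, 3, 4, 3, 3, 5, 2, 1⟩,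
  ⟨0, 0, 3, 1, 0, 0, 1, 4, 6, 2, 0, 0, 2, 1, 0, 0⟩,
  ⟨5, 5, 3, 1, 1, 2, 3, 2, 1, 3, 3, 0, 2, 5, 4, 4⟩,
  ⟨1, 5, 6, 6, 1, 3, 4, 1, 1, 0, 4, 5, 6, 6, 1, 6⟩,
  ⟨0, 3, 3, 0, 5, 0, 0, 3, 3, 0, 0, 2, 0, 3, 1, 0⟩,
  ⟨5, 4, 3, 4, 4, 2, 5, 6, 1, 6, 3, 1, 4, 2, 1, 4⟩,
  ⟨5, 3, 3, 0, 0, 2, 0, 3, 3, 0, 2, 4, 0, 3, 0, 5⟩,
  ⟨3, 0, 3, 2, 4, 4, 6, 1, 1, 5, 5, 5, 1, 3, 1, 2⟩,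
  ⟨0, 2, 4, 0, 1, 0, 0, 4, 4, 0, 0, 3, 0, 4, 5, 0⟩,
  ⟨5, 5, 6, 2, 1, 2, 6, 4, 4, 5, 3, 0, 1, 6, 4, 4⟩,
  ⟨6, 2, 5, 2, 2, 1, 6, 3, 2, 5, 6, 2, 1, 4, 2, 1⟩,
  ⟨2, 5, 6, 2, 1, 4, 2, 1, 1, 5, 2, 5, 5, 6, 1, 4⟩,
  ⟨1, 5, 2, 5, 5, 6, 1, 4, 5, 2, 1, 5, 6, 3, 5, 6⟩,
  ⟨5, 2, 1, 5, 6, 3, 5, 6, 6, 2, 5, 2, 2, 1, 6, 3⟩,
  ⟨1, 5, 5, 5, 1, 3, 1, 2, 4, 0, 4, 5, 3, 3, 1, 6⟩,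
  ⟨4, 0, 0, 3, 0, 4, 5, 0, 0, 5, 3, 0, 6, 0, 0, 3⟩]

def succA : List ℕ := [1, 3, 5, 7, 9, 8, 12, 0, 15, 14, 18, 20, 16, 23, 25, 2, 28, 30, 26, 33, 27, 36, 38, 29, 41, 4, 43, 45, 6, 48, 42, 51, 53, 44, 35, 56, 46, 59, 47, 62, 64, 49, 67, 10, 70, 11, 72, 74, 13, 50, 24, 68, 79, 69, 82, 84, 71, 86, 88, 73, 61, 91, 75, 94, 76, 97, 99, 17, 101, 103, 19, 34, 21, 108, 22, 110, 112, 114, 116, 102, 81, 119, 104, 63, 105, 65, 106, 126, 107, 129, 131, 109, 120, 134, 111, 96, 136, 113, 139, 77, 142, 31, 145, 32, 147, 148, 149, 151, 37, 60, 39, 83, 40, 85, 66, 132, 144, 161, 163, 146, 154, 166, 123, 135, 168, 170, 150, 128, 173, 152, 98, 153, 100, 179, 155, 182, 156, 174,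 162, 157, 141, 185, 115, 188, 189, 52, 80, 54, 55, 57, 164, 58, 196, 197, 192, 199, 95, 130, 140, 160, 143, 190, 124, 191, 87, 207, 193, 202, 138, 125, 194, 211, 213, 195, 200, 215, 177, 184, 216, 198, 181, 218, 122, 118, 222, 158, 219, 212, 159, 78, 225, 183, 92, 227, 169, 127, 89, 90, 214, 93, 229, 232, 220, 175, 205, 210, 223, 226, 209, 233, 221, 228, 178, 206, 133, 230, 187, 165, 231, 201, 224, 204, 176, 172, 167, 117, 217, 121, 239, 137, 203, 180, 186, 238, 235, 236, 237, 234, 208, 171]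

def succA' : List ℕ := [7, 0, 15, 1, 25, 2, 28, 3, 5, 4, 43, 45, 6, 48, 9, 8, 12, 67, 10, 70, 11, 72, 74, 13, 50, 14, 18, 20, 16, 23, 17, 101, 103, 19, 71, 34, 21, 108, 22, 110, 112, 24, 30, 26, 33, 27, 36, 38, 29, 41, 49, 31, 145, 32, 147, 148, 35, 149, 151, 37, 109, 60, 39, 83, 40, 85, 114, 42, 51, 53, 44, 56, 46, 59, 47, 62, 64, 99, 189, 52, 146, 80, 54, 111, 55, 113, 57, 164, 58, 196, 197, 61, 192, 199, 63, 156, 95, 65, 130, 66, 132, 68, 79, 69, 82, 84, 86, 88, 73, 91, 75, 94, 76, 97, 77, 142, 78, 225, 183, 81, 92, 227, 182, 122, 162, 169, 87, 195, 127, 89, 157, 90, 115, 214, 93, 123, 96, 229, 168, 98, 158, 140, 100, 160, 116, 102, 119, 104, 105, 106, 126,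 107, 129, 131, 120, 134, 136, 139, 185, 188, 159, 117, 138, 118, 150, 217, 121, 224, 124, 194, 125, 239, 223, 128, 137, 203, 222, 176, 212, 133, 231, 180, 135, 191, 177, 141, 232, 216, 143, 144, 161, 163, 154, 166, 170, 173, 152, 153, 179, 155, 174, 219, 167, 230, 221, 204, 213, 165, 238, 208, 205, 171, 187, 172, 198, 175, 178, 226, 181, 186, 202, 210, 184, 206, 220, 190, 207, 193, 211, 200, 215, 218, 201, 209, 237, 234, 235, 236, 233, 228]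

def succB : List ℕ := [2, 4, 6, 8, 10, 11, 13, 14, 16, 17, 19, 21, 22, 24, 26, 27, 29, 31, 32, 34, 35, 37, 39, 40, 3, 42, 44, 46, 47, 49, 50, 52, 54, 55, 7, 57, 58, 60, 61, 63, 65, 66, 68, 69, 56, 71, 73, 75, 76, 0, 77, 78, 80, 81, 83, 85, 1, 87, 89, 90, 15, 92, 93, 95, 96, 98, 100, 41, 102, 104, 105, 106, 107, 91, 109, 111, 113, 115, 117, 118, 25, 120, 121, 122, 123, 124, 125, 127, 128, 130, 132, 5, 133, 116, 135, 28, 137, 138, 140, 141, 143, 144, 119, 146, 94, 97, 150, 152, 153, 154, 155, 136, 156, 157, 158, 159, 160, 162, 164, 9, 165, 151, 43, 167, 169, 171, 172, 45, 174, 175, 176, 177, 178, 180, 181, 18, 12, 183, 170, 184, 48, 186, 187, 30, 190, 191, 192,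 193, 182, 194, 173, 195, 139, 142, 198, 189, 200, 185, 201, 67, 202, 203, 204, 205, 206, 208, 209, 131, 210, 70, 33, 212, 214, 20, 82, 199, 72, 148, 217, 145, 74, 219, 220, 221, 36, 23, 223, 207, 224, 188, 168, 126, 226, 88, 228, 229, 230, 222, 218, 231, 163, 213, 110, 227, 101, 64, 179, 59, 103, 211, 51, 161, 234, 235, 79, 166, 236, 108, 38, 129, 197, 112, 84, 237, 62, 215, 233, 238, 216, 147, 134, 232, 196, 53, 149, 99, 86, 114, 239, 225]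

def succB' : List ℕ := [49, 56, 0, 24, 1, 91, 2, 34, 3, 119, 4, 5, 136, 6, 7, 60, 8, 9, 135, 10, 173, 11, 12, 185, 13, 80, 14, 15, 95, 16, 143, 17, 18, 170, 19, 20, 184, 21, 218, 22, 23, 67, 25, 122, 26, 127, 27, 28, 140, 29, 30, 210, 31, 233, 32, 33, 44, 35, 36, 207, 37, 38, 224, 39, 205, 40, 41, 159, 42, 43, 169, 45, 176, 46, 180, 47, 48, 50, 51, 214, 52, 53, 174, 54, 222, 55, 236, 57, 193, 58, 59, 73, 61, 62, 104, 63, 64, 105, 65, 235, 66, 204, 68, 208, 69, 70, 71, 72, 217, 74, 202, 75, 221, 76, 237, 77, 93, 78, 79, 102, 81, 82, 83, 84, 85, 86, 191, 87, 88, 219, 89, 167, 90, 92, 230, 94, 111, 96, 97, 152, 98, 99, 153, 100, 101, 179, 103, 229, 177, 234, 106,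 121, 107, 108, 109, 110, 112, 113, 114, 115, 116, 211, 117, 200, 118, 120, 215, 123, 190, 124, 138, 125, 126, 150, 128, 129, 130, 131, 132, 206, 133, 134, 148, 137, 139, 157, 141, 142, 189, 155, 144, 145, 146, 147, 149, 151, 232, 220, 154, 175, 156, 158, 160, 161, 162, 163, 164, 187, 165, 166, 168, 209, 171, 201, 172, 225, 228, 178, 198, 181, 182, 183, 197, 186, 188, 239, 192, 203, 194, 195, 196, 199, 231, 226, 212, 213, 216, 223, 227, 238]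

/-- Checks that `elems` is closed under right multiplication by `g`, with indices `s`. -/
def closedBy (g : M4) (s : List ℕ) : Bool :=
  (elems.zip s).all (fun mj => decide (elems[mj.2]? = some (mj.1.mul g))) && s.length == elems.length

lemma closedA : closedBy genA succA = true := by decide +kernel
lemma closedA' : closedBy genA' succA' = true := by decide +kernel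
lemma closedB : closedBy genB succB = true := by decide +kernel
lemma closedB' : closedBy genB' succB' = true := by decide +kernel

/-- The shape of an element: identity, fixed point free of order 3 or 5, or a root of `-1`. -/
def goodShape (m : M4) : Bool :=
  decide (m = one) || decide ((one.add m).add (m.mul m) = zero) ||
    decide ((((one.add m).add (m.pow 2)).add (m.pow 3)).add (m.pow 4) = zero) ||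
    [1, 2, 3, 4, 5, 6].any (fun k => decide (m.pow k = negOne))

lemma elems_good : elems.all goodShape = true := by decide +kernel

def wit3 : M4 := ⟨2, 5, 3, 1, 1, 4, 1, 4, 2, 3, 2, 5, 3, 5, 1, 4⟩

lemma wit3_mem : wit3 ∈ elems := List.mem_of_getElem? (show elems[52]? = some wit3 by decide +kernel)

def wit4 : M4 := ⟨0, 0, 1, 0, 0, 0, 0, 1, 6, 0, 0, 0, 0, 6, 0, 0⟩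

lemma wit4_mem : wit4 ∈ elems := List.mem_of_getElem? (show elems[1]? = some wit4 by decide +kernel)

def wit5 : M4 := ⟨2, 6, 6, 0, 4, 3, 1, 1, 1, 1, 2, 3, 3, 6, 2, 6⟩

lemma wit5_mem : wit5 ∈ elems := List.mem_of_getElem? (show elems[6]? = some wit5 by decide +kernel)

def wit6 : M4 := ⟨2, 0, 3, 6, 0, 2, 0, 4, 6, 5, 6, 0, 0, 1, 0, 6⟩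

lemma wit6_mem : wit6 ∈ elems := List.mem_of_getElem? (show elems[54]? = some wit6 by decide +kernel)

def wit8 : M4 := ⟨3, 1, 2, 1, 1, 4, 3, 1, 6, 3, 5, 4, 2, 3, 4, 2⟩

lemma wit8_mem : wit8 ∈ elems := List.mem_of_getElem? (show elems[4]? = some wit8 by decide +kernel)

def wit10 : M4 := ⟨1, 4, 2, 3, 5, 4, 3, 5, 3, 1, 2, 1, 1, 4, 3, 1⟩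

lemma wit10_mem : wit10 ∈ elems := List.mem_of_getElem? (show elems[2]? = some wit10 by decide +kernel)

def wit12 : M4 := ⟨1, 1, 2, 3, 3, 6, 2, 6, 5, 1, 1, 0, 3, 4, 6, 6⟩

lemma wit12_mem : wit12 ∈ elems := List.mem_of_getElem? (show elems[10]? = some wit12 by decide +kernel)

def word3 : List Bool := [false, true, false, true, true, true]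
def word4 : List Bool := [false]
def word5 : List Bool := [true, true]
def word6 : List Bool := [false, true, true, false, true, true]
def word8 : List Bool := [false, true]
def word10 : List Bool := [true]
def word12 : List Bool := [false, true, true]

end Cfsg.Agent.RecogB.TwoSFive
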